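import Mathlib
import Cfsg.Prelude.Def_SporadicB
import Cfsg.Agent.Lib.Fus.SpinAltCommutator

/-!
# An involution centralizer that is a double cover of an alternating group: arithmetic of the lifts
-/

set_option autoImplicit false
set_option linter.unusedSectionVars false

namespace Cfsg.Agent.Invol.TwoAn

open Equiv Equiv.Perm

universe u

/-- A permutation of two disjoint transpositions. -/
def IsQuad {α : Type*} [Fintype α] [DecidableEq α] (σ : Perm α) : Prop :=
  σ * σ = 1 ∧ σ.support.card = 4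

/-- The centralizer of the involution `z` maps onto the alternating group with kernel generated by `z`. -/
structure Cfg (G : Type u) [Group G] (n : ℕ) where
  z : G
  hz : orderOf z = 2
  P : ↥(Subgroup.centralizer ({z} : Set G)) →* Perm (Fin n)
  even : ∀ g, sign (P g) = 1
  surj : ∀ σ : Perm (Fin n), sign σ = 1 → ∃ g, P g = σ
  ker : ∀ g, P g = 1 ↔ (g : G) = 1 ∨ (g : G) = z
  quad : ∀ g, IsQuad (P g) → (g : G) * g = z

variable {G : Type u} [Group G] {n : ℕ} (K : Cfg G n)

namespace Cfg

/-- `g` centralizes `z` and induces `σ`. -/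
def Img (g : G) (σ : Perm (Fin n)) : Prop :=
  ∃ h : g ∈ Subgroup.centralizer ({K.z} : Set G), K.P ⟨g, h⟩ = σ

variable {K}

theorem z_mul_z : K.z * K.z = 1 := by rw [← pow_two, ← K.hz, pow_orderOf_eq_one]

theorem z_ne_one : K.z ≠ 1 := fun e => by simpa [e] using K.hz

theorem z_inv : K.z⁻¹ = K.z := inv_eq_of_mul_eq_one_left z_mul_z

theorem mem_C {g : G} : g ∈ Subgroup.centralizer ({K.z} : Set G) ↔ g * K.z = K.z * g :=
  Subgroup.mem_centralizer_singleton_iff

theorem Img.comm {g : G} {σ : Perm (Fin n)} (h : K.Img g σ) : g * K.z = K.z * g := mem_C.1 h.choose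

theorem Img.mul {g y : G} {σ τ : Perm (Fin n)} (h : K.Img g σ) (h' : K.Img y τ) : K.Img (g * y) (σ * τ) := by
  obtain ⟨hg, rfl⟩ := h; obtain ⟨hy, rfl⟩ := h'
  exact ⟨mul_mem hg hy, by rw [← map_mul]; rfl⟩

theorem Img.inv {g : G} {σ : Perm (Fin n)} (h : K.Img g σ) : K.Img g⁻¹ σ⁻¹ := by
  obtain ⟨hg, rfl⟩ := h
  exact ⟨inv_mem hg, by rw [← map_inv]; rfl⟩

theorem Img.one : K.Img 1 1 := ⟨one_mem _, map_one _⟩

theorem Img.conj {g y : G} {σ τ : Perm (Fin n)} (h : K.Img g σ) (h' : K.Img y τ) :
    K.Img (g * y * g⁻¹) (σ * τ * σ⁻¹) := (h.mul h').mul h.inv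

theorem Img.pow {g : G} {σ : Perm (Fin n)} (h : K.Img g σ) : ∀ k : ℕ, K.Img (g ^ k) (σ ^ k)
  | 0 => by rw [pow_zero, pow_zero]; exact Img.one
  | k + 1 => by rw [pow_succ, pow_succ]; exact (Img.pow h k).mul h

theorem Img.unique {g : G} {σ τ : Perm (Fin n)} (h : K.Img g σ) (h' : K.Img g τ) : σ = τ := by
  obtain ⟨hg, rfl⟩ := h; obtain ⟨_, rfl⟩ := h'; rfl

theorem Img.sign_eq {g : G} {σ : Perm (Fin n)} (h : K.Img g σ) : sign σ = 1 := by
  obtain ⟨hg, rfl⟩ := h; exact K.even _

theorem img_z : K.Img K.z 1 := ⟨mem_C.2 rfl, (K.ker _).2 (Or.inr rfl)⟩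

theorem exists_img {σ : Perm (Fin n)} (hσ : sign σ = 1) : ∃ g, K.Img g σ := by
  obtain ⟨⟨g, hg⟩, h⟩ := K.surj σ hσ
  exact ⟨g, hg, h⟩

theorem exists_of_mem {g : G} (hg : g ∈ Subgroup.centralizer ({K.z} : Set G)) : ∃ σ, K.Img g σ := ⟨_, hg, rfl⟩

theorem Img.eq_or {g : G} (h : K.Img g 1) : g = 1 ∨ g = K.z := by
  obtain ⟨hg, h⟩ := h; exact (K.ker ⟨g, hg⟩).1 h

theorem Img.lift_eq {g y : G} {σ : Perm (Fin n)} (h : K.Img g σ) (h' : K.Img y σ) : y = g ∨ y = g * K.z := by
  have := h.inv.mul h'
  rw [inv_mul_cancel] at this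
  rcases this.eq_or with e | e
  · left; rw [← mul_one g, ← e]; group
  · right; rw [← e]; group

theorem Img.mul_z {g : G} {σ : Perm (Fin n)} (h : K.Img g σ) : K.Img (g * K.z) σ := by
  simpa using h.mul img_z

theorem Img.sq {g : G} {σ : Perm (Fin n)} (h : K.Img g σ) (hq : IsQuad σ) : g * g = K.z := by
  obtain ⟨hg, rfl⟩ := h; exact K.quad ⟨g, hg⟩ hq

/-- Lifts of commuting elements commute up to `z`. -/
theorem Img.comm_or {g y : G} {σ τ : Perm (Fin n)} (h : K.Img g σ) (h' : K.Img y τ) (hc : Commute σ τ) :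
    y * g = g * y ∨ y * g = g * y * K.z := (h.mul h').lift_eq (hc.eq.symm ▸ h'.mul h)

theorem pow_z {k : ℕ} (hk : Odd k) : K.z ^ k = K.z := by
  obtain ⟨j, rfl⟩ := hk
  rw [pow_succ, pow_mul, pow_two, z_mul_z, one_pow, one_mul]

/-- An element of odd order commutes with whatever commutes with its image. -/
theorem Img.commute_odd {g y : G} {σ τ : Perm (Fin n)} (h : K.Img g σ) (h' : K.Img y τ) (hc : Commute σ τ)
    {k : ℕ} (hk : Odd k) (hg : g ^ k = 1) : Commute g y := by
  rcases h.comm_or h' hc with e | e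
  · exact e.symm
  · exfalso
    have e' : y * g * y⁻¹ = g * K.z := by
      rw [e, mul_assoc (g * y), ← h'.inv.comm, mul_assoc, ← mul_assoc y, mul_inv_cancel, one_mul]
    have := congrArg (fun w => w ^ k) e'
    simp only [conj_pow] at this
    rw [hg, mul_one, mul_inv_cancel, (show Commute g K.z from h.comm).mul_pow, hg, one_mul, pow_z hk] at this
    exact z_ne_one this.symm

/-- Every element of odd order of the alternating group has a lift of that order. -/
theorem exists_img_odd {σ : Perm (Fin n)} {k : ℕ} (hk : Odd k) (hσ : σ ^ k = 1) :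
    ∃ g, K.Img g σ ∧ g ^ k = 1 := by
  have hs : sign σ = 1 := by
    rcases Int.units_eq_one_or (sign σ) with h | h
    · exact h
    · exfalso
      have := congrArg sign hσ
      rw [map_pow, h, map_one, hk.neg_one_pow] at this
      exact absurd this (by decide)
  obtain ⟨g, hg⟩ := exists_img (K := K) hs
  have h1 := hg.pow k
  rw [hσ] at h1
  rcases h1.eq_or with e | e
  · exact ⟨g, hg, e⟩
  · refine ⟨g * K.z, hg.mul_z, ?_⟩
    rw [(show Commute g K.z from hg.comm).mul_pow, e, pow_z hk, z_mul_z]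

/-- Two quads with a quad as product have anticommuting lifts. -/
theorem Img.anticomm {g y : G} {σ τ : Perm (Fin n)} (h : K.Img g σ) (h' : K.Img y τ) (hσ : IsQuad σ)
    (hτ : IsQuad τ) (hp : IsQuad (σ * τ)) : g * y = y * g * K.z := by
  have h1 := (h.mul h').sq hp
  have ey : y⁻¹ = y * K.z := inv_eq_of_mul_eq_one_right (by rw [← mul_assoc, h'.sq hτ, z_mul_z])
  have eg : g⁻¹ = g * K.z := inv_eq_of_mul_eq_one_right (by rw [← mul_assoc, h.sq hσ, z_mul_z])
  calc g * y = K.z * (y⁻¹ * g⁻¹) := by
        rw [eq_mul_inv_of_mul_eq (a := g * y) (c := g * y) h1, mul_inv_rev]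
    _ = K.z * (y * K.z * (g * K.z)) := by rw [ey, eg]
    _ = K.z * (y * g * (K.z * K.z)) := by
        rw [show y * K.z * (g * K.z) = y * g * (K.z * K.z) by
          rw [mul_assoc y K.z, ← mul_assoc K.z g, ← h.comm]; group]
    _ = K.z * (y * g) := by rw [z_mul_z, mul_one]
    _ = y * g * K.z := ((h'.mul h).comm).symm

theorem sign_quad {a b c d : Fin n} (hab : a ≠ b) (hcd : c ≠ d) : sign (swap a b * swap c d) = 1 :=
  Cfsg.Agent.Fus.SpinComm.sign_swap_mul hab hcd

theorem three_cube {α : Type*} [Fintype α] [DecidableEq α] {a b c : α} (hab : a ≠ b) (hac : a ≠ c)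
    (hbc : b ≠ c) : (swap a b * swap b c) ^ 3 = 1 := by
  have h : (swap a b * swap b c).IsThreeCycle := by
    rw [swap_comm a b]
    exact isThreeCycle_swap_mul_swap_same hab.symm hbc hac
  rw [← h.orderOf, pow_orderOf_eq_one]

theorem swap_commute {α : Type*} [DecidableEq α] {a b : α} {τ : Perm α} (ha : τ a = a) (hb : τ b = b) :
    Commute (swap a b) τ := by
  have := Equiv.mul_swap_eq_swap_mul τ a b
  rw [ha, hb] at this
  exact this.symm

/-- The lift of a quad commutes with what fixes the four points. -/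
theorem Img.commute_quad {g y : G} {a b c d : Fin n} {τ : Perm (Fin n)} (hab : a ≠ b) (hac : a ≠ c)
    (hbc : b ≠ c) (hbd : b ≠ d) (hcd : c ≠ d) (h : K.Img g (swap a b * swap c d)) (h' : K.Img y τ)
    (ha : τ a = a) (hb : τ b = b) (hc : τ c = c) (hd : τ d = d) : Commute g y := by
  have e1 : swap a b * swap c d = (swap a b * swap b c) * (swap b c * swap c d) := by
    rw [mul_assoc, ← mul_assoc (swap b c), swap_mul_self, one_mul]
  obtain ⟨u₁, hu₁, hu₁3⟩ := exists_img_odd (K := K) (by decide : Odd 3) (three_cube hab hac hbc)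
  obtain ⟨u₂, hu₂, hu₂3⟩ := exists_img_odd (K := K) (by decide : Odd 3) (three_cube hbc hbd hcd)
  have c1 : Commute u₁ y := hu₁.commute_odd h' ((swap_commute ha hb).mul_left (swap_commute hb hc))
    (by decide : Odd 3) hu₁3
  have c2 : Commute u₂ y := hu₂.commute_odd h' ((swap_commute hb hc).mul_left (swap_commute hc hd))
    (by decide : Odd 3) hu₂3
  rcases (e1 ▸ hu₁.mul hu₂ : K.Img (u₁ * u₂) (swap a b * swap c d)).lift_eq h with rfl | rfl
  · exact c1.mul_left c2
  · exact (c1.mul_left c2).mul_left h'.comm.symm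

theorem exists_quad_pts {α : Type*} [Fintype α] [DecidableEq α] {σ : Perm α} (hσ : σ * σ = 1)
    (h : σ ≠ 1) : ∃ a, σ a ≠ a ∧ σ (σ a) = a := by
  obtain ⟨a, ha⟩ : ∃ a, σ a ≠ a := not_forall.1 fun e => h (Equiv.ext e)
  exact ⟨a, ha, by rw [← Perm.mul_apply, hσ, Perm.one_apply]⟩

theorem Img.sq_invol : ∀ (k : ℕ) {g : G} {σ : Perm (Fin n)}, K.Img g σ → σ * σ = 1 → σ.support.card = 4 * k →
    g * g = K.z ^ k
  | 0, g, σ, h, _, hc => by
      rw [mul_zero, card_support_eq_zero] at hc
      subst hc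
      rw [pow_zero]
      rcases h.eq_or with rfl | rfl
      · rw [one_mul]
      · exact z_mul_z
  | k + 1, g, σ, h, h2, hc => by
      have hap : ∀ x, σ (σ x) = x := fun x => by rw [← Perm.mul_apply, h2, Perm.one_apply]
      obtain ⟨a, ha⟩ := Finset.card_pos.1 (show 0 < σ.support.card by omega)
      have ha' : σ a ≠ a := mem_support.1 ha
      obtain ⟨c, hc1, hc2⟩ : ∃ c ∈ σ.support, c ∉ ({a, σ a} : Finset (Fin n)) := by
        by_contra hno
        push_neg at hno
        have := (Finset.card_le_card (fun c hc => hno c hc : σ.support ⊆ {a, σ a})).trans Finset.card_le_two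
        omega
      simp only [Finset.mem_insert, Finset.mem_singleton, not_or] at hc2
      have hc' : σ c ≠ c := mem_support.1 hc1
      have d1 : a ≠ σ a := ha'.symm
      have d2 : a ≠ c := fun e => hc2.1 e.symm
      have d3 : a ≠ σ c := fun e => hc2.2 (by rw [e, hap])
      have d4 : σ a ≠ c := fun e => hc2.2 e.symm
      have d5 : σ a ≠ σ c := fun e => d2 (σ.injective e)
      have d6 : c ≠ σ c := hc'.symm
      set q := swap a (σ a) * swap c (σ c) with hq
      have cA : Commute (swap a (σ a)) σ := by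
        have := Equiv.mul_swap_eq_swap_mul σ a (σ a)
        rw [hap, swap_comm (σ a) a] at this
        exact this.symm
      have cC : Commute (swap c (σ c)) σ := by
        have := Equiv.mul_swap_eq_swap_mul σ c (σ c)
        rw [hap, swap_comm (σ c) c] at this
        exact this.symm
      have hqq : IsQuad q := ⟨(Cfsg.Agent.Fus.SpinComm.quad_support ⟨d1, d2, d3, d4, d5, d6⟩).2,
        (Cfsg.Agent.Fus.SpinComm.quad_support ⟨d1, d2, d3, d4, d5, d6⟩).1⟩
      set r := q * σ with hr
      have cq : Commute q σ := cA.mul_left cC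
      have hrr : r * r = 1 := by
        rw [hr, ← pow_two, cq.mul_pow, pow_two, pow_two, hqq.1, h2, one_mul]
      have hval : ∀ x, r x = if x ∈ ({a, σ a, c, σ c} : Finset (Fin n)) then x else σ x := by
        intro x
        split_ifs with hx
        · simp only [Finset.mem_insert, Finset.mem_singleton] at hx
          rcases hx with rfl | rfl | rfl | rfl <;>
            simp [hr, hq, Perm.mul_apply, hap, swap_apply_of_ne_of_ne, d1, d1.symm, d2, d2.symm, d3, d3.symm,
              d4, d4.symm, d5, d5.symm, d6, d6.symm]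
        · simp only [Finset.mem_insert, Finset.mem_singleton, not_or] at hx
          obtain ⟨x1, x2, x3, x4⟩ := hx
          have y1 : σ x ≠ a := fun e => x2 (by rw [← e, hap])
          have y2 : σ x ≠ σ a := fun e => x1 (σ.injective e)
          have y3 : σ x ≠ c := fun e => x4 (by rw [← e, hap])
          have y4 : σ x ≠ σ c := fun e => x3 (σ.injective e)
          simp [hr, hq, Perm.mul_apply, swap_apply_of_ne_of_ne y1 y2, swap_apply_of_ne_of_ne y3 y4]
      have hrs : r.support = σ.support \ {a, σ a, c, σ c} := by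
        ext x
        rw [Finset.mem_sdiff, mem_support, mem_support, hval]
        split_ifs with hx <;> simp [hx]
      have hsub : ({a, σ a, c, σ c} : Finset (Fin n)) ⊆ σ.support := by
        intro x hx
        simp only [Finset.mem_insert, Finset.mem_singleton] at hx
        rcases hx with rfl | rfl | rfl | rfl <;> simp [mem_support, hap, ha', hc', ha'.symm, hc'.symm]
      have hrc : r.support.card = 4 * k := by
        rw [hrs, Finset.card_sdiff_of_subset hsub, hc]
        simp [d1, d2, d3, d4, d5, d6]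
        omega
      have hσr : σ = q * r := by rw [hr, ← mul_assoc, hqq.1, one_mul]
      obtain ⟨u, hu⟩ := exists_img (K := K) (sign_quad d1 d6)
      have hv : K.Img (u⁻¹ * g) r := by
        have := hu.inv.mul h
        rwa [show q⁻¹ = q from inv_eq_of_mul_eq_one_left hqq.1] at this
      have hcomm : Commute u (u⁻¹ * g) :=
        hu.commute_quad d1 d2 d4 d5 d6 hv (by simp [hval]) (by simp [hval]) (by simp [hval]) (by simp [hval])
      calc g * g = (u * (u⁻¹ * g)) ^ 2 := by rw [mul_inv_cancel_left, pow_two]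
        _ = u * u * ((u⁻¹ * g) * (u⁻¹ * g)) := by rw [hcomm.mul_pow, pow_two, pow_two]
        _ = K.z ^ (k + 1) := by rw [hu.sq hqq, Img.sq_invol k hv hrr hrc, pow_succ']

/-- The image of an involution other than `z` moves a multiple of eight points. -/
theorem exists_support {g : G} {σ : Perm (Fin n)} (h : K.Img g σ) (hg : g * g = 1) (hne : g ≠ 1)
    (hnz : g ≠ K.z) : σ * σ = 1 ∧ ∃ m, 1 ≤ m ∧ σ.support.card = 8 * m := by
  have h2 : σ * σ = 1 := (h.mul h).unique (by rw [hg]; exact Img.one)
  refine ⟨h2, ?_⟩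
  obtain ⟨l, -, hl, hs⟩ := Cfsg.Agent.Fus.SpinComm.invol_type h2
  rw [h.sign_eq] at hs
  have hle : l % 2 = 0 := by
    rcases Nat.mod_two_eq_zero_or_one l with e | e
    · exact e
    · rw [Odd.neg_one_pow (Nat.odd_iff.2 e)] at hs; exact absurd hs (by decide)
  obtain ⟨j, rfl⟩ : 2 ∣ l := Nat.dvd_of_mod_eq_zero hle
  have hk := Img.sq_invol j h h2 (by omega)
  rw [hg] at hk
  rcases Nat.even_or_odd' j with ⟨i, rfl | rfl⟩
  · refine ⟨i, ?_, by omega⟩
    by_contra hi
    have h0 : σ.support.card = 0 := by omega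
    rw [card_support_eq_zero] at h0
    subst h0
    rcases h.eq_or with e | e
    · exact hne e
    · exact hnz e
  · rw [pow_succ, pow_mul, pow_two, z_mul_z, one_pow, one_mul] at hk
    exact absurd hk.symm z_ne_one

/-- Involutions of the alternating group with supports of one size are conjugate in it. -/
theorem conj_even {σ τ : Perm (Fin n)} (hσ : σ * σ = 1) (hτ : τ * τ = 1) (h1 : σ ≠ 1)
    (hc : σ.support.card = τ.support.card) : ∃ ρ : Perm (Fin n), sign ρ = 1 ∧ ρ * σ * ρ⁻¹ = τ := by
  obtain ⟨ρ, hρ⟩ := Cfsg.Agent.Fus.SpinComm.invol_conj hσ hτ hc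
  rcases Int.units_eq_one_or (sign ρ) with h | h
  · exact ⟨ρ, h, hρ⟩
  obtain ⟨a, ha, ha'⟩ := exists_quad_pts hσ h1
  refine ⟨ρ * swap a (σ a), by rw [map_mul, h, sign_swap ha.symm]; rfl, ?_⟩
  have cA : Commute (swap a (σ a)) σ := by
    have := Equiv.mul_swap_eq_swap_mul σ a (σ a)
    rw [ha', swap_comm (σ a) a] at this
    exact this.symm
  rw [mul_assoc ρ _ σ, cA.eq, mul_inv_rev, mul_assoc ρ, mul_assoc σ, ← mul_assoc (swap a (σ a)),
    mul_inv_cancel, one_mul, ← mul_assoc, hρ]

/-- From the statement's hypothesis. -/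
theorem exists_cfg [Finite G] (hn : 5 ≤ n) {z : G} (hz : orderOf z = 2)
    (hcov : Cfsg.IsNonsplitDoubleCover (Subgroup.centralizer ({z} : Set G)) (alternatingGroup (Fin n))) :
    ∃ K : Cfg G n, K.z = z := by
  classical
  obtain ⟨h2, ⟨e⟩, hns⟩ := hcov
  set C := Subgroup.centralizer ({z} : Set G)
  set Z := Subgroup.center C with hZ
  let π : C →* alternatingGroup (Fin n) := e.toMonoidHom.comp (QuotientGroup.mk' Z)
  have hπ : Function.Surjective π := e.surjective.comp (QuotientGroup.mk'_surjective Z)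
  have hker : π.ker = Z := by
    exact (MonoidHom.ker_comp_of_injective _ _ e.injective).trans (QuotientGroup.ker_mk' Z)
  let f : C →* Perm (Fin n) := (alternatingGroup (Fin n)).subtype.comp π
  have hfk : f.ker = Z := by
    exact (MonoidHom.ker_comp_of_injective _ _ (Subgroup.subtype_injective _)).trans hker
  set zc : C := ⟨z, Subgroup.mem_centralizer_singleton_iff.2 rfl⟩ with hzc
  have hzZ : zc ∈ Z := Subgroup.mem_center_iff.2 fun g => Subtype.ext (Subgroup.mem_centralizer_singleton_iff.1 g.2)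
  have hzne : zc ≠ 1 := fun h => by
    have h' : z = 1 := congrArg Subtype.val h
    rw [h', orderOf_one] at hz; omega
  have hZ2 : ∀ w ∈ Z, w = 1 ∨ w = zc := by
    intro w hw
    obtain ⟨⟨x, hx⟩, ⟨y, hy⟩, hne, hall⟩ := Nat.card_eq_two_iff.1 h2
    have mk : ∀ v ∈ Z, v = x ∨ v = y := fun v hv => by
      have := (Set.eq_univ_iff_forall.1 hall) ⟨v, hv⟩
      rcases this with h | h
      · exact Or.inl (congrArg Subtype.val h)
      · exact Or.inr (congrArg Subtype.val h)
    rcases mk w hw with rfl | rfl <;> rcases mk zc hzZ with e | e <;> rcases mk 1 Z.one_mem with e' | e' <;>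
      first
      | exact Or.inr e.symm
      | exact Or.inl e'.symm
      | exact absurd (e.trans e'.symm) hzne
  have hperf : commutator C = ⊤ := by
    have hA : commutator (alternatingGroup (Fin n)) = ⊤ := by
      haveI : IsSimpleGroup (alternatingGroup (Fin n)) := alternatingGroup.isSimpleGroup (by simpa using hn)
      refine (IsSimpleGroup.eq_bot_or_eq_top_of_normal _ inferInstance).resolve_left fun h => ?_
      rw [commutator_eq_bot_iff_center_eq_top] at h
      have hc := alternatingGroup.center_eq_bot (α := Fin n) (by simp; omega)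
      rw [hc] at h
      exact bot_ne_top h
    by_contra hne
    refine hns (commutator C) (Subgroup.isComplement'_of_disjoint_and_mul_eq_univ ?_ ?_)
    · rw [disjoint_iff, Subgroup.eq_bot_iff_forall]
      rintro w ⟨hwZ, hwC⟩
      rcases hZ2 w hwZ with rfl | rfl
      · rfl
      · exfalso
        refine hne (eq_top_iff.2 fun g _ => ?_)
        obtain ⟨k, hk, hkg⟩ : ∃ k ∈ commutator C, π k = π g := by
          have : π g ∈ (commutator C).map π := by
            rw [show (commutator C).map π = ⊤ by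
              rw [commutator_def, Subgroup.map_commutator, Subgroup.map_top_of_surjective _ hπ, ← commutator_def, hA]]
            exact Subgroup.mem_top _
          exact Subgroup.mem_map.1 this
        have hd : k⁻¹ * g ∈ Z := by rw [← hker, MonoidHom.mem_ker, map_mul, map_inv, hkg, inv_mul_cancel]
        rw [show g = k * (k⁻¹ * g) by group]
        rcases hZ2 _ hd with e | e <;> rw [e]
        · exact mul_mem hk (one_mem _)
        · exact mul_mem hk hwC
    · rw [Set.eq_univ_iff_forall]
      intro g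
      obtain ⟨k, hk, hkg⟩ : ∃ k ∈ commutator C, π k = π g := by
        have : π g ∈ (commutator C).map π := by
          rw [show (commutator C).map π = ⊤ by
            rw [commutator_def, Subgroup.map_commutator, Subgroup.map_top_of_surjective _ hπ, ← commutator_def, hA]]
          exact Subgroup.mem_top _
        exact Subgroup.mem_map.1 this
      refine ⟨g * k⁻¹, ?_, k, hk, by group⟩
      show g * k⁻¹ ∈ Z
      rw [← hker, MonoidHom.mem_ker, map_mul, map_inv, hkg, mul_inv_cancel]
  have heven : ∀ g, sign (f g) = 1 := fun g => Perm.mem_alternatingGroup.1 (π g).2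
  have hsurj : ∀ σ : Perm (Fin n), sign σ = 1 → ∃ g, f g = σ := fun σ hσ => by
    obtain ⟨g, hg⟩ := hπ ⟨σ, Perm.mem_alternatingGroup.2 hσ⟩
    exact ⟨g, congrArg Subtype.val hg⟩
  have hk1 : ∀ g : C, f g = 1 ↔ (g : G) = 1 ∨ (g : G) = z := by
    intro g
    rw [← MonoidHom.mem_ker, hfk]
    refine ⟨fun h => ?_, fun h => ?_⟩
    · rcases hZ2 g h with rfl | rfl
      · exact Or.inl rfl
      · exact Or.inr rfl
    · rcases h with h | h
      · rw [show g = 1 from Subtype.ext h]; exact one_mem _
      · rw [show g = zc from Subtype.ext h]; exact hzZ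
  refine ⟨⟨z, hz, f, heven, hsurj, hk1, fun g hg => ?_⟩, rfl⟩
  haveI : Nontrivial (Fin (n - 2)) := Fin.nontrivial_iff_two_le.2 (by omega)
  obtain ⟨ε⟩ : Nonempty (Fin n ≃ Lie.Carmichael.Pt (Fin (n - 2))) := ⟨Fintype.equivOfCardEq (by
    simp [Lie.Carmichael.Pt]; omega)⟩
  let D : Fus.SpinComm.Cover C (Lie.Carmichael.Pt (Fin (n - 2))) :=
    { f := ε.permCongrHom.toMonoidHom.comp f
      even := fun g => by
        show sign (ε.permCongr (f g)) = 1
        rw [sign_permCongr]; exact heven g
      surj := fun p hp => by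
        obtain ⟨g, hg⟩ := hsurj (ε.symm.permCongr p) (by rw [sign_permCongr]; exact hp)
        refine ⟨g, ?_⟩
        show ε.permCongr (f g) = p
        rw [hg]; ext x; simp [Equiv.permCongr_apply]
      ker := (MonoidHom.ker_comp_of_injective _ _ ε.permCongrHom.injective).trans hfk
      two := h2 }
  have hsup : ∀ Y, (D.f Y).support.card = (f Y).support.card := by
    intro Y
    refine Finset.card_bij' (fun x _ => ε.symm x) (fun x _ => ε x) ?_ ?_ ?_ ?_
    all_goals intro x hx
    · simp only [mem_support] at hx ⊢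
      intro h
      apply hx
      show ε.permCongr (f Y) x = x
      rw [Equiv.permCongr_apply, h, Equiv.apply_symm_apply]
    · simp only [mem_support] at hx ⊢
      intro h
      apply hx
      have h' : ε.permCongr (f Y) (ε x) = ε x := h
      rw [Equiv.permCongr_apply, Equiv.symm_apply_apply] at h'
      exact ε.injective h'
    · simp
    · simp
  obtain ⟨Y, hY4, hY2, hYne⟩ : ∃ Y : C, (f Y).support.card = 4 ∧ f Y * f Y = 1 ∧ Y ^ 2 ≠ 1 := by
    by_contra hno
    push_neg at hno
    refine Fus.SpinComm.no_split D hperf fun Y h4 h22 => hno Y (hsup Y ▸ h4) (ε.permCongrHom.injective ?_)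
    rw [map_mul, map_one]
    exact h22
  have hYY : Y ^ 2 = zc := by
    refine (hZ2 _ ?_).resolve_left hYne
    rw [← hfk, MonoidHom.mem_ker, map_pow, pow_two, hY2]
  obtain ⟨ρ, hρs, hρ⟩ := conj_even hY2 hg.1 (fun h => by rw [h, support_one] at hY4; simp at hY4)
    (hY4.trans hg.2.symm)
  obtain ⟨R, rfl⟩ := hsurj ρ hρs
  have hd : (R * Y * R⁻¹)⁻¹ * g ∈ Z := by
    rw [← hfk, MonoidHom.mem_ker, map_mul, map_inv f (R * Y * R⁻¹), map_mul, map_mul, map_inv, hρ, inv_mul_cancel]
  have hgg : g * g = zc := by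
    set w := (R * Y * R⁻¹)⁻¹ * g with hw
    rw [show g = R * Y * R⁻¹ * w by rw [hw]; group]
    have cw : Commute (R * Y * R⁻¹) w := Subgroup.mem_center_iff.1 hd _
    have hw2 : w * w = 1 := by
      rcases hZ2 w hd with ew | ew <;> rw [ew]
      · rw [one_mul]
      · apply Subtype.ext
        show z * z = 1
        rw [← pow_two, ← hz, pow_orderOf_eq_one]
    rw [← pow_two, cw.mul_pow, conj_pow, hYY, pow_two w, hw2, mul_one, Subgroup.mem_center_iff.1 hzZ R,
      mul_inv_cancel_right]
  exact congrArg Subtype.val hgg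

end Cfg

end Cfsg.Agent.Invol.TwoAn
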