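import Mathlib
import Cfsg.Agent.Lib.Invol.TwoAn.Lift
import Cfsg.Agent.Lib.Invol.ZStar

/-!
# An involution centralizer that is a double cover of an alternating group: the involutions fused to the central one
-/

set_option autoImplicit false
set_option linter.unusedSectionVars false

namespace Cfsg.Agent.Invol.TwoAn

open Equiv Equiv.Perm

universe u

variable {G : Type u} [Group G] {n : ℕ}

/-- The cycle product moving the blocks `{i, x i}`, `{p, x p}`, `{r, x r}` cyclically. -/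
def blockCycle (x : Perm (Fin n)) (i p r : Fin n) : Perm (Fin n) :=
  swap i p * swap p r * (swap (x i) (x p) * swap (x p) (x r))

/-- The flip of two blocks. -/
def flip2 (x : Perm (Fin n)) (i p : Fin n) : Perm (Fin n) := swap i (x i) * swap p (x p)

theorem conj_swap (ρ : Perm (Fin n)) (a b : Fin n) : ρ * swap a b * ρ⁻¹ = swap (ρ a) (ρ b) :=
  (swap_apply_apply ρ a b).symm

/-- Three blocks with distinct points. -/
structure Blocks (x : Perm (Fin n)) (i p r : Fin n) : Prop where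
  inv : x * x = 1
  hi : x i ≠ i
  hp : x p ≠ p
  hr : x r ≠ r
  ip : i ≠ p
  ir : i ≠ r
  pr : p ≠ r
  ip' : x i ≠ p
  ir' : x i ≠ r
  pr' : x p ≠ r

namespace Blocks

variable {x : Perm (Fin n)} {i p r : Fin n} (B : Blocks x i p r)
include B

theorem app (a : Fin n) : x (x a) = a := by rw [← Perm.mul_apply, B.inv, Perm.one_apply]

theorem pi : p ≠ i := B.ip.symm
theorem ri : r ≠ i := B.ir.symm
theorem rp : r ≠ p := B.pr.symm
theorem ip'' : i ≠ x p := fun e => B.ip' (by rw [e, B.app])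
theorem ir'' : i ≠ x r := fun e => B.ir' (by rw [e, B.app])
theorem pr'' : p ≠ x r := fun e => B.pr' (by rw [e, B.app])
theorem xip : x i ≠ x p := fun e => B.ip (x.injective e)
theorem xir : x i ≠ x r := fun e => B.ir (x.injective e)
theorem xpr : x p ≠ x r := fun e => B.pr (x.injective e)

theorem cube : blockCycle x i p r ^ 3 = 1 := by
  have hc : Commute (swap i p * swap p r) (swap (x i) (x p) * swap (x p) (x r)) := by
    refine Commute.mul_left (Cfg.swap_commute ?_ ?_) (Cfg.swap_commute ?_ ?_) <;>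
      simp [Perm.mul_apply, swap_apply_of_ne_of_ne, B.hi.symm, B.hp.symm, B.hr.symm, B.ip'', B.ir'', B.pr'',
        B.ip'.symm, B.ir'.symm, B.pr'.symm]
  rw [blockCycle, hc.mul_pow, Cfg.three_cube B.ip B.ir B.pr, Cfg.three_cube B.xip B.xir B.xpr, one_mul]

theorem comm : Commute (blockCycle x i p r) x := by
  have hc : Commute (swap i p * swap p r) (swap (x i) (x p) * swap (x p) (x r)) := by
    refine Commute.mul_left (Cfg.swap_commute ?_ ?_) (Cfg.swap_commute ?_ ?_) <;>
      simp [Perm.mul_apply, swap_apply_of_ne_of_ne, B.hi.symm, B.hp.symm, B.hr.symm, B.ip'', B.ir'', B.pr'',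
        B.ip'.symm, B.ir'.symm, B.pr'.symm]
  have e : x * blockCycle x i p r * x⁻¹ = blockCycle x i p r := by
    have e1 : x * blockCycle x i p r * x⁻¹ = x * swap i p * x⁻¹ * (x * swap p r * x⁻¹) *
        (x * swap (x i) (x p) * x⁻¹ * (x * swap (x p) (x r) * x⁻¹)) := by rw [blockCycle]; group
    rw [e1, conj_swap, conj_swap, conj_swap, conj_swap, B.app, B.app, B.app]
    exact hc.eq.symm
  exact (mul_inv_eq_iff_eq_mul.1 e).symm

theorem app_i : blockCycle x i p r i = p := by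
  simp [blockCycle, Perm.mul_apply, swap_apply_of_ne_of_ne, B.hi.symm, B.ip'', B.ir'', B.ip, B.ir]

theorem app_p : blockCycle x i p r p = r := by
  simp [blockCycle, Perm.mul_apply, swap_apply_of_ne_of_ne, B.hp.symm, B.ip'.symm, B.pr'', B.pr, B.ip, B.ri, B.rp]

theorem app_r : blockCycle x i p r r = i := by
  simp [blockCycle, Perm.mul_apply, swap_apply_of_ne_of_ne, B.hr.symm, B.ir'.symm, B.pr'.symm, B.pr, B.ip, B.rp]

theorem app_x (a : Fin n) : blockCycle x i p r (x a) = x (blockCycle x i p r a) := by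
  rw [← Perm.mul_apply, B.comm.eq, Perm.mul_apply]

theorem flip_conj :
    blockCycle x i p r * flip2 x i p * (blockCycle x i p r)⁻¹ = flip2 x p r ∧
      blockCycle x i p r * flip2 x p r * (blockCycle x i p r)⁻¹ = flip2 x i p * flip2 x p r := by
  have e : ∀ a b : Fin n, blockCycle x i p r * flip2 x a b * (blockCycle x i p r)⁻¹ =
      swap (blockCycle x i p r a) (x (blockCycle x i p r a)) * swap (blockCycle x i p r b) (x (blockCycle x i p r b)) :=
    fun a b => by
      rw [flip2, show ∀ A B R : Perm (Fin n), R * (A * B) * R⁻¹ = R * A * R⁻¹ * (R * B * R⁻¹) from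
        fun A B R => by group, conj_swap, conj_swap, B.app_x, B.app_x]
  constructor
  · rw [e, B.app_i, B.app_p]; rfl
  · rw [e, B.app_p, B.app_r]
    have hc : Commute (swap i (x i)) (swap r (x r)) :=
      Cfg.swap_commute (swap_apply_of_ne_of_ne B.ir B.ir'') (swap_apply_of_ne_of_ne B.ir' B.xir)
    rw [← hc.eq, flip2, flip2, mul_assoc (swap i (x i)), ← mul_assoc (swap p (x p)), swap_mul_self, one_mul]

theorem flip_quad : IsQuad (flip2 x i p) := by
  obtain ⟨h4, h2⟩ := Fus.SpinComm.quad_support ⟨B.hi.symm, B.ip, B.ip'', B.ip', B.xip, B.hp.symm⟩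
  exact ⟨h2, h4⟩

theorem flip_or (a : Fin n) : flip2 x i p a = a ∨ flip2 x i p a = x a := by
  by_cases h1 : a = i
  · right; subst h1; simp [flip2, Perm.mul_apply, swap_apply_of_ne_of_ne, B.ip, B.ip'']
  by_cases h2 : a = x i
  · right; subst h2; rw [B.app]; simp [flip2, Perm.mul_apply, swap_apply_of_ne_of_ne, B.ip', B.xip]
  by_cases h3 : a = p
  · right; subst h3; simp [flip2, Perm.mul_apply, swap_apply_of_ne_of_ne, B.ip''.symm, B.xip.symm]
  by_cases h4 : a = x p
  · right; subst h4; rw [B.app]; simp [flip2, Perm.mul_apply, swap_apply_of_ne_of_ne, B.pi, B.ip'.symm]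
  left; simp [flip2, Perm.mul_apply, swap_apply_of_ne_of_ne, h1, h2, h3, h4]

end Blocks

namespace Cfg

variable {K : Cfg G n}

theorem comm_z {g : G} {σ : Perm (Fin n)} (h : K.Img g σ) : Commute g K.z := h.comm

/-- A flip of two of at least three blocks commutes with the involution. -/
theorem flip_commute {s q : G} {x : Perm (Fin n)} {i p r : Fin n} (B : Blocks x i p r) (hs : K.Img s x)
    (hq : K.Img q (flip2 x i p)) : Commute q s := by
  obtain ⟨d, hd, hd3⟩ := exists_img_odd (K := K) (by decide : Odd 3) B.cube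
  have cd : Commute d s := hd.commute_odd hs B.comm (by decide : Odd 3) hd3
  have hx : Commute (flip2 x i p) x := by
    have h1 : ∀ a, Commute (swap a (x a)) x := fun a => by
      have := Equiv.mul_swap_eq_swap_mul x a (x a)
      rw [B.app, swap_comm (x a) a] at this
      exact this.symm
    exact (h1 i).mul_left (h1 p)
  rcases hq.comm_or hs hx with e | e
  · exact e.symm
  exfalso
  set q2 := d * q * d⁻¹ with hq2
  have h2 : K.Img q2 (flip2 x p r) := B.flip_conj.1 ▸ hd.conj hq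
  have h3 : K.Img (d * q2 * d⁻¹) (flip2 x i p * flip2 x p r) := B.flip_conj.2 ▸ hd.conj h2
  have act : ∀ w, w * s * w⁻¹ = s * K.z → (d * w * d⁻¹) * s * (d * w * d⁻¹)⁻¹ = s * K.z := fun w hw => by
    have e1 : d * s * d⁻¹ = s := by rw [cd.eq, mul_inv_cancel_right]
    have e2 : d * K.z * d⁻¹ = K.z := by rw [hd.comm, mul_inv_cancel_right]
    calc (d * w * d⁻¹) * s * (d * w * d⁻¹)⁻¹ = d * (w * (d⁻¹ * s * d) * w⁻¹) * d⁻¹ := by group
      _ = d * (w * s * w⁻¹) * d⁻¹ := by rw [mul_assoc d⁻¹, ← cd.eq, inv_mul_cancel_left]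
      _ = (d * s * d⁻¹) * (d * K.z * d⁻¹) := by rw [hw]; group
      _ = s * K.z := by rw [e1, e2]
  have a1 : q * s * q⁻¹ = s * K.z := by
    have : q * s = s * q * K.z := by rw [e, mul_assoc, z_mul_z, mul_one]
    rw [this, mul_assoc, ← hq.inv.comm, ← mul_assoc, mul_inv_cancel_right]
  have a2 := act q a1
  have a3 := act q2 a2
  have a4 : (q * q2) * s * (q * q2)⁻¹ = s := by
    calc (q * q2) * s * (q * q2)⁻¹ = q * (q2 * s * q2⁻¹) * q⁻¹ := by group
      _ = q * s * q⁻¹ * (q * K.z * q⁻¹) := by rw [a2]; group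
      _ = s := by rw [a1, hq.comm, mul_inv_cancel_right, mul_assoc, z_mul_z, mul_one]
  rcases (hq.mul h2).lift_eq h3 with e' | e'
  · rw [e', a4] at a3
    exact z_ne_one (left_eq_mul.1 a3)
  · rw [e'] at a3
    have e5 : (q * q2 * K.z) * s * (q * q2 * K.z)⁻¹ = (q * q2) * s * (q * q2)⁻¹ := by
      calc (q * q2 * K.z) * s * (q * q2 * K.z)⁻¹ = q * q2 * (K.z * s * K.z⁻¹) * (q * q2)⁻¹ := by group
        _ = _ := by rw [← hs.comm, mul_inv_cancel_right]
    rw [e5, a4] at a3
    exact z_ne_one (left_eq_mul.1 a3)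

/-- `v` is a square in a normal 2-subgroup of `C(z) ∩ C(s)`. -/
def SquareIn (z s v : G) : Prop :=
  ∃ N : Subgroup G, IsPGroup 2 N ∧ (∀ w ∈ N, Commute w z ∧ Commute w s) ∧
    (∀ d : G, Commute d z → Commute d s → ∀ w ∈ N, d * w * d⁻¹ ∈ N) ∧ ∃ g ∈ N, g * g = v

theorem squareIn_z {s : G} {x : Perm (Fin n)} (hs : K.Img s x) (hss : s * s = 1) (hne : s ≠ 1)
    (hnz : s ≠ K.z) : SquareIn K.z s K.z := by
  classical
  obtain ⟨hx2, m, hm, hc⟩ := exists_support hs hss hne hnz
  have app : ∀ a, x (x a) = a := fun a => by rw [← Perm.mul_apply, hx2, Perm.one_apply]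
  let Fl : Perm (Fin n) → Prop := fun σ => ∀ a, σ a = a ∨ σ a = x a
  have fl_mul : ∀ {σ τ}, Fl σ → Fl τ → Fl (σ * τ) := fun {σ τ} h1 h2 a => by
    rw [Perm.mul_apply]
    rcases h2 a with e | e <;> rw [e]
    · exact h1 a
    · rcases h1 (x a) with e' | e' <;> rw [e']
      · exact Or.inr rfl
      · exact Or.inl (app a)
  have fl_sq : ∀ {σ}, Fl σ → σ * σ = 1 := fun {σ} h => Equiv.ext fun a => by
    rw [Perm.mul_apply, Perm.one_apply]
    rcases h a with e | e
    · rw [e, e]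
    · rw [e]
      rcases h (x a) with e' | e'
      · have hxa := σ.injective (e'.trans e.symm)
        rw [e', hxa]
      · rw [e', app]
  let N : Subgroup G :=
    { carrier := {g | (∃ σ, K.Img g σ ∧ Fl σ) ∧ Commute g s}
      one_mem' := ⟨⟨1, Img.one, fun a => Or.inl rfl⟩, Commute.one_left s⟩
      mul_mem' := by
        rintro g y ⟨⟨σ, h, f⟩, c⟩ ⟨⟨τ, h', f'⟩, c'⟩
        exact ⟨⟨σ * τ, h.mul h', fl_mul f f'⟩, c.mul_left c'⟩
      inv_mem' := by
        rintro g ⟨⟨σ, h, f⟩, c⟩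
        refine ⟨⟨σ, ?_, f⟩, c.inv_left⟩
        have := h.inv
        rwa [inv_eq_of_mul_eq_one_left (fl_sq f)] at this }
  refine ⟨N, ?_, ?_, ?_, ?_⟩
  · rintro ⟨g, ⟨σ, h, f⟩, c⟩
    refine ⟨2, Subtype.ext ?_⟩
    show g ^ 2 ^ 2 = 1
    have h2 := h.mul h
    rw [fl_sq f] at h2
    rw [show (2 : ℕ) ^ 2 = 2 * 2 from rfl, pow_mul, pow_two g]
    rcases h2.eq_or with e | e <;> rw [e, pow_two]
    · rw [one_mul]
    · exact z_mul_z
  · rintro w ⟨⟨σ, h, -⟩, c⟩
    exact ⟨comm_z h, c⟩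
  · rintro d dz ds w ⟨⟨σ, h, f⟩, c⟩
    obtain ⟨ρ, hρ⟩ := exists_of_mem (mem_C.2 dz.eq)
    have hρx : Commute ρ x := (hρ.mul hs).unique (ds.eq.symm ▸ hs.mul hρ)
    refine ⟨⟨ρ * σ * ρ⁻¹, hρ.conj h, fun a => ?_⟩, ?_⟩
    · rw [Perm.mul_apply, Perm.mul_apply]
      rcases f (ρ⁻¹ a) with e | e <;> rw [e]
      · exact Or.inl (Equiv.apply_symm_apply ρ a)
      · right
        rw [← Perm.mul_apply, hρx.eq, Perm.mul_apply]
        exact congrArg x (Equiv.apply_symm_apply ρ a)
    · exact (ds.mul_left c).mul_left ds.inv_left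
  · -- three blocks
    obtain ⟨i, hi⟩ := Finset.card_pos.1 (show 0 < x.support.card by omega)
    obtain ⟨p, hp, hp'⟩ : ∃ p ∈ x.support, p ∉ ({i, x i} : Finset (Fin n)) := by
      by_contra hno; push_neg at hno
      have := (Finset.card_le_card (fun c hc => hno c hc : x.support ⊆ {i, x i})).trans Finset.card_le_two
      omega
    obtain ⟨r, hr, hr'⟩ : ∃ r ∈ x.support, r ∉ ({i, x i, p, x p} : Finset (Fin n)) := by
      by_contra hno; push_neg at hno
      have := (Finset.card_le_card (fun c hc => hno c hc : x.support ⊆ {i, x i, p, x p})).trans Finset.card_le_four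
      omega
    simp only [Finset.mem_insert, Finset.mem_singleton, not_or] at hp' hr'
    have B : Blocks x i p r := ⟨hx2, mem_support.1 hi, mem_support.1 hp, mem_support.1 hr, fun e => hp'.1 e.symm,
      fun e => hr'.1 e.symm, fun e => hr'.2.2.1 e.symm, fun e => hp'.2 e.symm, fun e => hr'.2.1 e.symm,
      fun e => hr'.2.2.2 e.symm⟩
    obtain ⟨q, hq⟩ := exists_img (K := K) (sign_quad (a := i) (b := x i) (c := p) (d := x p) B.hi.symm B.hp.symm)
    exact ⟨q, ⟨⟨flip2 x i p, hq, B.flip_or⟩, flip_commute B hs hq⟩, hq.sq B.flip_quad⟩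

theorem not_squareIn {s : G} {x : Perm (Fin n)} (hs : K.Img s x) (hss : s * s = 1)
    (hc : 16 ≤ x.support.card) : ¬ SquareIn K.z s s := by
  classical
  rintro ⟨N, hN, hNc, hNn, g, hgN, hg⟩
  obtain ⟨τ, hτ⟩ := exists_of_mem (K := K) (mem_C.2 (hNc g hgN).1.eq)
  have hττ : τ * τ = x := (hτ.mul hτ).unique (hg ▸ hs)
  have hx2 : x * x = 1 := (hs.mul hs).unique (by rw [hss]; exact Img.one)
  have cτ : ∀ a, τ (x a) = x (τ a) := fun a => by rw [← hττ]; rfl
  have sup : ∀ a ∈ x.support, τ a ∈ x.support := fun a ha => by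
    rw [mem_support] at ha ⊢; rw [← cτ]; exact fun e => ha (τ.injective e)
  have app : ∀ a, x (x a) = a := fun a => by rw [← Perm.mul_apply, hx2, Perm.one_apply]
  have notτ : ∀ a ∈ x.support, τ a ≠ a ∧ τ a ≠ x a := fun a ha => by
    rw [mem_support] at ha
    refine ⟨fun e => ha ?_, fun e => ha ?_⟩
    · rw [← hττ, Perm.mul_apply, e, e]
    · have h' : τ (τ a) = τ (x a) := congrArg τ e
      have : x a = x (τ a) := by rw [← cτ, ← h', ← hττ]; rfl
      have e2 := x.injective this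
      rw [← e2] at e
      exact e.symm
  let orb : Fin n → Finset (Fin n) := fun a => {a, x a, τ a, x (τ a)}
  have horb : ∀ a, (orb a).card ≤ 4 := fun a => Finset.card_le_four
  obtain ⟨i, hi⟩ := Finset.card_pos.1 (show 0 < x.support.card by omega)
  obtain ⟨p, hp, hp'⟩ : ∃ p ∈ x.support, p ∉ orb i := by
    by_contra hno; push_neg at hno
    have h1 := Finset.card_le_card (fun c hc => hno c hc : x.support ⊆ orb i)
    have h2 := horb i
    omega
  obtain ⟨r, hr, hr'⟩ : ∃ r ∈ x.support, r ∉ orb i ∪ orb p := by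
    by_contra hno; push_neg at hno
    have h1 := (Finset.card_le_card (fun c hc => hno c hc : x.support ⊆ orb i ∪ orb p)).trans
      (Finset.card_union_le _ _)
    have h2 := horb i
    have h3 := horb p
    omega
  simp only [orb, Finset.mem_insert, Finset.mem_singleton, Finset.mem_union, not_or] at hp' hr'
  obtain ⟨p1, p2, p3, p4⟩ := hp'
  obtain ⟨⟨r1, r2, r3, r4⟩, r5, r6, r7, r8⟩ := hr'
  have B : Blocks x i p r := ⟨hx2, mem_support.1 hi, mem_support.1 hp, mem_support.1 hr, Ne.symm p1,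
    Ne.symm r1, Ne.symm r5, Ne.symm p2, Ne.symm r2, Ne.symm r6⟩
  have ττ : ∀ a, τ (τ a) = x a := fun a => by rw [← hττ]; rfl
  have D : ∀ a ∈ ({i, p, r, x i, x p, x r} : Finset (Fin n)),
      τ a ≠ i ∧ τ a ≠ p ∧ τ a ≠ r ∧ τ a ≠ x i ∧ τ a ≠ x p ∧ τ a ≠ x r := by
    have inv' : ∀ a b, τ a = b → a = x (τ b) := fun a b e => by rw [← e, ττ, app]
    intro a ha
    simp only [Finset.mem_insert, Finset.mem_singleton] at ha
    obtain ⟨ni, ni'⟩ := notτ i hi
    obtain ⟨np, np'⟩ := notτ p hp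
    obtain ⟨nr, nr'⟩ := notτ r hr
    have q1 : ∀ {u v}, v ≠ τ u → v ≠ x (τ u) → τ v ≠ u ∧ τ v ≠ x u ∧ τ u ≠ v ∧ τ u ≠ x v :=
      fun {u v} h1 h2 => ⟨fun e => h2 (inv' v u e), fun e => h1 (by
        have := inv' v _ e
        rwa [cτ, app] at this), Ne.symm h1, fun e => h2 (by rw [e, app])⟩
    obtain ⟨a1, a2, a3, a4⟩ := q1 p3 p4
    obtain ⟨b1, b2, b3, b4⟩ := q1 r3 r4
    obtain ⟨c1, c2, c3, c4⟩ := q1 r7 r8
    have base : ∀ a ∈ ({i, p, r} : Finset (Fin n)),
        τ a ≠ i ∧ τ a ≠ p ∧ τ a ≠ r ∧ τ a ≠ x i ∧ τ a ≠ x p ∧ τ a ≠ x r := by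
      intro a ha
      simp only [Finset.mem_insert, Finset.mem_singleton] at ha
      rcases ha with rfl | rfl | rfl
      · exact ⟨ni, a3, b3, ni', a4, b4⟩
      · exact ⟨a1, np, c3, a2, np', c4⟩
      · exact ⟨b1, c1, nr, b2, c2, nr'⟩
    have flipD : ∀ a, a ∈ ({i, p, r} : Finset (Fin n)) →
        τ (x a) ≠ i ∧ τ (x a) ≠ p ∧ τ (x a) ≠ r ∧ τ (x a) ≠ x i ∧ τ (x a) ≠ x p ∧ τ (x a) ≠ x r := by
      intro a ha
      obtain ⟨h1, h2, h3, h4, h5, h6⟩ := base a ha
      rw [cτ]
      exact ⟨fun e => h4 (by rw [← e, app]), fun e => h5 (by rw [← e, app]), fun e => h6 (by rw [← e, app]),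
        fun e => h1 (x.injective e), fun e => h2 (x.injective e), fun e => h3 (x.injective e)⟩
    rcases ha with rfl | rfl | rfl | rfl | rfl | rfl
    · exact base _ (by simp)
    · exact base _ (by simp)
    · exact base _ (by simp)
    · exact flipD _ (by simp)
    · exact flipD _ (by simp)
    · exact flipD _ (by simp)
  set R := blockCycle x i p r with hR
  obtain ⟨d, hd, hd3⟩ := exists_img_odd (K := K) (by decide : Odd 3) B.cube
  have cd : Commute d s := hd.commute_odd hs B.comm (by decide : Odd 3) hd3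
  have hw : g * (d * g⁻¹ * d⁻¹) ∈ N := mul_mem hgN (hNn d (comm_z hd) cd _ (inv_mem hgN))
  obtain ⟨k, hk⟩ := hN ⟨_, hw⟩
  have hk' : (g * (d * g⁻¹ * d⁻¹)) ^ 2 ^ k = 1 := congrArg Subtype.val hk
  have hWi := (hτ.mul (hd.conj hτ.inv)).pow (2 ^ k)
  rw [hk'] at hWi
  have hW := (Img.one (K := K)).unique hWi
  set R' := τ * R * τ⁻¹ with hR'
  have hRR : Commute R R' := by
    have e : R' = swap (τ i) (τ p) * swap (τ p) (τ r) * (swap (τ (x i)) (τ (x p)) * swap (τ (x p)) (τ (x r))) := by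
      rw [hR', hR, blockCycle, show ∀ A B C D T : Perm (Fin n), T * (A * B * (C * D)) * T⁻¹ =
        T * A * T⁻¹ * (T * B * T⁻¹) * (T * C * T⁻¹ * (T * D * T⁻¹)) from fun A B C D T => by group,
        conj_swap, conj_swap, conj_swap, conj_swap]
    have hfix : ∀ a ∈ ({i, p, r, x i, x p, x r} : Finset (Fin n)), R (τ a) = τ a := fun a ha => by
      obtain ⟨h1, h2, h3, h4, h5, h6⟩ := D a ha
      simp [hR, blockCycle, Perm.mul_apply, swap_apply_of_ne_of_ne, h1, h2, h3, h4, h5, h6]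
    rw [e]
    refine (Commute.mul_left ?_ ?_).symm
    · exact (swap_commute (hfix _ (by simp)) (hfix _ (by simp))).mul_left
        (swap_commute (hfix _ (by simp)) (hfix _ (by simp)))
    · exact (swap_commute (hfix _ (by simp)) (hfix _ (by simp))).mul_left
        (swap_commute (hfix _ (by simp)) (hfix _ (by simp)))
  set W := τ * (R * τ⁻¹ * R⁻¹) with hW'
  have hWe : W = R' * R⁻¹ := by rw [hW', hR']; group
  have hW3 : W ^ 3 = 1 := by
    rw [hWe, hRR.symm.inv_right.mul_pow, inv_pow, hR', conj_pow, hR, B.cube]; group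
  have hW1 : W = 1 := by
    have h1 : orderOf W ∣ 2 ^ k := orderOf_dvd_of_pow_eq_one hW.symm
    have h2 : orderOf W ∣ 3 := orderOf_dvd_of_pow_eq_one hW3
    have := Nat.eq_one_of_dvd_coprimes (Nat.Coprime.pow_left k (by norm_num : Nat.Coprime 2 3)) h1 h2
    exact orderOf_eq_one_iff.1 this
  rw [hWe, mul_inv_eq_one] at hW1
  have : R' i = i := by
    rw [hR', Perm.mul_apply, Perm.mul_apply]
    have e : ∀ a ∈ ({i, p, r, x i, x p, x r} : Finset (Fin n)), τ.symm i ≠ a := fun a ha e =>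
      (D a ha).1 (by rw [← e, Equiv.apply_symm_apply])
    have e' : R (τ⁻¹ i) = τ⁻¹ i := by
      simp [hR, blockCycle, Perm.mul_apply, swap_apply_of_ne_of_ne, e i (by simp), e p (by simp), e r (by simp),
        e (x i) (by simp), e (x p) (by simp), e (x r) (by simp)]
    rw [e', Perm.inv_def, Equiv.apply_symm_apply]
  rw [hW1, hR, B.app_i] at this
  exact B.pi this

/-- The involutions fused to `z`: some exist, and each moves exactly eight points. -/
theorem fused_support [Finite G] {s : G} {x : Perm (Fin n)} (hs : K.Img s x)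
    (hconj : IsConj K.z s) (hnz : s ≠ K.z) : s * s = 1 ∧ x * x = 1 ∧ x.support.card = 8 := by
  obtain ⟨g, hg⟩ := isConj_iff.1 hconj
  have hss : s * s = 1 := by rw [← hg, ← pow_two, conj_pow, pow_two, z_mul_z, mul_one, mul_inv_cancel]
  have hne : s ≠ 1 := fun e => z_ne_one (by
    rw [e, conj_eq_one_iff] at hg; exact hg)
  obtain ⟨hx2, m, hm, hc⟩ := exists_support hs hss hne hnz
  refine ⟨hss, hx2, ?_⟩
  by_contra h8
  refine not_squareIn hs hss (by omega) ?_
  set s' := g⁻¹ * K.z * g with hs'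
  have hgs : g * s' * g⁻¹ = K.z := by rw [hs']; group
  have hs'z : Commute s' K.z := by
    have e : g * (s' * K.z) * g⁻¹ = g * (K.z * s') * g⁻¹ := by
      rw [show g * (s' * K.z) * g⁻¹ = (g * s' * g⁻¹) * (g * K.z * g⁻¹) by group,
        show g * (K.z * s') * g⁻¹ = (g * K.z * g⁻¹) * (g * s' * g⁻¹) by group, hgs, hg]
      exact hs.comm.symm
    exact mul_left_cancel (mul_right_cancel e)
  obtain ⟨x', hx'⟩ := exists_of_mem (K := K) (mem_C.2 hs'z.eq)
  have hs's : s' * s' = 1 := by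
    rw [hs', show g⁻¹ * K.z * g * (g⁻¹ * K.z * g) = g⁻¹ * (K.z * K.z) * g by group, z_mul_z]; group
  obtain ⟨N, hN, hNc, hNn, q, hqN, hq⟩ := squareIn_z hx' hs's (fun e => z_ne_one (by
      rw [← hgs, e]; group)) (fun e => hnz (by rw [← hg]; exact (e ▸ hgs)))
  refine ⟨N.map (MulAut.conj g).toMonoidHom, hN.map _, ?_, ?_, ?_⟩
  · rintro _ ⟨w, hw, rfl⟩
    have h1 := (hNc w hw).1.map (MulAut.conj g).toMonoidHom
    have h2 := (hNc w hw).2.map (MulAut.conj g).toMonoidHom
    simp only [MulEquiv.coe_toMonoidHom, MulAut.conj_apply] at h1 h2 ⊢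
    rw [hg] at h1
    rw [hgs] at h2
    exact ⟨h2, h1⟩
  · rintro d dz ds _ ⟨w, hw, rfl⟩
    refine ⟨(g⁻¹ * d * g) * w * (g⁻¹ * d * g)⁻¹, hNn _ ?_ ?_ w hw, ?_⟩
    · have := ds.map (MulAut.conj g⁻¹).toMonoidHom
      simp only [MulEquiv.coe_toMonoidHom, MulAut.conj_apply, inv_inv] at this
      rwa [show g⁻¹ * s * g = K.z by rw [← hg]; group] at this
    · have := dz.map (MulAut.conj g⁻¹).toMonoidHom
      simp only [MulEquiv.coe_toMonoidHom, MulAut.conj_apply, inv_inv] at this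
      exact this
    · simp only [MulEquiv.coe_toMonoidHom, MulAut.conj_apply]; group
  · refine ⟨_, ⟨q, hqN, rfl⟩, ?_⟩
    rw [← map_mul, hq]
    exact hg

/-- Some involution other than `z` centralizing `z` is conjugate to it. -/
theorem exists_fused [Finite G] [IsSimpleGroup G] (hn : 5 ≤ n) :
    ∃ s x, K.Img s x ∧ IsConj K.z s ∧ s ≠ K.z := by
  classical
  by_contra hno
  push_neg at hno
  have hiso : IsIsolatedInvolution K.z := ⟨K.hz, fun g hg => by
    obtain ⟨σ, hσ⟩ := exists_of_mem (K := K) (mem_C.2 hg.eq.symm)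
    exact hno _ σ hσ (isConj_iff.2 ⟨g, rfl⟩)⟩
  obtain ⟨N, hNn, hNo, hN⟩ := ZStar.exists_odd_normal hiso
  rcases hNn.eq_bot_or_eq_top with rfl | rfl
  · have hc : ∀ g : G, K.z * g = g * K.z := fun g => by
      have := Subgroup.mem_bot.1 (hN g)
      rwa [mul_inv_eq_one, mul_inv_eq_iff_eq_mul] at this
    have hzc : K.z ∈ Subgroup.center G := Subgroup.mem_center_iff.2 fun g => (hc g).symm
    rcases (inferInstance : (Subgroup.center G).Normal).eq_bot_or_eq_top with hb | ht
    · exact z_ne_one (Subgroup.mem_bot.1 (hb ▸ hzc))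
    · let A : Fin n := ⟨0, by omega⟩
      let B : Fin n := ⟨1, by omega⟩
      let C : Fin n := ⟨2, by omega⟩
      let D : Fin n := ⟨3, by omega⟩
      obtain ⟨u, hu⟩ := exists_img (K := K) (sign_quad (a := A) (b := B) (c := C) (d := D)
        (by simp [A, B]) (by simp [C, D]))
      obtain ⟨v, hv⟩ := exists_img (K := K) (sign_quad (a := A) (b := B) (c := A) (d := C)
        (by simp [A, B]) (by simp [A, C]))
      have huv : u * v = v * u := (Subgroup.mem_center_iff.1 (ht ▸ Subgroup.mem_top v) u)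
      have := congrArg (fun σ : Perm (Fin n) => σ A) ((hu.mul hv).unique (huv ▸ hv.mul hu))
      simp [Perm.mul_apply, A, B, C, D, swap_apply_def, Fin.ext_iff] at this
  · rw [Subgroup.card_top] at hNo
    have h2 : 2 ∣ Nat.card G := K.hz ▸ orderOf_dvd_natCard K.z
    exact (Nat.not_even_iff_odd.2 hNo) (even_iff_two_dvd.2 h2)

/-- All alternating degrees up to seven are excluded. -/
theorem eight_le [Finite G] [IsSimpleGroup G] (K : Cfg G n) (hn : 5 ≤ n) : 8 ≤ n := by
  obtain ⟨s, x, hs, hc, hne⟩ := exists_fused (K := K) hn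
  have h := (fused_support hs hc hne).2.2
  have := Finset.card_le_univ x.support
  rw [Fintype.card_fin] at this
  omega

end Cfg

end Cfsg.Agent.Invol.TwoAn
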