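import Mathlib
import Cfsg.Agent.Lib.Invol.TwoAn.Fused
import Cfsg.Agent.Lib.Lie.AltPres

/-!
# The standard fused involution and the element exchanging it with the central one
-/

set_option autoImplicit false
set_option linter.unusedSectionVars false

namespace Cfsg.Agent.Invol.TwoAn

open Equiv Equiv.Perm

universe u

variable {G : Type u} [Group G] {n m : ℕ}

/-- Permutations of the first points, on all points. -/
noncomputable def emb (h : m ≤ n) : Perm (Fin m) →* Perm (Fin n) := Perm.viaEmbeddingHom (Fin.castLEEmb h)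

theorem emb_lt (h : m ≤ n) (σ : Perm (Fin m)) (i : Fin m) : emb h σ (Fin.castLE h i) = Fin.castLE h (σ i) :=
  Perm.viaEmbedding_apply σ (Fin.castLEEmb h) i

theorem emb_ge (h : m ≤ n) (σ : Perm (Fin m)) {i : Fin n} (hi : m ≤ (i : ℕ)) : emb h σ i = i :=
  Perm.viaEmbedding_apply_of_notMem σ (Fin.castLEEmb h) i fun ⟨j, hj⟩ => by
    have h1 : (j : ℕ) = (i : ℕ) := congrArg (fun a : Fin n => (a : ℕ)) hj
    omega

theorem emb_swap (h : m ≤ n) (a b : Fin m) :
    emb h (swap a b) = swap (Fin.castLE h a) (Fin.castLE h b) :=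
  Lie.Carmichael.via_swap (Fin.castLEEmb h) a b

theorem emb_sign (h : m ≤ n) (σ : Perm (Fin m)) : sign (emb h σ) = sign σ :=
  Lie.Carmichael.sign_viaEmbedding (Fin.castLEEmb h) σ

theorem emb_injective (h : m ≤ n) : Function.Injective (emb h) := Perm.viaEmbeddingHom_injective _

theorem emb_support (h : m ≤ n) (σ : Perm (Fin m)) :
    (emb h σ).support = σ.support.map (Fin.castLEEmb h) := by
  ext i
  rw [mem_support, Finset.mem_map]
  by_cases hi : m ≤ (i : ℕ)
  · rw [emb_ge h σ hi]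
    simp only [ne_eq, not_true_eq_false, false_iff, not_exists, not_and]
    rintro j - rfl
    simp at hi
    omega
  · obtain ⟨j, rfl⟩ : ∃ j : Fin m, Fin.castLE h j = i := ⟨⟨i, by omega⟩, Fin.ext rfl⟩
    rw [emb_lt]
    refine ⟨fun hj => ⟨j, mem_support.2 fun e => hj (by rw [e]), rfl⟩, ?_⟩
    rintro ⟨k, hk, e⟩
    obtain rfl := (Fin.castLE_injective h) e
    exact fun e' => mem_support.1 hk ((Fin.castLE_injective h) e')

theorem emb_quad (h : m ≤ n) {σ : Perm (Fin m)} (hσ : IsQuad σ) : IsQuad (emb h σ) :=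
  ⟨by rw [← map_mul, hσ.1, map_one], by rw [emb_support, Finset.card_map, hσ.2]⟩

/-- The standard involution on eight points. -/
def X0 : Perm (Fin 9) := swap 0 3 * swap 1 4 * (swap 2 5 * swap 6 7)

/-- The double transposition inverting two of the three standard cycles. -/
def G0 : Perm (Fin 9) := swap 1 2 * swap 4 5

theorem X0_facts : X0 * X0 = 1 ∧ X0.support.card = 8 ∧ sign X0 = 1 := by decide +kernel

namespace Cfg

variable {K : Cfg G n}

theorem Img.conjOf {u s : G} {σ τ : Perm (Fin n)} (hu : K.Img u σ) (hs : K.Img s τ) (hc : Commute σ τ) :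
    u * s * u⁻¹ = s ∨ u * s * u⁻¹ = s * K.z := by
  rcases hs.comm_or hu hc.symm with e | e
  · exact Or.inl (by rw [e, mul_inv_cancel_right])
  · exact Or.inr (by rw [e, mul_assoc (s * u), ← hu.inv.comm, mul_assoc, ← mul_assoc u, mul_inv_cancel, one_mul])

theorem Img.conj_z {u s : G} {σ : Perm (Fin n)} (hu : K.Img u σ) :
    u * (s * K.z) * u⁻¹ = u * s * u⁻¹ * K.z := by
  rw [show u * (s * K.z) * u⁻¹ = u * s * u⁻¹ * (u * K.z * u⁻¹) by group, hu.comm, mul_inv_cancel_right]

/-- The exchange negating the standard involution. -/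
theorem negate (h9 : 9 ≤ n) {T u : G} (hT : K.Img T (emb h9 X0)) (hu : K.Img u (emb h9 G0)) :
    u * T * u⁻¹ = T * K.z := by
  have q1 : IsQuad (swap (1 : Fin 9) 4 * swap 2 5) := ⟨by decide +kernel, by decide +kernel⟩
  have hg : IsQuad G0 := ⟨by decide +kernel, by decide +kernel⟩
  have hp : IsQuad (G0 * (swap (1 : Fin 9) 4 * swap 2 5)) := ⟨by decide +kernel, by decide +kernel⟩
  obtain ⟨a, ha⟩ := exists_img (K := K) (σ := emb h9 (swap (1 : Fin 9) 4 * swap 2 5))
    (by rw [emb_sign]; decide +kernel)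
  obtain ⟨b, hb⟩ := exists_img (K := K) (σ := swap (Fin.castLE h9 0) (Fin.castLE h9 3) *
      swap (Fin.castLE h9 6) (Fin.castLE h9 7))
    (by rw [← emb_swap, ← emb_swap, ← map_mul, emb_sign]; decide +kernel)
  have hab : K.Img (a * b) (emb h9 X0) := by
    have := ha.mul hb
    rwa [← emb_swap, ← emb_swap, ← map_mul, ← map_mul,
      show swap (1 : Fin 9) 4 * swap 2 5 * (swap 0 3 * swap 6 7) = X0 by decide +kernel] at this
  have ua : u * a = a * u * K.z := hu.anticomm ha (emb_quad h9 hg) (emb_quad h9 q1)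
    (by rw [← map_mul]; exact emb_quad h9 hp)
  have ne : ∀ i j : Fin 9, i ≠ j → Fin.castLE h9 i ≠ Fin.castLE h9 j := fun i j h e =>
    h (Fin.castLE_injective h9 e)
  have fx : ∀ i : Fin 9, G0 i = i → emb h9 G0 (Fin.castLE h9 i) = Fin.castLE h9 i := fun i hi => by
    rw [emb_lt, hi]
  have ub : Commute b u := hb.commute_quad (ne 0 3 (by decide)) (ne 0 6 (by decide)) (ne 3 6 (by decide))
    (ne 3 7 (by decide)) (ne 6 7 (by decide)) hu (fx 0 (by decide +kernel)) (fx 3 (by decide +kernel))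
    (fx 6 (by decide +kernel)) (fx 7 (by decide +kernel))
  have e : u * (a * b) * u⁻¹ = a * b * K.z := by
    rw [← mul_assoc u, ua, mul_assoc (a * u), ← hb.comm, ← mul_assoc (a * u), mul_assoc a u b, ← ub.eq,
      mul_assoc _ K.z, ← hu.inv.comm, ← mul_assoc, ← mul_assoc, mul_inv_cancel_right]
  rcases hab.lift_eq hT with rfl | rfl
  · exact e
  · rw [hu.conj_z, e]

variable (K) in
/-- The standard fused involution `T`. -/
structure Frame (h9 : 9 ≤ n) where
  T : G
  img : K.Img T (emb h9 X0)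
  sq : T * T = 1
  ne_one : T ≠ 1
  ne_z : T ≠ K.z
  swap : ∃ g : G, g * K.z * g⁻¹ = T ∧ g * T * g⁻¹ = K.z

theorem exists_frame [Finite G] [IsSimpleGroup G] (h9 : 9 ≤ n) : Nonempty (Frame K h9) := by
  obtain ⟨s, x, hs, hc, hne⟩ := exists_fused (K := K) (show 5 ≤ n by omega)
  have hX2 : emb h9 X0 * emb h9 X0 = 1 := by rw [← map_mul, X0_facts.1, map_one]
  have hXc : (emb h9 X0).support.card = 8 := by rw [emb_support, Finset.card_map, X0_facts.2.1]
  have hXne : emb h9 X0 ≠ 1 := fun e => by rw [e, support_one] at hXc; simp at hXc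
  obtain ⟨T, hT⟩ := exists_img (K := K) (σ := emb h9 X0) (by rw [emb_sign]; exact X0_facts.2.2)
  obtain ⟨u, hu⟩ := exists_img (K := K) (σ := emb h9 G0) (by rw [emb_sign]; decide +kernel)
  -- every fused involution is conjugate to `T` inside the centralizer
  have key : ∀ s x, K.Img s x → IsConj K.z s → s ≠ K.z → ∃ c, Commute c K.z ∧ c * T * c⁻¹ = s := by
    intro s x hs hc hne
    obtain ⟨hss, hx2, hx8⟩ := fused_support hs hc hne
    obtain ⟨ρ, hρs, hρ⟩ := conj_even hX2 hx2 hXne (hXc.trans hx8.symm)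
    obtain ⟨c, hc'⟩ := exists_img (K := K) hρs
    rcases (hρ ▸ hc'.conj hT : K.Img (c * T * c⁻¹) x).lift_eq hs with e | e
    · exact ⟨c, comm_z hc', e.symm⟩
    · refine ⟨c * u, (comm_z hc').mul_left (comm_z hu), ?_⟩
      rw [show c * u * T * (c * u)⁻¹ = c * (u * T * u⁻¹) * c⁻¹ by group, negate h9 hT hu, hc'.conj_z, ← e]
  obtain ⟨c, hcz, hcT⟩ := key s x hs hc hne
  have hzT : IsConj K.z T := by
    refine hc.trans (isConj_iff.2 ⟨c⁻¹, ?_⟩)
    rw [← hcT]; group
  have hTne : T ≠ K.z := fun e => hne (by rw [← hcT, e, hcz.eq, mul_inv_cancel_right])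
  obtain ⟨h, hh⟩ := isConj_iff.1 hzT
  set s' := h⁻¹ * K.z * h with hs'
  have hs'z : Commute s' K.z := by
    have e1 : h * s' * h⁻¹ = K.z := by rw [hs']; group
    have e : h * (s' * K.z) * h⁻¹ = h * (K.z * s') * h⁻¹ := by
      rw [show h * (s' * K.z) * h⁻¹ = (h * s' * h⁻¹) * (h * K.z * h⁻¹) by group,
        show h * (K.z * s') * h⁻¹ = (h * K.z * h⁻¹) * (h * s' * h⁻¹) by group, e1, hh]
      exact hT.comm.symm
    exact mul_left_cancel (mul_right_cancel e)
  obtain ⟨x', hx'⟩ := exists_of_mem (K := K) (mem_C.2 hs'z.eq)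
  obtain ⟨c', hc'z, hc'T⟩ := key s' x' hx' (isConj_iff.2 ⟨h⁻¹, by rw [hs', inv_inv]⟩) (fun e => hTne (by
    rw [← hh]
    nth_rw 1 [← e]
    rw [hs']; group))
  refine ⟨⟨T, hT, (fused_support hT hzT hTne).1, fun e => ?_, hTne, h * c', ?_, ?_⟩⟩
  · have := hT.unique (e ▸ Img.one (K := K)); exact hXne this
  · rw [show h * c' * K.z * (h * c')⁻¹ = h * (c' * K.z * c'⁻¹) * h⁻¹ by group, hc'z.eq, mul_inv_cancel_right, hh]
  · rw [show h * c' * T * (h * c')⁻¹ = h * (c' * T * c'⁻¹) * h⁻¹ by group, hc'T, hs']; group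

end Cfg

end Cfsg.Agent.Invol.TwoAn
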