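import Mathlib
import Cfsg.Agent.Lib.Invol.TwoAn.Frame
import Cfsg.Agent.S0144

/-!
# The common centralizer of the two involutions and its action on the eight moved points
-/

set_option autoImplicit false
set_option linter.unusedSectionVars false

namespace Cfsg.Agent.Invol.TwoAn

open Equiv Equiv.Perm

universe u

variable {G : Type u} [Group G] {n m : ℕ}

/-- The permutations preserving the range of an embedding. -/
def presRange (ι : Fin m ↪ Fin n) : Subgroup (Perm (Fin n)) where
  carrier := {σ | ∀ i, σ i ∈ Set.range ι ↔ i ∈ Set.range ι}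
  one_mem' _ := Iff.rfl
  mul_mem' {σ τ} h h' i := by rw [Perm.mul_apply, h, h']
  inv_mem' {σ} h i := by
    conv_rhs => rw [← Equiv.apply_symm_apply σ i]
    exact (h (σ.symm i)).symm

/-- The permutation induced on the range. -/
noncomputable def resHom (ι : Fin m ↪ Fin n) : ↥(presRange ι) →* Perm (Fin m) where
  toFun σ := (Equiv.ofInjective ι ι.injective).symm.permCongr ((σ : Perm (Fin n)).subtypePerm fun i => σ.2 i)
  map_one' := by
    ext i
    simp [Equiv.permCongr_apply]
  map_mul' σ τ := by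
    ext i
    simp [Equiv.permCongr_apply]

theorem resHom_apply (ι : Fin m ↪ Fin n) (σ : ↥(presRange ι)) (i : Fin m) :
    ι (resHom ι σ i) = (σ : Perm (Fin n)) (ι i) := by
  simp [resHom, Equiv.permCongr_apply, Equiv.apply_ofInjective_symm]

theorem emb_eq_one_fix (h : m ≤ n) {σ : Perm (Fin m)} (hσ : σ ≠ 1) :
    ∃ i : Fin m, emb h σ (Fin.castLE h i) ≠ Fin.castLE h i := by
  obtain ⟨i, hi⟩ : ∃ i, σ i ≠ i := not_forall.1 fun e => hσ (Equiv.ext e)
  exact ⟨i, by rw [emb_lt]; exact fun e => hi (Fin.castLE_injective h e)⟩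

theorem mem_range_castLE (h : m ≤ n) {i : Fin n} : i ∈ Set.range (Fin.castLEEmb h) ↔ (i : ℕ) < m :=
  ⟨fun ⟨j, hj⟩ => by rw [← hj]; exact j.2, fun hi => ⟨⟨i, hi⟩, Fin.ext rfl⟩⟩

theorem X0_moves (h9 : 9 ≤ n) (i : Fin n) : emb h9 X0 i ≠ i ↔ (i : ℕ) < 8 := by
  by_cases hi : (i : ℕ) < 9
  · obtain ⟨j, rfl⟩ : ∃ j : Fin 9, Fin.castLE h9 j = i := ⟨⟨i, hi⟩, Fin.ext rfl⟩
    rw [emb_lt, Fin.val_castLE, ne_eq, (Fin.castLE_injective h9).eq_iff]
    exact (by decide +kernel : ∀ j : Fin 9, ¬ X0 j = j ↔ (j : ℕ) < 8) j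
  · rw [emb_ge h9 X0 (by omega)]
    exact ⟨fun h => absurd rfl h, fun h => absurd h (by omega)⟩

theorem commute_pres (h9 : 9 ≤ n) {σ : Perm (Fin n)} (hσ : Commute σ (emb h9 X0)) :
    σ ∈ presRange (Fin.castLEEmb (show 8 ≤ n by omega)) := by
  intro i
  rw [mem_range_castLE, mem_range_castLE, ← X0_moves h9, ← X0_moves h9,
    ← Perm.mul_apply (emb h9 X0) σ, ← hσ.eq, Perm.mul_apply]
  exact σ.injective.ne_iff

/-- The restriction of the standard involution. -/
def X8 : Perm (Fin 8) := swap 0 3 * swap 1 4 * (swap 2 5 * swap 6 7)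

theorem X8_facts : X8 * X8 = 1 ∧ X8.support.card = 8 := by decide +kernel

theorem X8_X0 : ∀ j : Fin 8, X0 (Fin.castLE (by norm_num) j) = Fin.castLE (by norm_num) (X8 j) := by
  decide +kernel

/-- Order of the centralizer of an involution with `k` transpositions. -/
theorem card_centralizer_invol {α : Type*} [Fintype α] [DecidableEq α] {x : Perm α} (hx : x * x = 1) {k : ℕ}
    (hk : 0 < k) (hc : x.support.card = 2 * k) :
    Nat.card (Subgroup.centralizer ({x} : Set (Perm α))) =
      (Fintype.card α - 2 * k).factorial * 2 ^ k * k.factorial := by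
  obtain ⟨l, hl, hl', -⟩ := Fus.SpinComm.invol_type hx
  obtain rfl : k = l := by omega
  rw [nat_card_centralizer, hl, Multiset.sum_replicate, Multiset.prod_replicate, smul_eq_mul,
    Multiset.toFinset_replicate, if_neg hk.ne', Finset.prod_singleton, Multiset.count_replicate_self,
    mul_comm k 2]

namespace Cfg

variable {K : Cfg G n} {h9 : 9 ≤ n} (F : Frame K h9)

/-- The common centralizer of `z` and `T`. -/
def Frame.D : Subgroup G :=
  Subgroup.centralizer ({K.z} : Set G) ⊓ Subgroup.centralizer ({F.T} : Set G)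

theorem Frame.mem_D {g : G} : g ∈ F.D ↔ Commute g K.z ∧ Commute g F.T := by
  rw [Frame.D, Subgroup.mem_inf, Subgroup.mem_centralizer_singleton_iff, Subgroup.mem_centralizer_singleton_iff]
  exact Iff.rfl

/-- The image in the symmetric group. -/
def Frame.toPerm : ↥F.D →* Perm (Fin n) := K.P.comp (Subgroup.inclusion inf_le_left)

theorem Frame.img_toPerm (g : ↥F.D) : K.Img (g : G) (F.toPerm g) := ⟨(inf_le_left : F.D ≤ _) g.2, rfl⟩

theorem Frame.toPerm_commute (g : ↥F.D) : Commute (F.toPerm g) (emb h9 X0) :=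
  ((F.img_toPerm g).mul F.img).unique (((F.mem_D.1 g.2).2).eq.symm ▸ F.img.mul (F.img_toPerm g))

/-- The action on the eight points moved by `T`. -/
noncomputable def Frame.toEight : ↥F.D →* Perm (Fin 8) :=
  (resHom (Fin.castLEEmb (show 8 ≤ n by omega))).comp
    (F.toPerm.codRestrict _ fun g => commute_pres h9 (F.toPerm_commute g))

theorem Frame.toEight_apply (g : ↥F.D) (i : Fin 8) :
    Fin.castLE (show 8 ≤ n by omega) (F.toEight g i) = F.toPerm g (Fin.castLE (show 8 ≤ n by omega) i) :=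
  resHom_apply (Fin.castLEEmb (show 8 ≤ n by omega)) _ i

/-- The image on the eight points is solvable. -/
theorem Frame.toEight_solvable : Group.IsSolvable ↥F.toEight.range := by
  have hle : F.toEight.range ≤ Subgroup.centralizer ({X8} : Set (Perm (Fin 8))) := by
    rintro _ ⟨g, rfl⟩
    rw [Subgroup.mem_centralizer_singleton_iff]
    refine Equiv.ext fun i => Fin.castLE_injective (show 8 ≤ n by omega) ?_
    have e : ∀ j : Fin 8, Fin.castLE (show 8 ≤ n by omega) (X8 j) =
        emb h9 X0 (Fin.castLE (show 8 ≤ n by omega) j) := fun j => by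
      rw [show Fin.castLE (show 8 ≤ n by omega) j = Fin.castLE h9 (Fin.castLE (show 8 ≤ 9 by norm_num) j) from rfl,
        emb_lt, X8_X0]
      rfl
    rw [Perm.mul_apply, Perm.mul_apply, F.toEight_apply, e, e, F.toEight_apply, ← Perm.mul_apply,
      (F.toPerm_commute g).eq, Perm.mul_apply]
  have hc := card_centralizer_invol X8_facts.1 (k := 4) (by norm_num) X8_facts.2
  have h384 : Nat.card (Subgroup.centralizer ({X8} : Set (Perm (Fin 8)))) = 2 ^ 7 * 3 ^ 1 := by
    rw [hc, Fintype.card_fin]; decide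
  haveI : Group.IsSolvable ↥(Subgroup.centralizer ({X8} : Set (Perm (Fin 8)))) :=
    S0144.result 2 3 7 1 Nat.prime_two Nat.prime_three h384
  exact Group.isSolvable_of_isSolvable_injective (f := Subgroup.inclusion hle) (Subgroup.inclusion_injective hle)

theorem Frame.toEight_T (hT : F.T ∈ F.D) : F.toEight ⟨F.T, hT⟩ ≠ 1 := by
  intro h
  have h1 := F.toEight_apply ⟨F.T, hT⟩ 0
  rw [h, Perm.one_apply, (F.img_toPerm ⟨F.T, hT⟩).unique F.img] at h1
  exact (X0_moves h9 _).2 (by simp) h1.symm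

theorem Frame.T_mem : F.T ∈ F.D := F.mem_D.2 ⟨F.img.comm, Commute.refl _⟩

theorem Frame.z_mem : K.z ∈ F.D := F.mem_D.2 ⟨Commute.refl _, (show Commute F.T K.z from F.img.comm).symm⟩

/-- An automorphism of the common centralizer exchanging `z` and `T`. -/
theorem Frame.exists_aut : ∃ φ : ↥F.D ≃* ↥F.D, φ ⟨K.z, F.z_mem⟩ = ⟨F.T, F.T_mem⟩ := by
  obtain ⟨g, h1, h2⟩ := F.swap
  have hD : F.D.map (MulAut.conj g).toMonoidHom = F.D := by
    ext y
    rw [Subgroup.mem_map_equiv, F.mem_D, F.mem_D, ← Commute.conj_iff g, ← Commute.conj_iff (a := _) (b := F.T) g,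
      h1, h2, show g * (MulAut.conj g).symm y * g⁻¹ = y from (MulAut.conj g).apply_symm_apply y]
    exact and_comm
  exact ⟨((MulAut.conj g).subgroupMap F.D).trans (MulEquiv.subgroupCongr hD), Subtype.ext h1⟩

end Cfg

end Cfsg.Agent.Invol.TwoAn
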