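import Mathlib
import Cfsg.Agent.Lib.Invol.TwoAn.Restrict

/-!
# No double cover of an alternating group of degree at least twelve
-/

set_option autoImplicit false
set_option linter.unusedSectionVars false
set_option maxRecDepth 100000

namespace Cfsg.Agent.Invol.TwoAn

open Equiv Equiv.Perm
open scoped commutatorElement

universe u

variable {G : Type u} [Group G] {n : ℕ}

/-- The embedding of the points `8, 9, …`. -/
def shift (m : ℕ) (h : 8 + m ≤ n) : Fin m ↪ Fin n :=
  ⟨fun i => ⟨8 + i, by omega⟩, fun i j e => Fin.ext (by simpa using congrArg Fin.val e)⟩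

/-- Permutations of the points `8, 9, …`. -/
noncomputable def embHigh (m : ℕ) (h : 8 + m ≤ n) : Perm (Fin m) →* Perm (Fin n) :=
  Perm.viaEmbeddingHom (shift m h)

theorem embHigh_low {m : ℕ} (h : 8 + m ≤ n) (σ : Perm (Fin m)) {i : Fin n} (hi : (i : ℕ) < 8) :
    embHigh m h σ i = i :=
  Perm.viaEmbedding_apply_of_notMem σ (shift m h) i fun ⟨j, hj⟩ => by
    have h1 : 8 + (j : ℕ) = (i : ℕ) := congrArg (fun a : Fin n => (a : ℕ)) hj
    omega

theorem embHigh_commute {m : ℕ} (h : 8 + m ≤ n) (h9 : 9 ≤ n) (σ : Perm (Fin m)) :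
    Commute (embHigh m h σ) (emb h9 X0) :=
  Perm.Disjoint.commute fun i => by
    by_cases hi : (i : ℕ) < 8
    · exact Or.inl (embHigh_low h σ hi)
    · exact Or.inr (not_not.1 fun hne => hi ((X0_moves h9 i).1 hne))

theorem embHigh_sign {m : ℕ} (h : 8 + m ≤ n) (σ : Perm (Fin m)) : sign (embHigh m h σ) = sign σ :=
  Lie.Carmichael.sign_viaEmbedding (shift m h) σ

theorem embHigh_quad {m : ℕ} (h : 8 + m ≤ n) {σ : Perm (Fin m)} (hσ : IsQuad σ) : IsQuad (embHigh m h σ) := by
  refine ⟨by rw [← map_mul, hσ.1, map_one], ?_⟩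
  have e : (embHigh m h σ).support = σ.support.map (shift m h) := by
    ext i
    rw [mem_support, Finset.mem_map]
    constructor
    · intro hi
      obtain ⟨j, rfl⟩ : i ∈ Set.range (shift m h) := not_not.1 fun hn =>
        hi (Perm.viaEmbedding_apply_of_notMem σ (shift m h) i hn)
      exact ⟨j, mem_support.2 fun e => hi ((Perm.viaEmbedding_apply σ (shift m h) j).trans (by rw [e])), rfl⟩
    · rintro ⟨j, hj, rfl⟩ e
      exact mem_support.1 hj ((shift m h).injective ((Perm.viaEmbedding_apply σ (shift m h) j).symm.trans e))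
  rw [e, Finset.card_map, hσ.2]

theorem five_commutators : ∀ τ : Perm (Fin 5), τ ^ 3 = 1 →
    ∃ α ∈ (Finset.univ : Finset (Perm (Fin 5))).filter (fun a => a ^ 3 = 1),
      ∃ β ∈ (Finset.univ : Finset (Perm (Fin 5))).filter (fun a => a ^ 3 = 1), τ = α * β * α⁻¹ * β⁻¹ := by
  decide +kernel

/-- The block 3-cycle `(012)(345)`. -/
def S9 : Perm (Fin 9) := swap 0 1 * swap 1 2 * (swap 3 4 * swap 4 5)

/-- Another block 3-cycle. -/
def S9' : Perm (Fin 9) := swap 0 1 * swap 1 6 * (swap 3 4 * swap 4 7)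

/-- A flip. -/
def E9 : Perm (Fin 9) := swap 0 3 * swap 1 4

def S8 : Perm (Fin 8) := swap 0 1 * swap 1 2 * (swap 3 4 * swap 4 5)

def S8' : Perm (Fin 8) := swap 0 1 * swap 1 6 * (swap 3 4 * swap 4 7)

def E8 : Perm (Fin 8) := swap 0 3 * swap 1 4

/-- Six conjugates of `S8`. -/
def conjList : List (Perm (Fin 8)) :=
  ([1, S8', S8 * E8, S8' * E8, E8 * S8', S8' * S8' * E8] : List (Perm (Fin 8))).map fun w => w * S8 * w⁻¹

theorem many_products : 25 ≤ ((conjList.product conjList).map fun p => p.1 * p.2).toFinset.card := by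
  decide +kernel

/-- A 3-cycle of the four last points. -/
def C4 : Perm (Fin 4) := swap 0 1 * swap 1 2

namespace Cfg

variable {K : Cfg G n}

theorem mem_D_of_odd {h9 : 9 ≤ n} (F : Frame K h9) {g : G} {σ : Perm (Fin n)} (hg : K.Img g σ)
    (hc : Commute σ (emb h9 X0)) {k : ℕ} (hk : Odd k) (hgk : g ^ k = 1) : g ∈ F.D :=
  F.mem_D.2 ⟨comm_z hg, hg.commute_odd F.img hc hk hgk⟩

theorem Frame.toEight_emb {h9 : 9 ≤ n} (F : Frame K h9) {g : ↥F.D} {σ : Perm (Fin 9)} {σ8 : Perm (Fin 8)}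
    (hg : K.Img (g : G) (emb h9 σ))
    (hσ : ∀ j : Fin 8, σ (Fin.castLE (by norm_num) j) = Fin.castLE (by norm_num) (σ8 j)) : F.toEight g = σ8 := by
  refine Equiv.ext fun j => Fin.castLE_injective (show 8 ≤ n by omega) ?_
  rw [F.toEight_apply, (F.img_toPerm g).unique hg,
    show Fin.castLE (show 8 ≤ n by omega) j = Fin.castLE h9 (Fin.castLE (show 8 ≤ 9 by norm_num) j) from rfl,
    emb_lt, hσ]
  rfl

theorem Frame.toEight_high {h9 : 9 ≤ n} (F : Frame K h9) {g : ↥F.D} {m : ℕ} (h : 8 + m ≤ n)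
    {σ : Perm (Fin m)} (hg : K.Img (g : G) (embHigh m h σ)) : F.toEight g = 1 := by
  refine Equiv.ext fun j => Fin.castLE_injective (show 8 ≤ n by omega) ?_
  rw [F.toEight_apply, (F.img_toPerm g).unique hg, Perm.one_apply]
  exact embHigh_low h σ j.2

theorem not_thirteen [Finite G] [IsSimpleGroup G] (K : Cfg G n) (h13 : 13 ≤ n) : False := by
  classical
  have h9 : 9 ≤ n := by omega
  obtain ⟨F⟩ := exists_frame (K := K) h9
  have h5 : 8 + 5 ≤ n := h13
  have key : ∀ k (τ : Perm (Fin 5)), τ ^ 3 = 1 → ∀ g (hg : g ∈ F.D), K.Img g (embHigh 5 h5 τ) → g ^ 3 = 1 →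
      (⟨g, hg⟩ : ↥F.D) ∈ derivedSeries (↥F.D) k := by
    intro k
    induction k with
    | zero => intro τ _ g hg _ _; exact Subgroup.mem_top _
    | succ k ih =>
      intro τ hτ g hg hgi hg3
      obtain ⟨α, hα, β, hβ, rfl⟩ := five_commutators τ hτ
      simp only [Finset.mem_filter, Finset.mem_univ, true_and] at hα hβ
      obtain ⟨a, ha, ha3⟩ := exists_img_odd (K := K) (by decide : Odd 3)
        (show embHigh 5 h5 α ^ 3 = 1 by rw [← map_pow, hα, map_one])
      obtain ⟨b, hb, hb3⟩ := exists_img_odd (K := K) (by decide : Odd 3)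
        (show embHigh 5 h5 β ^ 3 = 1 by rw [← map_pow, hβ, map_one])
      have haD := mem_D_of_odd F ha (embHigh_commute h5 h9 α) (by decide : Odd 3) ha3
      have hbD := mem_D_of_odd F hb (embHigh_commute h5 h9 β) (by decide : Odd 3) hb3
      have hc : ⁅(⟨a, haD⟩ : ↥F.D), ⟨b, hbD⟩⁆ ∈ derivedSeries (↥F.D) (k + 1) :=
        Subgroup.commutator_mem_commutator (ih α hα a haD ha ha3) (ih β hβ b hbD hb hb3)
      have hw : K.Img (a * b * a⁻¹ * b⁻¹) (embHigh 5 h5 (α * β * α⁻¹ * β⁻¹)) := by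
        rw [map_mul, map_mul, map_mul, map_inv, map_inv]
        exact ((ha.mul hb).mul ha.inv).mul hb.inv
      set w := a * b * a⁻¹ * b⁻¹ with hwdef
      have hw4 : w ^ 4 = g := by
        rcases hgi.lift_eq hw with e | e <;> rw [e]
        · rw [show (4 : ℕ) = 3 + 1 from rfl, pow_succ, hg3, one_mul]
        · rw [(show Commute g K.z from hgi.comm).mul_pow, show (4 : ℕ) = 3 + 1 from rfl, pow_succ, hg3, one_mul,
            pow_succ, pow_succ, pow_succ, pow_one, z_mul_z, one_mul, z_mul_z, mul_one]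
      have h4 := pow_mem hc 4
      exact (Subtype.ext hw4 : ⁅(⟨a, haD⟩ : ↥F.D), ⟨b, hbD⟩⁆ ^ 4 = ⟨g, hg⟩) ▸ h4
  have hz : ∀ k, (⟨K.z, F.z_mem⟩ : ↥F.D) ∈ derivedSeries (↥F.D) k := by
    intro k
    have e : swap (0 : Fin 5) 1 * swap 2 3 = (swap 0 1 * swap 1 2) * (swap 1 2 * swap 2 3) := by decide +kernel
    obtain ⟨a, ha, ha3⟩ := exists_img_odd (K := K) (by decide : Odd 3)
      (show embHigh 5 h5 (swap 0 1 * swap 1 2) ^ 3 = 1 by
        rw [← map_pow, three_cube (by decide) (by decide) (by decide), map_one])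
    obtain ⟨b, hb, hb3⟩ := exists_img_odd (K := K) (by decide : Odd 3)
      (show embHigh 5 h5 (swap 1 2 * swap 2 3) ^ 3 = 1 by
        rw [← map_pow, three_cube (by decide) (by decide) (by decide), map_one])
    have haD := mem_D_of_odd F ha (embHigh_commute h5 h9 _) (by decide : Odd 3) ha3
    have hbD := mem_D_of_odd F hb (embHigh_commute h5 h9 _) (by decide : Odd 3) hb3
    have hq : a * b * (a * b) = K.z := by
      refine (ha.mul hb).sq ?_
      rw [← map_mul, ← e]
      exact embHigh_quad h5 ⟨by decide +kernel, by decide +kernel⟩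
    have h1 := key k _ (three_cube (by decide) (by decide) (by decide)) a haD ha ha3
    have h2 := key k _ (three_cube (by decide) (by decide) (by decide)) b hbD hb hb3
    have h3 := mul_mem (mul_mem h1 h2) (mul_mem h1 h2)
    rwa [show ((⟨a, haD⟩ : ↥F.D) * ⟨b, hbD⟩) * (⟨a, haD⟩ * ⟨b, hbD⟩) = ⟨K.z, F.z_mem⟩ from
      Subtype.ext hq] at h3
  obtain ⟨φ, hφ⟩ := F.exists_aut
  obtain ⟨k, hk⟩ := F.toEight_solvable.solvable
  have hT : F.toEight.rangeRestrict ⟨F.T, F.T_mem⟩ ∈ derivedSeries (↥F.toEight.range) k := by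
    rw [← hφ]
    exact map_derivedSeries_le_derivedSeries (F.toEight.rangeRestrict.comp φ.toMonoidHom) k
      (Subgroup.mem_map_of_mem _ (hz k))
  rw [hk, Subgroup.mem_bot] at hT
  exact F.toEight_T F.T_mem (congrArg Subtype.val hT)

theorem orderOf_three {g : G} {σ : Perm (Fin n)} (hg : K.Img g σ) (h3 : g ^ 3 = 1) (hσ : σ ≠ 1) :
    orderOf g = 3 := by
  haveI := Fact.mk Nat.prime_three
  exact orderOf_eq_prime h3 fun e => hσ (hg.unique (e ▸ Img.one))

theorem not_twelve [Finite G] [IsSimpleGroup G] (K : Cfg G 12) : False := by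
  classical
  haveI : Fact (Nat.Prime 3) := ⟨Nat.prime_three⟩
  have h9 : (9 : ℕ) ≤ 12 := by norm_num
  have h4 : 8 + 4 ≤ 12 := by norm_num
  obtain ⟨F⟩ := exists_frame (K := K) h9
  -- lifts
  have cX : ∀ σ : Perm (Fin 9), Commute σ X0 → Commute (emb h9 σ) (emb h9 X0) := fun σ h => h.map _
  obtain ⟨s, hs, hs3⟩ := exists_img_odd (K := K) (by decide : Odd 3)
    (show emb h9 S9 ^ 3 = 1 by rw [← map_pow, show S9 ^ 3 = 1 by decide +kernel, map_one])
  obtain ⟨s', hs', hs'3⟩ := exists_img_odd (K := K) (by decide : Odd 3)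
    (show emb h9 S9' ^ 3 = 1 by rw [← map_pow, show S9' ^ 3 = 1 by decide +kernel, map_one])
  obtain ⟨e, he⟩ := exists_img (K := K) (σ := emb h9 E9) (by rw [emb_sign]; decide +kernel)
  obtain ⟨c, hc, hc3⟩ := exists_img_odd (K := K) (by decide : Odd 3)
    (show embHigh 4 h4 C4 ^ 3 = 1 by rw [← map_pow, show C4 ^ 3 = 1 by decide +kernel, map_one])
  have hsD := mem_D_of_odd F hs (cX _ (by unfold Commute SemiconjBy; decide +kernel)) (by decide : Odd 3) hs3
  have hs'D := mem_D_of_odd F hs' (cX _ (by unfold Commute SemiconjBy; decide +kernel)) (by decide : Odd 3) hs'3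
  have hcD := mem_D_of_odd F hc (embHigh_commute h4 h9 _) (by decide : Odd 3) hc3
  have ne9 : ∀ i j : Fin 9, i ≠ j → Fin.castLE h9 i ≠ Fin.castLE h9 j := fun i j h e =>
    h (Fin.castLE_injective h9 e)
  have heD : e ∈ F.D := by
    refine F.mem_D.2 ⟨comm_z he, ?_⟩
    have B : Blocks (emb h9 X0) (Fin.castLE h9 0) (Fin.castLE h9 1) (Fin.castLE h9 2) := by
      constructor
      all_goals first
        | (rw [← map_mul, X0_facts.1, map_one])
        | (rw [emb_lt]; exact ne9 _ _ (by decide +kernel))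
        | exact ne9 _ _ (by decide +kernel)
    refine flip_commute B F.img ?_
    rwa [flip2, emb_lt, emb_lt, ← emb_swap, ← emb_swap, ← map_mul, show X0 0 = 3 by decide +kernel,
      show X0 1 = 4 by decide +kernel]
  set sD : ↥F.D := ⟨s, hsD⟩
  set sD' : ↥F.D := ⟨s', hs'D⟩
  set eD : ↥F.D := ⟨e, heD⟩
  set cD : ↥F.D := ⟨c, hcD⟩
  have fs : F.toEight sD = S8 := F.toEight_emb hs (by decide +kernel)
  have fs' : F.toEight sD' = S8' := F.toEight_emb hs' (by decide +kernel)
  have fe : F.toEight eD = E8 := F.toEight_emb he (by decide +kernel)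
  have fc : F.toEight cD = 1 := F.toEight_high h4 hc
  -- a Sylow 3-subgroup
  have s8o : orderOf S8 = 3 := orderOf_eq_prime (by decide +kernel) (by decide +kernel)
  have hso : orderOf sD = 3 := orderOf_eq_prime (Subtype.ext hs3) fun h => by
    rw [h, map_one] at fs; rw [← fs, orderOf_one] at s8o; omega
  have hco : orderOf cD = 3 := orderOf_eq_prime (Subtype.ext hc3) fun h => by
    have h0 : c = 1 := congrArg Subtype.val h
    rw [h0] at hc
    have h1 := hc.unique Img.one
    rw [← map_one (embHigh 4 h4)] at h1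
    exact absurd (Perm.viaEmbeddingHom_injective _ h1) (by decide +kernel)
  have hscI : Commute (emb h9 S9) (embHigh 4 h4 C4) := Perm.Disjoint.commute fun i => by
    by_cases hi : (i : ℕ) < 8
    · exact Or.inr (embHigh_low h4 _ hi)
    · left
      by_cases hi9 : 9 ≤ (i : ℕ)
      · exact emb_ge h9 _ hi9
      · obtain ⟨j, rfl⟩ : ∃ j : Fin 9, Fin.castLE h9 j = i := ⟨⟨i, by omega⟩, Fin.ext rfl⟩
        rw [emb_lt, (by decide +kernel : ∀ j : Fin 9, ¬ (j : ℕ) < 8 → S9 j = j) j hi]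
  have hsc : Commute sD cD := Subtype.ext (hs.commute_odd hc hscI (by decide : Odd 3) hs3).eq
  let A : (↥(Subgroup.zpowers sD) × ↥(Subgroup.zpowers cD)) →* ↥F.D :=
    (Subgroup.zpowers sD).subtype.noncommCoprod (Subgroup.zpowers cD).subtype fun a b => by
      obtain ⟨⟨_, i, rfl⟩, ⟨_, j, rfl⟩⟩ := a, b
      exact (hsc.zpow_zpow i j)
  have hAinj : Function.Injective A := by
    refine (injective_iff_map_eq_one A).2 ?_
    rintro ⟨⟨_, i, rfl⟩, ⟨_, j, rfl⟩⟩ h
    have h' : sD ^ i * cD ^ j = 1 := h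
    have h2 := congrArg F.toEight h'
    rw [map_mul, map_zpow, map_zpow, fs, fc, one_zpow, mul_one, map_one, ← orderOf_dvd_iff_zpow_eq_one, s8o] at h2
    have h3 : sD ^ i = 1 := orderOf_dvd_iff_zpow_eq_one.1 (by rw [hso]; exact h2)
    rw [h3, one_mul] at h'
    exact Prod.ext (Subtype.ext h3) (Subtype.ext h')
  have hA9 : Nat.card A.range = 3 ^ 2 := by
    rw [← Nat.card_congr (MonoidHom.ofInjective hAinj).toEquiv, Nat.card_prod, Nat.card_zpowers, Nat.card_zpowers,
      hso, hco]; norm_num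
  have hD27 : ¬ 3 ^ 3 ∣ Nat.card ↥F.D := by
    intro h
    have h1 : F.toPerm.range ≤ Subgroup.centralizer ({emb h9 X0} : Set (Perm (Fin 12))) := by
      rintro _ ⟨g, rfl⟩
      exact Subgroup.mem_centralizer_singleton_iff.2 (F.toPerm_commute g).eq
    have h2 : Nat.card F.toPerm.ker ∣ 2 := by
      let zD : ↥F.D := ⟨K.z, F.z_mem⟩
      have hz2 : orderOf zD = 2 := by rw [← Subgroup.orderOf_coe]; exact K.hz
      refine (Subgroup.card_dvd_of_le (fun g hg => ?_ : F.toPerm.ker ≤ Subgroup.zpowers zD)).trans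
        (by rw [Nat.card_zpowers, hz2])
      rcases (show K.Img (g : G) 1 from (MonoidHom.mem_ker.1 hg) ▸ F.img_toPerm g).eq_or with e | e
      · rw [show g = 1 from Subtype.ext e]; exact one_mem _
      · rw [show g = zD from Subtype.ext e]; exact Subgroup.mem_zpowers _
    have h3 := h.trans (dvd_of_eq (F.toPerm.ker.card_mul_index).symm)
    rw [Subgroup.index_ker] at h3
    have h4' := h3.trans (Nat.mul_dvd_mul h2 (Subgroup.card_dvd_of_le h1))
    rw [card_centralizer_invol (k := 4) (by rw [← map_mul, X0_facts.1, map_one]) (by norm_num)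
      (by rw [emb_support, Finset.card_map, X0_facts.2.1]), Fintype.card_fin] at h4'
    revert h4'
    decide +kernel
  obtain ⟨P, hP⟩ := (IsPGroup.of_card hA9).exists_le_sylow
  have hPA : (P : Subgroup ↥F.D) = A.range := by
    refine (Subgroup.eq_of_le_of_card_ge hP ?_).symm
    obtain ⟨k, hk⟩ := IsPGroup.iff_card.1 P.isPGroup'
    rw [hA9, hk]
    refine Nat.pow_le_pow_right (by norm_num) ?_
    by_contra hk2
    exact hD27 ((pow_dvd_pow 3 (show 3 ≤ k by omega)).trans (hk ▸ Subgroup.card_subgroup_dvd_card _))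
  have conjA : ∀ w : ↥F.D, w ^ 3 = 1 → ∃ d, ∃ i j : ℤ, d * w * d⁻¹ = sD ^ i * cD ^ j := by
    intro w hw
    obtain ⟨Q, hQ⟩ := (IsPGroup.of_card (p := 3) (G := Subgroup.zpowers w) (n := (orderOf w).factorization 3) (by
      rw [Nat.card_zpowers]
      rcases (Nat.dvd_prime Nat.prime_three).1 (orderOf_dvd_of_pow_eq_one hw) with e | e <;> rw [e] <;>
        simp [Nat.prime_three.factorization_self])).exists_le_sylow
    obtain ⟨d, hd⟩ := MulAction.exists_smul_eq (↥F.D) Q P
    have h1 : d * w * d⁻¹ ∈ (P : Subgroup ↥F.D) := by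
      rw [← hd, Sylow.coe_subgroup_smul, Subgroup.mem_pointwise_smul_iff_inv_smul_mem]
      have e : (MulAut.conj d)⁻¹ • (d * w * d⁻¹) = w := by
        show (MulAut.conj d)⁻¹ (d * w * d⁻¹) = w
        rw [MulAut.conj_inv_apply]; group
      rw [e]
      exact hQ (Subgroup.mem_zpowers w)
    rw [hPA] at h1
    obtain ⟨⟨⟨_, i, rfl⟩, ⟨_, j, rfl⟩⟩, h2⟩ := h1
    exact ⟨d, i, j, h2.symm⟩
  -- the subgroup for `z`
  set N := F.toEight.ker with hN
  have hN24 : Nat.card ↥N ≤ 24 := by
    let f : ↥N →* Perm (Fin 12) := F.toPerm.comp N.subtype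
    have hr : (f.range : Set (Perm (Fin 12))) ⊆
        embHigh 4 h4 '' ((alternatingGroup (Fin 4) : Subgroup (Perm (Fin 4))) : Set (Perm (Fin 4))) := by
      rintro _ ⟨g, rfl⟩
      set σ := f g with hσdef
      have hfix : ∀ i : Fin 12, (i : ℕ) < 8 → σ i = i := fun i hi => by
        have h1 := F.toEight_apply (g : ↥F.D) ⟨i, hi⟩
        rw [MonoidHom.mem_ker.1 g.2, Perm.one_apply] at h1
        exact h1.symm
      have hpres : σ ∈ presRange (shift 4 h4) := by
        intro i
        have hr' : ∀ i : Fin 12, i ∈ Set.range (shift 4 h4) ↔ 8 ≤ (i : ℕ) := fun i =>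
          ⟨fun ⟨j, hj⟩ => by rw [← hj]; exact Nat.le_add_right 8 _,
            fun hi => ⟨⟨(i : ℕ) - 8, by omega⟩, Fin.ext (show 8 + ((i : ℕ) - 8) = i by omega)⟩⟩
        rw [hr', hr']
        refine ⟨fun h1 => ?_, fun h1 => ?_⟩
        · by_contra h2
          rw [hfix i (by omega)] at h1
          exact h2 h1
        · by_contra h2
          have := σ.injective (hfix (σ i) (by omega))
          rw [this] at h2
          exact h2 h1
      have hσ : σ = embHigh 4 h4 (resHom _ ⟨σ, hpres⟩) := Equiv.ext fun i => by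
        by_cases hi : (i : ℕ) < 8
        · rw [hfix i hi, embHigh_low h4 _ hi]
        · obtain ⟨j, rfl⟩ : ∃ j, shift 4 h4 j = i :=
            ⟨⟨(i : ℕ) - 8, by omega⟩, Fin.ext (show 8 + ((i : ℕ) - 8) = i by omega)⟩
          exact ((Perm.viaEmbedding_apply _ (shift 4 h4) j).trans (resHom_apply _ ⟨σ, hpres⟩ j)).symm
      refine ⟨_, Perm.mem_alternatingGroup.2 ?_, hσ.symm⟩
      rw [← embHigh_sign h4, ← hσ]
      exact (F.img_toPerm (g : ↥F.D)).sign_eq
    have h1 : Nat.card f.range ≤ 12 := by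
      have h := Nat.card_mono (Set.toFinite _) hr
      rw [Nat.card_image_of_injective (show Function.Injective (embHigh 4 h4) from Perm.viaEmbeddingHom_injective _)] at h
      refine h.trans (le_of_eq ?_)
      show Nat.card ↥(alternatingGroup (Fin 4)) = 12
      rw [nat_card_alternatingGroup, Nat.card_eq_fintype_card, Fintype.card_fin]; rfl
    have h2 : Nat.card f.ker ≤ 2 := by
      let ι : ↥f.ker → ({1, K.z} : Set G) := fun g => ⟨((g.1 : ↥F.D) : G), by
        rcases (show K.Img ((g.1 : ↥F.D) : G) 1 from (MonoidHom.mem_ker.1 g.2) ▸ F.img_toPerm g.1).eq_or with e | e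
        · exact Or.inl e
        · exact Or.inr e⟩
      refine (Nat.card_le_card_of_injective ι fun a b h =>
        Subtype.ext (Subtype.ext (Subtype.ext (congrArg Subtype.val h :)))).trans ?_
      rw [Nat.card_coe_set_eq]
      exact (Set.ncard_insert_le _ _).trans (by simp)
    rw [← f.ker.card_mul_index, Subgroup.index_ker]
    exact (Nat.mul_le_mul h2 h1).trans (by norm_num)
  have hcN : cD ∈ N := MonoidHom.mem_ker.2 fc
  have high : ∀ {α β : Perm (Fin 4)} {g : G}, α ^ 3 = 1 → β ^ 3 = 1 → K.Img g (embHigh 4 h4 (α * β)) →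
      ∃ h : g ∈ F.D, (⟨g, h⟩ : ↥F.D) ∈ N := by
    intro α β g hα hβ hg
    obtain ⟨a, ha, ha3⟩ := exists_img_odd (K := K) (by decide : Odd 3)
      (show embHigh 4 h4 α ^ 3 = 1 by rw [← map_pow, hα, map_one])
    obtain ⟨b, hb, hb3⟩ := exists_img_odd (K := K) (by decide : Odd 3)
      (show embHigh 4 h4 β ^ 3 = 1 by rw [← map_pow, hβ, map_one])
    have hab := mul_mem (mem_D_of_odd F ha (embHigh_commute h4 h9 α) (by decide : Odd 3) ha3)
      (mem_D_of_odd F hb (embHigh_commute h4 h9 β) (by decide : Odd 3) hb3)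
    have hgD : g ∈ F.D := by
      rcases (show K.Img (a * b) (embHigh 4 h4 (α * β)) by rw [map_mul]; exact ha.mul hb).lift_eq hg with e | e <;>
        rw [e]
      · exact hab
      · exact mul_mem hab F.z_mem
    exact ⟨hgD, MonoidHom.mem_ker.2 (F.toEight_high h4 (g := ⟨g, hgD⟩) hg)⟩
  obtain ⟨q, hq⟩ := exists_img (K := K) (σ := embHigh 4 h4 (C4 * (swap 1 2 * swap 2 3)))
    (by rw [embHigh_sign]; decide +kernel)
  obtain ⟨q', hq'⟩ := exists_img (K := K) (σ := embHigh 4 h4 (swap 0 2 * swap 2 1 * (swap 2 1 * swap 1 3)))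
    (by rw [embHigh_sign]; decide +kernel)
  obtain ⟨hqD, hqN⟩ := high (by decide +kernel) (by decide +kernel) hq
  obtain ⟨hq'D, hq'N⟩ := high (by decide +kernel) (by decide +kernel) hq'
  have hanti := hq.anticomm hq' (embHigh_quad h4 ⟨by decide +kernel, by decide +kernel⟩)
    (embHigh_quad h4 ⟨by decide +kernel, by decide +kernel⟩)
    (by rw [← map_mul]; exact embHigh_quad h4 ⟨by decide +kernel, by decide +kernel⟩)
  have hzN : (⟨K.z, F.z_mem⟩ : ↥F.D) ∈ ⁅N, N⁆ := by
    have h1 := Subgroup.commutator_mem_commutator hqN hq'N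
    have e : q * q' * q⁻¹ * q'⁻¹ = K.z := by
      rw [hanti, mul_assoc _ K.z, ← hq.inv.comm, ← mul_assoc, mul_inv_cancel_right, mul_assoc, ← hq'.inv.comm,
        ← mul_assoc, mul_inv_cancel, one_mul]
    rwa [show ⁅(⟨q, hqD⟩ : ↥F.D), ⟨q', hq'D⟩⁆ = ⟨K.z, F.z_mem⟩ from Subtype.ext e] at h1
  obtain ⟨φ, hφ⟩ := F.exists_aut
  set N' := N.map φ.toMonoidHom with hN'
  haveI hN'n : N'.Normal := Subgroup.Normal.map inferInstance _ φ.surjective
  have hTN : (⟨F.T, F.T_mem⟩ : ↥F.D) ∈ ⁅N', N'⁆ := by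
    rw [hN', ← Subgroup.map_commutator, ← hφ]
    exact Subgroup.mem_map_of_mem _ hzN
  have hN'24 : Nat.card ↥N' ≤ 24 := by
    rw [hN', Subgroup.card_map_of_injective φ.injective]
    exact hN24
  obtain ⟨w, hwN, hw⟩ : ∃ w ∈ N', orderOf w = 3 := ⟨φ cD, Subgroup.mem_map_of_mem _ hcN, by
    rw [MulEquiv.orderOf_eq, hco]⟩
  have hS8 : S8 ^ (3 : ℤ) = 1 := by rw [← orderOf_dvd_iff_zpow_eq_one, s8o]; rfl
  by_cases hk : ∀ u ∈ N', u ^ 3 = 1 → F.toEight u = 1
  · obtain ⟨d, i, j, hd⟩ := conjA w (by rw [← hw, pow_orderOf_eq_one])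
    have h1 := hN'n.conj_mem w hwN d
    rw [hd] at h1
    have h3 : (sD ^ i * cD ^ j) ^ 3 = 1 := by
      rw [← hd, conj_pow, show (3 : ℕ) = orderOf w from hw.symm, pow_orderOf_eq_one, mul_one, mul_inv_cancel]
    have hi : sD ^ i = 1 := by
      have := hk _ h1 h3
      rw [map_mul, map_zpow, map_zpow, fs, fc, one_zpow, mul_one, ← orderOf_dvd_iff_zpow_eq_one, s8o] at this
      exact orderOf_dvd_iff_zpow_eq_one.1 (by rw [hso]; exact this)
    rw [hi, one_mul] at h1 hd
    have hj : ¬ (3 : ℤ) ∣ j := fun h => by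
      have : cD ^ j = 1 := orderOf_dvd_iff_zpow_eq_one.1 (by rw [hco]; exact h)
      rw [this, conj_eq_one_iff] at hd
      rw [hd, orderOf_one] at hw; omega
    have hcN' : cD ∈ N' := by
      have h2 := zpow_mem h1 j
      rw [← zpow_mul, ← zpow_mod_orderOf, hco, show (j * j) % ((3 : ℕ) : ℤ) = 1 by
        rcases (show j % 3 = 1 ∨ j % 3 = 2 by omega) with e | e <;> rw [Int.mul_emod] <;> simp [e], zpow_one] at h2
      exact h2
    set r : ↥F.D := ⟨q, hqD⟩
    set x := cD * (r * cD * r⁻¹)⁻¹ with hx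
    have hxN : x ∈ N' ⊓ F.toEight.ker := Subgroup.mem_inf.2
      ⟨Subgroup.mul_mem _ hcN' (Subgroup.inv_mem _ (hN'n.conj_mem cD hcN' r)),
        Subgroup.mul_mem _ hcN (Subgroup.inv_mem _ ((MonoidHom.normal_ker _).conj_mem cD hcN r))⟩
    have hx4 : orderOf x = 4 := by
      haveI := Fact.mk Nat.prime_two
      have hi : K.Img (x : G) (embHigh 4 h4 (C4 * ((C4 * (swap 1 2 * swap 2 3)) * C4 *
          (C4 * (swap 1 2 * swap 2 3))⁻¹)⁻¹)) := by
        simp only [map_mul, map_inv]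
        rw [map_mul, map_mul] at hq
        exact hc.mul ((hq.conj hc).inv)
      have hx2 : (x : G) * x = K.z := hi.sq (embHigh_quad h4 ⟨by decide +kernel, by decide +kernel⟩)
      refine orderOf_eq_prime_pow (p := 2) (n := 1) (fun h => z_ne_one (K := K) ?_) (Subtype.ext ?_)
      · rw [← hx2, ← pow_two]
        exact congrArg Subtype.val h
      · show (x : G) ^ 2 ^ (1 + 1) = 1
        rw [show 2 ^ (1 + 1) = 2 * 2 from rfl, pow_mul, pow_two (x : G), hx2, pow_two, z_mul_z]
    have h12 : 12 ∣ Nat.card ↥(N' ⊓ F.toEight.ker : Subgroup ↥F.D) := by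
      have d3 : 3 ∣ Nat.card ↥(N' ⊓ F.toEight.ker : Subgroup ↥F.D) := by
        rw [← hco]; exact Subgroup.orderOf_dvd_natCard _ ⟨hcN', hcN⟩
      have d4 : 4 ∣ Nat.card ↥(N' ⊓ F.toEight.ker : Subgroup ↥F.D) := by
        rw [← hx4]; exact Subgroup.orderOf_dvd_natCard _ hxN
      exact Nat.Coprime.mul_dvd_of_dvd_of_dvd (by norm_num) d3 d4
    let f := F.toEight.comp N'.subtype
    have hr2 : Nat.card f.range ≤ 2 := by
      have hk' : Nat.card f.ker = Nat.card ↥(N' ⊓ F.toEight.ker : Subgroup ↥F.D) := by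
        refine Nat.card_congr ⟨fun g => ⟨(g.1 : ↥F.D), g.1.2, g.2⟩, fun g => ⟨⟨g.1, g.2.1⟩, g.2.2⟩,
          fun g => rfl, fun g => rfl⟩
      have h := f.ker.card_mul_index
      rw [Subgroup.index_ker, hk'] at h
      obtain ⟨m, hm⟩ := h12
      have hm0 : 0 < m := by
        rcases Nat.eq_zero_or_pos m with e | e
        · rw [e, mul_zero] at hm; exact absurd hm Nat.card_pos.ne'
        · exact e
      rw [hm] at h
      by_contra hr
      have : 12 * 1 * 3 ≤ 12 * m * Nat.card f.range := Nat.mul_le_mul (Nat.mul_le_mul_left 12 hm0) (by omega)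
      omega
    have hcomm : ∀ a b : ↥f.range, a * b = b * a := by
      have hcyc : IsCyclic ↥f.range := by
        rcases (show Nat.card f.range = 1 ∨ Nat.card f.range = 2 by have := Nat.card_pos (α := f.range); omega) with
          e | e
        · haveI := (Nat.card_eq_one_iff_unique.1 e).1
          exact isCyclic_of_subsingleton
        · haveI := Fact.mk Nat.prime_two
          exact isCyclic_of_prime_card e
      exact fun a b => (IsCyclic.commGroup (α := ↥f.range)).mul_comm a b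
    refine F.toEight_T F.T_mem ?_
    have hle : ⁅N', N'⁆ ≤ F.toEight.ker := by
      rw [Subgroup.commutator_le]
      intro a ha b hb
      have := congrArg Subtype.val (hcomm ⟨_, ⟨a, ha⟩, rfl⟩ ⟨_, ⟨b, hb⟩, rfl⟩)
      rw [MonoidHom.mem_ker, map_commutatorElement, commutatorElement_eq_one_iff_mul_comm]
      exact this
    exact hle hTN
  · push_neg at hk
    obtain ⟨u, huN, hu3, hu8⟩ := hk
    obtain ⟨d, i, j, hd⟩ := conjA u hu3
    set M := N'.map F.toEight with hM
    have h1 : F.toEight d * F.toEight u * (F.toEight d)⁻¹ ∈ M := by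
      refine ⟨d * u * d⁻¹, hN'n.conj_mem u huN d, ?_⟩
      rw [map_mul, map_mul, map_inv]
    have hi : F.toEight d * F.toEight u * (F.toEight d)⁻¹ = S8 ^ i := by
      rw [← map_inv, ← map_mul, ← map_mul, hd, map_mul, map_zpow, map_zpow, fs, fc, one_zpow, mul_one]
    have hi3 : ¬ (3 : ℤ) ∣ i := fun h => by
      rw [orderOf_dvd_iff_zpow_eq_one.1 (show ((orderOf S8 : ℤ)) ∣ i by rw [s8o]; exact h), conj_eq_one_iff] at hi
      exact hu8 hi
    have hSM : S8 ∈ M := by
      have h2 := zpow_mem (hi ▸ h1) i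
      rw [← zpow_mul, ← zpow_mod_orderOf, s8o, show (i * i) % ((3 : ℕ) : ℤ) = 1 by
        rcases (show i % 3 = 1 ∨ i % 3 = 2 by omega) with e | e <;> rw [Int.mul_emod] <;> simp [e], zpow_one] at h2
      exact h2
    have hconj : ∀ v : ↥F.D, F.toEight v * S8 * (F.toEight v)⁻¹ ∈ M := fun v => by
      obtain ⟨m, hm, e⟩ := hSM
      exact ⟨v * m * v⁻¹, hN'n.conj_mem m hm v, by rw [map_mul, map_mul, map_inv, e]⟩
    have hlist : ∀ a ∈ conjList, a ∈ M := by
      intro a ha
      simp only [conjList, List.map_cons, List.map_nil, List.mem_cons, List.not_mem_nil, or_false] at ha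
      rcases ha with rfl | rfl | rfl | rfl | rfl | rfl
      · simpa using hSM
      · simpa [fs'] using hconj sD'
      · simpa [fs, fe] using hconj (sD * eD)
      · simpa [fs', fe] using hconj (sD' * eD)
      · simpa [fs', fe] using hconj (eD * sD')
      · simpa [fs', fe] using hconj (sD' * sD' * eD)
    have h25 : 25 ≤ Nat.card ↥M := by
      refine many_products.trans ?_
      rw [← Nat.card_eq_finsetCard]
      refine Nat.card_le_card_of_injective (fun p => (⟨p.1, ?_⟩ : ↥M)) fun a b h =>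
        Subtype.ext (congrArg Subtype.val h :)
      obtain ⟨⟨a, b⟩, hab, e⟩ := List.mem_map.1 (List.mem_toFinset.1 p.2)
      replace hab := List.pair_mem_product.1 hab
      rw [← e]
      exact mul_mem (hlist _ hab.1) (hlist _ hab.2)
    have h24 : Nat.card ↥M ≤ 24 :=
      (Nat.le_of_dvd Nat.card_pos (Subgroup.card_map_dvd _ _)).trans hN'24
    omega

end Cfg

end Cfsg.Agent.Invol.TwoAn
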