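import Mathlib
import Cfsg.Agent.Lib.Invol.ZStar
import Cfsg.Agent.Lib.Invol.SmallCent.FourFixed
import Cfsg.Agent.Lib.Grp.Cores
import Cfsg.Prelude.Def_CaseTheorems

/-!
# Subgroups in which an involution is isolated; small general lemmas
-/

set_option autoImplicit false
set_option linter.unusedSectionVars false

namespace Cfsg.Agent.Invol.TwoAn

open scoped commutatorElement

universe u

variable {G : Type u} [Group G] [Finite G]

/-- The odd core of a subgroup. -/
def coreIn (H : Subgroup G) : Subgroup G := (Cfsg.oddCore ↥H).map H.subtype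

theorem coreIn_le (H : Subgroup G) : coreIn H ≤ H := Subgroup.map_subtype_le _

theorem coreIn_odd (H : Subgroup G) : Odd (Nat.card (coreIn H)) := by
  rw [coreIn, Subgroup.card_map_of_injective H.subtype_injective]
  exact Nat.coprime_two_right.1 Grp.pPrimeCore_coprime

theorem le_coreIn {H N : Subgroup G} (hN : N ≤ H) (hn : ∀ w ∈ H, ∀ x ∈ N, w * x * w⁻¹ ∈ N)
    (ho : Odd (Nat.card N)) : N ≤ coreIn H := by
  have h := Grp.le_pPrimeCore (p := 2) (N := N.subgroupOf H)
    ⟨fun x hx w => hn w w.2 x hx⟩ (by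
      rw [Nat.card_congr (Subgroup.subgroupOfEquivOfLe hN).toEquiv]
      exact Nat.coprime_two_right.2 ho)
  intro x hx
  exact ⟨⟨x, hN hx⟩, h hx, rfl⟩

theorem coreIn_conj {H : Subgroup G} {u : G} (hu : ∀ x, x ∈ H ↔ u * x * u⁻¹ ∈ H) {x : G}
    (hx : x ∈ coreIn H) : u * x * u⁻¹ ∈ coreIn H := by
  have hW : H.map (MulAut.conj u).toMonoidHom = H := by
    ext y
    rw [Subgroup.mem_map_equiv, hu]
    rw [show u * (MulAut.conj u).symm y * u⁻¹ = y from (MulAut.conj u).apply_symm_apply y]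
  let α : ↥H ≃* ↥H := ((MulAut.conj u).subgroupMap H).trans (MulEquiv.subgroupCongr hW)
  obtain ⟨x', hx', rfl⟩ := hx
  have h := (inferInstance : (Cfsg.oddCore ↥H).Characteristic).fixed α
  refine ⟨α x', ?_, rfl⟩
  have h1 : x' ∈ (Cfsg.oddCore ↥H).comap α.toMonoidHom := by rw [h]; exact hx'
  exact h1

/-- An element of odd order is a power of its square. -/
theorem mem_of_sq_mem {R : Subgroup G} {x : G} (ho : Odd (orderOf x)) (h : x * x ∈ R) : x ∈ R := by
  obtain ⟨k, hk⟩ := ho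
  have e : (x * x) ^ (k + 1) = x := by
    rw [← pow_two, ← pow_mul, show 2 * (k + 1) = orderOf x + 1 by omega, pow_succ, pow_orderOf_eq_one, one_mul]
  rw [← e]; exact pow_mem h _

theorem odd_order_of_mem {R : Subgroup G} (hR : Odd (Nat.card R)) {x : G} (hx : x ∈ R) : Odd (orderOf x) :=
  hR.of_dvd_nat (Subgroup.orderOf_dvd_natCard _ hx)

/-- Inverted elements of odd order lie in the core when the involution is isolated. -/
theorem inverted_mem_coreIn {H : Subgroup G} {z : G} (hz : orderOf z = 2) (hzH : z ∈ H)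
    (hiso : ∀ v ∈ H, v * v = 1 → v ≠ 1 → Commute v z → v = z) {j : G} (hj : j ∈ H)
    (hji : z * j * z⁻¹ = j⁻¹) (ho : Odd (orderOf j)) : j ∈ coreIn H := by
  let zH : ↥H := ⟨z, hzH⟩
  have hz1 : z ≠ 1 := fun e => by rw [e, orderOf_one] at hz; omega
  have hzz : z * z = 1 := by rw [← pow_two, ← hz, pow_orderOf_eq_one]
  have hI : IsIsolatedInvolution zH := by
    refine ⟨by rw [← Subgroup.orderOf_coe]; exact hz, fun g hg => Subtype.ext ?_⟩
    refine hiso _ (g * zH * g⁻¹).2 ?_ ?_ ?_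
    · show (g : G) * z * (g : G)⁻¹ * ((g : G) * z * (g : G)⁻¹) = 1
      rw [← pow_two, conj_pow, pow_two, hzz, mul_one, mul_inv_cancel]
    · show (g : G) * z * (g : G)⁻¹ ≠ 1
      exact fun e => hz1 (conj_eq_one_iff.1 e)
    · exact (congrArg Subtype.val hg.eq.symm : _)
  obtain ⟨N, hN, hNo, hNc⟩ := ZStar.exists_odd_normal hI
  have hle : N ≤ Cfsg.oddCore ↥H := Grp.le_pPrimeCore hN (Nat.coprime_two_right.2 hNo)
  refine mem_of_sq_mem ho ?_
  rw [← inv_mem_iff]
  refine ⟨_, hle (hNc ⟨j, hj⟩), ?_⟩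
  show z * j * z⁻¹ * j⁻¹ = (j * j)⁻¹
  rw [hji, mul_inv_rev]

/-- A subgroup of odd order lies in another once its fixed and its inverted elements do. -/
theorem le_of_parts {R L : Subgroup G} (hR : Odd (Nat.card R)) {z : G} (hz : z * z = 1)
    (hn : ∀ x ∈ R, z * x * z⁻¹ ∈ R) (hf : ∀ x ∈ R, Commute x z → x ∈ L)
    (hi : ∀ x ∈ R, z * x * z⁻¹ = x⁻¹ → x ∈ L) : R ≤ L := by
  intro x hx
  have hy : (z * x * z⁻¹)⁻¹ * x ∈ R := R.mul_mem (R.inv_mem (hn x hx)) hx
  set i := SmallCent.sqr R ((z * x * z⁻¹)⁻¹ * x) with hi'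
  have hii : i * i = (z * x * z⁻¹)⁻¹ * x := SmallCent.sqr_mul_self hR hy
  have hiR : i ∈ R := SmallCent.sqr_mem hy
  have hti : z * i * z⁻¹ = i⁻¹ := by
    rw [hi', SmallCent.conj_sqr]
    refine (SmallCent.eq_sqr hR (R.inv_mem (SmallCent.sqr_mem hy)) ?_).symm
    calc _ = ((SmallCent.sqr R ((z * x * z⁻¹)⁻¹ * x)) * SmallCent.sqr R ((z * x * z⁻¹)⁻¹ * x))⁻¹ := by group
      _ = (z * (z * x * z⁻¹) * z⁻¹)⁻¹ * (z * x * z⁻¹) := by
        rw [SmallCent.sqr_mul_self hR hy, SmallCent.conj_conj hz]; group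
      _ = _ := by simp [mul_assoc]
  have hc : z * (x * i⁻¹) * z⁻¹ = x * i⁻¹ := by
    calc z * (x * i⁻¹) * z⁻¹ = (z * x * z⁻¹) * (z * i * z⁻¹)⁻¹ := by group
      _ = (z * x * z⁻¹) * (i * i) * i⁻¹ := by rw [hti]; group
      _ = _ := by rw [hii]; group
  have := mul_mem (hf _ (R.mul_mem hx (R.inv_mem hiR)) (mul_inv_eq_iff_eq_mul.1 hc).symm) (hi i hiR hti)
  rwa [inv_mul_cancel_right] at this

/-- Two subgroups with a small intersection. -/
theorem card_mul_le {L X Y : Subgroup G} (hX : X ≤ L) (hY : Y ≤ L) :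
    Nat.card X * Nat.card Y ≤ Nat.card L * Nat.card ↥(X ⊓ Y) := by
  have h1 : Y.relIndex X ≤ Y.relIndex L := Subgroup.relIndex_le_of_le_right hX Subgroup.index_ne_zero_of_finite
  have h2 : Nat.card ↥(X ⊓ Y) * Y.relIndex X = Nat.card X := by
    rw [← Subgroup.inf_relIndex_left, ← Subgroup.relIndex_bot_left, ← Subgroup.relIndex_bot_left,
      Subgroup.relIndex_mul_relIndex _ _ _ bot_le inf_le_left]
  have h3 : Nat.card Y * Y.relIndex L = Nat.card L := by
    rw [← Subgroup.relIndex_bot_left, ← Subgroup.relIndex_bot_left, Subgroup.relIndex_mul_relIndex _ _ _ bot_le hY]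
  rw [← h2, ← h3]
  calc Nat.card ↥(X ⊓ Y) * Y.relIndex X * Nat.card Y
      = Nat.card ↥(X ⊓ Y) * Nat.card Y * Y.relIndex X := by ring
    _ ≤ Nat.card ↥(X ⊓ Y) * Nat.card Y * Y.relIndex L := Nat.mul_le_mul_left _ h1
    _ = _ := by ring

/-- Conjugation does not change the order of a subgroup. -/
theorem card_conj_eq {R S : Subgroup G} (u : G) (h : ∀ x, x ∈ R ↔ u * x * u⁻¹ ∈ S) :
    Nat.card R = Nat.card S :=
  Nat.card_congr ⟨fun x => ⟨u * x * u⁻¹, (h x).1 x.2⟩,
    fun x => ⟨u⁻¹ * x * u, (h _).2 (by rw [show u * (u⁻¹ * (x : G) * u) * u⁻¹ = x by group]; exact x.2)⟩,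
    fun x => Subtype.ext (by group), fun x => Subtype.ext (by group)⟩

/-- The cube of a product when the commutator commutes with both factors. -/
theorem cube_mul {x y : G} (hkx : Commute ⁅y, x⁆ x) (hky : Commute ⁅y, x⁆ y) :
    (x * y) ^ 3 = ⁅y, x⁆ ^ 3 * (x ^ 3 * y ^ 3) := by
  set k := ⁅y, x⁆ with hk
  have e : y * x = k * x * y := by rw [hk, commutatorElement_def]; group
  calc (x * y) ^ 3 = x * (y * x) * (y * x) * y := by rw [pow_succ, pow_succ, pow_one]; group
    _ = x * (k * x * y) * (k * x * y) * y := by rw [e]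
    _ = k * k * (x * x * (y * x) * y * y) := by
        rw [show x * (k * x * y) * (k * x * y) * y = x * k * x * y * k * x * y * y by group,
          ← hkx.eq, show k * x * x * y * k * x * y * y = k * x * x * (y * k) * x * y * y by group,
          ← hky.eq, show k * x * x * (k * y) * x * y * y = k * ((x * x) * k) * y * x * y * y by group,
          ← (hkx.mul_right hkx).eq]
        group
    _ = k * k * (x * x * (k * x * y) * y * y) := by rw [e]
    _ = k ^ 3 * (x ^ 3 * y ^ 3) := by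
        rw [show x * x * (k * x * y) * y * y = ((x * x) * k) * x * y * y * y by group,
          ← (hkx.mul_right hkx).eq]
        simp [pow_succ, mul_assoc]

end Cfsg.Agent.Invol.TwoAn
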