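import Mathlib
import Cfsg.Agent.Lib.Invol.TwoAn.Restrict
import Cfsg.Agent.Lib.Invol.SmallCent.FourFixed
import Cfsg.Agent.Lib.Invol.InvolAction

/-!
# Degrees nine and ten: the three standard elements of order three
-/

set_option autoImplicit false
set_option linter.unusedSectionVars false
set_option maxRecDepth 100000

namespace Cfsg.Agent.Invol.TwoAn

open Equiv Equiv.Perm

universe u

variable {G : Type u} [Group G] {n : ℕ}

/-- The first 3-cycle. -/
def A0 : Perm (Fin 9) := swap 0 1 * swap 1 2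
/-- The second 3-cycle. -/
def B0 : Perm (Fin 9) := swap 3 4 * swap 4 5
/-- The third 3-cycle. -/
def C0 : Perm (Fin 9) := swap 6 7 * swap 7 8

theorem three_facts :
    A0 ^ 3 = 1 ∧ B0 ^ 3 = 1 ∧ C0 ^ 3 = 1 ∧ A0 * B0 = B0 * A0 ∧ A0 * C0 = C0 * A0 ∧ B0 * C0 = C0 * B0 := by
  decide +kernel

theorem exchange_facts : X0 * A0 * X0⁻¹ = B0 ∧ X0 * B0 * X0⁻¹ = A0 ∧ X0 * C0 * X0⁻¹ = C0⁻¹ ∧
    G0 * A0 * G0⁻¹ = A0⁻¹ ∧ G0 * B0 * G0⁻¹ = B0⁻¹ ∧ G0 * C0 * G0⁻¹ = C0 := by decide +kernel

theorem abc_injective : ∀ i j k i' j' k' : Fin 3,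
    A0 ^ (i : ℕ) * B0 ^ (j : ℕ) * C0 ^ (k : ℕ) = A0 ^ (i' : ℕ) * B0 ^ (j' : ℕ) * C0 ^ (k' : ℕ) →
      i = i' ∧ j = j' ∧ k = k' := by decide +kernel

theorem ab_support : (A0 * B0).cycleType = Multiset.replicate 2 3 := by decide +kernel

theorem hf_pow {f q : G} (hf : f ^ 3 = 1) (hq : q ∈ Subgroup.zpowers f) : ∃ k : ℕ, q = f ^ k := by
  obtain ⟨i, rfl⟩ := hq
  refine ⟨(i % 3).toNat, ?_⟩
  show f ^ i = f ^ (i % 3).toNat
  rw [← zpow_natCast, Int.toNat_of_nonneg (Int.emod_nonneg i (by norm_num))]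
  conv_lhs => rw [← Int.mul_ediv_add_emod i 3, zpow_add, zpow_mul, zpow_ofNat, hf, one_zpow, one_mul]

/-- A 3-element acting on a subgroup with small fixed subgroups centralizes it. -/
theorem fixed_line [Finite G] {z T g f e : G} (R : Subgroup G) (hR : Odd (Nat.card R)) (hzz : z * z = 1)
    (hTT : T * T = 1) (hzT : Commute z T) (hRz : ∀ x ∈ R, z * x * z⁻¹ ∈ R) (hRT : ∀ x ∈ R, T * x * T⁻¹ ∈ R)
    (hRg : ∀ x, x ∈ R ↔ g * x * g⁻¹ ∈ R) (hgz : Commute g z) (hgT : g * T * g⁻¹ = T * z)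
    (hRf : ∀ x ∈ R, f * x * f⁻¹ ∈ R) (hf : f ^ 3 = 1) (hfz : Commute f z) (hfT : T * f * T⁻¹ = f⁻¹)
    (hgf : g * f * g⁻¹ = f ∨ g * f * g⁻¹ = f⁻¹) (h9z : Nat.card ↥(R ⊓ Subgroup.centralizer ({z} : Set G)) = 9)
    (h9T : Nat.card ↥(R ⊓ Subgroup.centralizer ({T} : Set G)) = 9)
    (h3 : Nat.card ↥(R ⊓ Subgroup.centralizer ({z} : Set G) ⊓ Subgroup.centralizer ({T} : Set G)) = 3)
    (he : e ∈ R) (he1 : e ≠ 1) (hez : Commute e z) (heT : Commute e T)
    (hfz' : ∀ x ∈ R, Commute x z → Commute f x) :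
    ∀ x ∈ R, Commute f x := by
  have zi : z⁻¹ = z := inv_eq_of_mul_eq_one_left hzz
  have hgTz : g * (T * z) * g⁻¹ = T := by
    rw [show g * (T * z) * g⁻¹ = g * T * g⁻¹ * (g * z * g⁻¹) by group, hgT, hgz.eq, mul_inv_cancel_right,
      mul_assoc, hzz, mul_one]
  have cen : ∀ {v x : G}, x ∈ Subgroup.centralizer ({v} : Set G) ↔ Commute x v := fun {v x} =>
    Subgroup.mem_centralizer_singleton_iff
  -- `g` exchanges the fixed subgroups
  have moveCard : ∀ S : Subgroup G, (∀ x, x ∈ S ↔ g * x * g⁻¹ ∈ S) →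
      Nat.card ↥(S ⊓ Subgroup.centralizer ({T * z} : Set G)) =
        Nat.card ↥(S ⊓ Subgroup.centralizer ({T} : Set G)) := by
    intro S hS
    refine Nat.card_congr ⟨fun x => ⟨g * x * g⁻¹, (hS _).1 x.2.1, cen.2 ?_⟩,
      fun x => ⟨g⁻¹ * x * g, (hS _).2 (by rw [show g * (g⁻¹ * (x : G) * g) * g⁻¹ = x by group]; exact x.2.1),
        cen.2 ?_⟩, fun x => Subtype.ext (by group), fun x => Subtype.ext (by group)⟩
    · have h := (cen.1 x.2.2).map (MulAut.conj g).toMonoidHom
      simp only [MulEquiv.coe_toMonoidHom, MulAut.conj_apply, hgTz] at h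
      exact h
    · have h := (cen.1 x.2.2).map (MulAut.conj g⁻¹).toMonoidHom
      simp only [MulEquiv.coe_toMonoidHom, MulAut.conj_apply, inv_inv] at h
      have e : g⁻¹ * T * g = T * z :=
        (congrArg (fun w => g⁻¹ * w * g) hgTz).symm.trans (by group)
      rwa [e] at h
  have hRTz : ∀ x ∈ R, (T * z) * x * (T * z)⁻¹ ∈ R := fun x hx => by
    rw [show T * z * x * (T * z)⁻¹ = T * (z * x * z⁻¹) * T⁻¹ by group]; exact hRT _ (hRz x hx)
  have four := SmallCent.card_four_fixed R hR hzz hTT hzT.eq hRz hRT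
  have h9Tz : Nat.card ↥(R ⊓ Subgroup.centralizer ({z * T} : Set G)) = 9 := by
    rw [hzT.eq, moveCard R hRg, h9T]
  rw [h9z, h9T, h9Tz, h3] at four
  have hR81 : Nat.card R = 81 := by omega
  have hJ : Nat.card (SmallCent.inverted R z) = 9 := by
    have h := SmallCent.card_eq_fixed_mul_inverted R hR hzz hRz
    rw [h9z, hR81] at h
    omega
  haveI := Fact.mk Nat.prime_three
  have hQ : IsPGroup 3 (Subgroup.zpowers f) := by
    refine IsPGroup.of_card (n := (orderOf f).factorization 3) ?_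
    rw [Nat.card_zpowers]
    rcases (Nat.dvd_prime Nat.prime_three).1 (orderOf_dvd_of_pow_eq_one hf) with e | e <;> rw [e] <;>
      simp [Nat.prime_three.factorization_self]
  have hJinv : ∀ q ∈ Subgroup.zpowers f, ∀ j ∈ SmallCent.inverted R z, q * j * q⁻¹ ∈ SmallCent.inverted R z := by
    intro q hq j hj
    have hqz : Commute q z := by
      obtain ⟨k, rfl⟩ := hq
      exact hfz.zpow_left k
    have hqR : ∀ x ∈ R, q * x * q⁻¹ ∈ R := by
      obtain ⟨k, hk⟩ := hf_pow hf hq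
      subst hk
      clear hqz
      induction k with
      | zero => intro x hx; simpa using hx
      | succ k ih =>
        intro x hx
        rw [pow_succ', show f * f ^ k * x * (f * f ^ k)⁻¹ = f * (f ^ k * x * (f ^ k)⁻¹) * f⁻¹ by group]
        exact hRf _ (ih (Subgroup.pow_mem _ (Subgroup.mem_zpowers f) k) x hx)
    refine ⟨hqR j hj.1, ?_⟩
    rw [show z * (q * j * q⁻¹) * z⁻¹ = (z * q) * j * (z * q)⁻¹ by group, ← hqz.eq,
      show q * z * j * (q * z)⁻¹ = q * (z * j * z⁻¹) * q⁻¹ by group, hj.2]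
    group
  obtain ⟨j, hjJ, hj1, hjf⟩ := exists_conj_fixed (p := 3) hQ (J := SmallCent.inverted R z)
    ⟨R.one_mem, by simp⟩ hJinv (by rw [hJ]; norm_num)
  set F := R ⊓ Subgroup.centralizer ({f} : Set G) with hF
  have hFodd : Odd (Nat.card F) := hR.of_dvd_nat (Subgroup.card_dvd_of_le inf_le_left)
  have normF : ∀ w : G, (∀ x ∈ R, w * x * w⁻¹ ∈ R) → (w * f * w⁻¹ = f ∨ w * f * w⁻¹ = f⁻¹) →
      ∀ x ∈ F, w * x * w⁻¹ ∈ F := by
    intro w hw hwf x hx
    refine ⟨hw x hx.1, cen.2 ?_⟩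
    have h := (cen.1 hx.2).map (MulAut.conj w).toMonoidHom
    simp only [MulEquiv.coe_toMonoidHom, MulAut.conj_apply] at h
    rcases hwf with e | e <;> rw [e] at h
    · exact h
    · exact Commute.inv_right_iff.1 h
  have hFz := normF z hRz (Or.inl (by rw [← hfz.eq, mul_inv_cancel_right]))
  have hFT := normF T hRT (Or.inr hfT)
  have hFg : ∀ x, x ∈ F ↔ g * x * g⁻¹ ∈ F := fun x => by
    refine ⟨normF g (fun y hy => (hRg y).1 hy) hgf x, fun hx => ?_⟩
    have hgf' : g⁻¹ * f * g = f ∨ g⁻¹ * f * g = f⁻¹ := by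
      rcases hgf with e | e
      · left; nth_rw 1 [← e]; group
      · right
        have e2 : f = g⁻¹ * f⁻¹ * g := by rw [← e]; group
        nth_rw 2 [e2]
        group
    have h := normF g⁻¹ (fun y hy => (hRg _).2 (by rw [show g * (g⁻¹ * y * g⁻¹⁻¹) * g⁻¹ = y by group]; exact hy))
      (by simpa using hgf') _ hx
    rwa [show g⁻¹ * (g * x * g⁻¹) * g⁻¹⁻¹ = x by group] at h
  have hFJ : 1 < Nat.card (SmallCent.inverted F z) := by
    refine Finite.one_lt_card_iff_nontrivial.2 ⟨⟨⟨1, F.one_mem, by simp⟩, ⟨j, ⟨hjJ.1, cen.2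
      (hjf f (Subgroup.mem_zpowers f)).symm⟩, hjJ.2⟩, fun h => hj1 (congrArg Subtype.val h).symm⟩⟩
  rw [SmallCent.card_inverted_eq F hFodd hTT hzT.eq hFz hFT] at hFJ
  have key : Nat.card ↥(F ⊓ Subgroup.centralizer ({T} : Set G)) = 9 := by
    have hcard : 3 < Nat.card ↥(F ⊓ Subgroup.centralizer ({T} : Set G)) := by
      by_contra hle
      have hE : e ∈ F ⊓ Subgroup.centralizer ({T} : Set G) := ⟨⟨he, cen.2 (hfz' e he hez).symm⟩, cen.2 heT⟩
      have hsmall : ∀ (S : Subgroup G), Nat.card S ≤ 3 → e ∈ S → Nat.card (SmallCent.inverted S z) ≤ 1 := by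
        intro S hS heS
        refine Finite.card_le_one_iff_subsingleton.2 ⟨fun u v => Subtype.ext ?_⟩
        have hall : ∀ x ∈ S, x ∈ R → Commute x z := by
          intro x hx hxR
          have hle' : Subgroup.zpowers e ≤ S := Subgroup.zpowers_le.2 heS
          have ho : 3 ≤ orderOf e := by
            have h1 : orderOf e ∣ 81 := hR81 ▸ Subgroup.orderOf_dvd_natCard _ he
            have h2 : orderOf e ≠ 1 := fun h => he1 (orderOf_eq_one_iff.1 h)
            have h3 : orderOf e ≠ 2 := fun h => by rw [h] at h1; norm_num at h1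
            have h4 : 0 < orderOf e := orderOf_pos e
            omega
          have : Subgroup.zpowers e = S := Subgroup.eq_of_le_of_card_ge hle' (by rw [Nat.card_zpowers]; omega)
          rw [← this] at hx
          obtain ⟨k, rfl⟩ := hx
          exact hez.zpow_left k
        have one : ∀ x : SmallCent.inverted S z, (x : G) ∈ R → (x : G) = 1 := by
          intro x hxR
          have h1 := x.2.2
          rw [← (hall _ x.2.1 hxR).eq, mul_inv_cancel_right] at h1
          have h2 : (x : G) ^ 2 = 1 := by rw [pow_two]; nth_rw 1 [h1]; exact inv_mul_cancel _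
          have h3 : orderOf (x : G) ∣ 81 := hR81 ▸ Subgroup.orderOf_dvd_natCard _ hxR
          have h4 := Nat.eq_one_of_dvd_coprimes (by norm_num : Nat.Coprime 81 2) h3 (orderOf_dvd_of_pow_eq_one h2)
          exact orderOf_eq_one_iff.1 h4
        have inR : ∀ x ∈ S, x ∈ R := by
          intro x hx
          have hle' : Subgroup.zpowers e ≤ S := Subgroup.zpowers_le.2 heS
          have h4 : 3 ≤ orderOf e := by
            have h1 : orderOf e ∣ 81 := hR81 ▸ Subgroup.orderOf_dvd_natCard _ he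
            have h2 : orderOf e ≠ 1 := fun h => he1 (orderOf_eq_one_iff.1 h)
            have h3 : orderOf e ≠ 2 := fun h => by rw [h] at h1; norm_num at h1
            have := orderOf_pos e
            omega
          have : Subgroup.zpowers e = S := Subgroup.eq_of_le_of_card_ge hle' (by rw [Nat.card_zpowers]; omega)
          rw [← this] at hx
          exact (Subgroup.zpowers_le.2 he) hx
        rw [one u (inR _ u.2.1), one v (inR _ v.2.1)]
      have h1 := hsmall _ (not_lt.1 hle) hE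
      have h2 := hsmall (F ⊓ Subgroup.centralizer ({z * T} : Set G))
        (by rw [hzT.eq, moveCard F hFg]; exact not_lt.1 hle)
        ⟨hE.1, cen.2 (hez.mul_right heT)⟩
      have := Nat.mul_le_mul h1 h2
      omega
    have hdvd : Nat.card ↥(F ⊓ Subgroup.centralizer ({T} : Set G)) ∣ 3 ^ 2 := by
      rw [show (3 : ℕ) ^ 2 = 9 by norm_num, ← h9T]
      exact Subgroup.card_dvd_of_le (inf_le_inf_right _ inf_le_left)
    obtain ⟨i, hi, hc⟩ := (Nat.dvd_prime_pow Nat.prime_three).1 hdvd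
    rw [hc] at hcard ⊢
    interval_cases i <;> omega
  have four' := SmallCent.card_four_fixed F hFodd hzz hTT hzT.eq hFz hFT
  have hFz9 : F ⊓ Subgroup.centralizer ({z} : Set G) = R ⊓ Subgroup.centralizer ({z} : Set G) :=
    le_antisymm (inf_le_inf_right _ inf_le_left) fun x hx => ⟨⟨hx.1, cen.2 (hfz' x hx.1 (cen.1 hx.2)).symm⟩, hx.2⟩
  have hTzF : Nat.card ↥(F ⊓ Subgroup.centralizer ({z * T} : Set G)) = 9 := by
    rw [hzT.eq, moveCard F hFg, key]
  rw [hFz9, key, hTzF, h9z, h3] at four'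
  have hFR : F = R := Subgroup.eq_of_le_of_card_ge inf_le_left (by omega)
  intro x hx
  rw [← hFR] at hx
  exact (cen.1 hx.2).symm

end Cfsg.Agent.Invol.TwoAn
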