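import Mathlib
import Cfsg.Agent.Lib.Invol.TwoAn.Local


/-!
# Degrees nine and ten: the centralizer of the product of two disjoint 3-cycles
-/

set_option autoImplicit false
set_option linter.unusedSectionVars false
set_option maxRecDepth 100000

namespace Cfsg.Agent.Invol.TwoAn

open Equiv Equiv.Perm

universe u

variable {G : Type u} [Group G] {n : ℕ}

namespace Cfg

variable {K : Cfg G n}

theorem Img.eq_odd {g y : G} {σ : Perm (Fin n)} (h : K.Img g σ) (h' : K.Img y σ) {k : ℕ} (hk : Odd k)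
    (hg : g ^ k = 1) (hy : y ^ k = 1) : g = y := by
  rcases h.lift_eq h' with e | e
  · exact e.symm
  · exfalso
    rw [e, (show Commute g K.z from h.comm).mul_pow, hg, one_mul, pow_z hk] at hy
    exact z_ne_one hy

variable (K) in
/-- The standard elements for degrees nine and ten. -/
structure Triple (h9 : 9 ≤ n) extends Frame K h9 where
  a : G
  b : G
  c : G
  g : G
  img_a : K.Img a (emb h9 A0)
  img_b : K.Img b (emb h9 B0)
  img_c : K.Img c (emb h9 C0)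
  img_g : K.Img g (emb h9 G0)
  a3 : a ^ 3 = 1
  b3 : b ^ 3 = 1
  c3 : c ^ 3 = 1

theorem exists_triple [Finite G] [IsSimpleGroup G] (h9 : 9 ≤ n) : Nonempty (Triple K h9) := by
  obtain ⟨F⟩ := exists_frame (K := K) h9
  obtain ⟨a, ha, ha3⟩ := exists_img_odd (K := K) (by decide : Odd 3)
    (show emb h9 A0 ^ 3 = 1 by rw [← map_pow, three_facts.1, map_one])
  obtain ⟨b, hb, hb3⟩ := exists_img_odd (K := K) (by decide : Odd 3)
    (show emb h9 B0 ^ 3 = 1 by rw [← map_pow, three_facts.2.1, map_one])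
  obtain ⟨c, hc, hc3⟩ := exists_img_odd (K := K) (by decide : Odd 3)
    (show emb h9 C0 ^ 3 = 1 by rw [← map_pow, three_facts.2.2.1, map_one])
  obtain ⟨g, hg⟩ := exists_img (K := K) (σ := emb h9 G0) (by rw [emb_sign]; decide +kernel)
  exact ⟨⟨F, a, b, c, g, ha, hb, hc, hg, ha3, hb3, hc3⟩⟩

namespace Triple

variable {h9 : 9 ≤ n} (F : Triple K h9)

theorem conj_eq {u x y : G} {σ α β : Perm (Fin 9)} (hu : K.Img u (emb h9 σ)) (hx : K.Img x (emb h9 α))
    (hy : K.Img y (emb h9 β)) (hx3 : x ^ 3 = 1) (hy3 : y ^ 3 = 1) (e : σ * α * σ⁻¹ = β) :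
    u * x * u⁻¹ = y :=
  Img.eq_odd (by rw [← e, map_mul, map_mul, map_inv]; exact hu.conj hx) hy (by decide : Odd 3)
    (by rw [conj_pow, hx3, mul_one, mul_inv_cancel]) hy3

theorem inv3 {x : G} (hx : x ^ 3 = 1) : x⁻¹ ^ 3 = 1 := by rw [inv_pow, hx, inv_one]

theorem T_a : F.T * F.a * F.T⁻¹ = F.b :=
  conj_eq F.img F.img_a F.img_b F.a3 F.b3 exchange_facts.1

theorem T_b : F.T * F.b * F.T⁻¹ = F.a :=
  conj_eq F.img F.img_b F.img_a F.b3 F.a3 exchange_facts.2.1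

theorem T_c : F.T * F.c * F.T⁻¹ = F.c⁻¹ :=
  conj_eq F.img F.img_c (by rw [map_inv]; exact F.img_c.inv) F.c3 (inv3 F.c3) exchange_facts.2.2.1

theorem g_a : F.g * F.a * F.g⁻¹ = F.a⁻¹ :=
  conj_eq F.img_g F.img_a (by rw [map_inv]; exact F.img_a.inv) F.a3 (inv3 F.a3) exchange_facts.2.2.2.1

theorem g_b : F.g * F.b * F.g⁻¹ = F.b⁻¹ :=
  conj_eq F.img_g F.img_b (by rw [map_inv]; exact F.img_b.inv) F.b3 (inv3 F.b3) exchange_facts.2.2.2.2.1

theorem g_c : F.g * F.c * F.g⁻¹ = F.c :=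
  conj_eq F.img_g F.img_c F.img_c F.c3 F.c3 exchange_facts.2.2.2.2.2

theorem ab : Commute F.a F.b :=
  F.img_a.commute_odd F.img_b ((show Commute A0 B0 from three_facts.2.2.2.1).map _) (by decide : Odd 3) F.a3

theorem ac : Commute F.a F.c :=
  F.img_a.commute_odd F.img_c ((show Commute A0 C0 from three_facts.2.2.2.2.1).map _) (by decide : Odd 3) F.a3

theorem bc : Commute F.b F.c :=
  F.img_b.commute_odd F.img_c ((show Commute B0 C0 from three_facts.2.2.2.2.2).map _) (by decide : Odd 3) F.b3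

theorem az : Commute F.a K.z := comm_z F.img_a
theorem bz : Commute F.b K.z := comm_z F.img_b
theorem cz : Commute F.c K.z := comm_z F.img_c
theorem gz : Commute F.g K.z := comm_z F.img_g
theorem Tz : Commute F.T K.z := comm_z F.img

theorem g_T : F.g * F.T * F.g⁻¹ = F.T * K.z := negate h9 F.img F.img_g

theorem T_ab : Commute F.T (F.a * F.b) := by
  have e : F.T * (F.a * F.b) * F.T⁻¹ = F.a * F.b := by
    rw [show F.T * (F.a * F.b) * F.T⁻¹ = F.T * F.a * F.T⁻¹ * (F.T * F.b * F.T⁻¹) by group, F.T_a, F.T_b, F.ab.eq]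
  exact mul_inv_eq_iff_eq_mul.1 e

theorem ab_cube : (F.a * F.b) ^ 3 = 1 := by rw [F.ab.mul_pow, F.a3, F.b3, mul_one]

theorem ab_ne : F.a * F.b ≠ 1 := fun e => by
  have h : K.Img 1 (emb h9 (A0 * B0)) := by rw [map_mul, ← e]; exact F.img_a.mul F.img_b
  have h' := emb_injective h9 ((h.unique Img.one).trans (map_one (emb h9)).symm)
  exact absurd h' (by decide +kernel)

theorem ab_ord : orderOf (F.a * F.b) = 3 := by
  haveI := Fact.mk Nat.prime_three
  exact orderOf_eq_prime F.ab_cube F.ab_ne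

/-- The centralizer of `a b`. -/
def W : Subgroup G := Subgroup.centralizer ({F.a * F.b} : Set G)

theorem mem_W {x : G} : x ∈ F.W ↔ Commute x (F.a * F.b) := Subgroup.mem_centralizer_singleton_iff

/-- The centralizer of `a b` and `z`. -/
def Wz : Subgroup G := F.W ⊓ Subgroup.centralizer ({K.z} : Set G)

theorem mem_Wz {x : G} : x ∈ F.Wz ↔ Commute x (F.a * F.b) ∧ Commute x K.z := by
  rw [Wz, Subgroup.mem_inf, F.mem_W, Subgroup.mem_centralizer_singleton_iff]; exact Iff.rfl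

theorem a_mem : F.a ∈ F.Wz := F.mem_Wz.2 ⟨(Commute.refl F.a).mul_right F.ab, F.az⟩
theorem b_mem : F.b ∈ F.Wz := F.mem_Wz.2 ⟨F.ab.symm.mul_right (Commute.refl F.b), F.bz⟩
theorem c_mem : F.c ∈ F.Wz := F.mem_Wz.2 ⟨F.ac.symm.mul_right F.bc.symm, F.cz⟩
theorem T_mem : F.T ∈ F.Wz := F.mem_Wz.2 ⟨F.T_ab, F.Tz⟩
theorem z_mem : K.z ∈ F.Wz := F.mem_Wz.2 ⟨F.az.symm.mul_right F.bz.symm, Commute.refl _⟩

/-- The subgroup generated by `a`, `b`, `c`. -/
def A : Subgroup G where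
  carrier := {x | ∃ i j k : ℕ, F.a ^ i * F.b ^ j * F.c ^ k = x}
  one_mem' := ⟨0, 0, 0, by simp⟩
  mul_mem' := by
    rintro _ _ ⟨i, j, k, rfl⟩ ⟨i', j', k', rfl⟩
    refine ⟨i + i', j + j', k + k', ?_⟩
    rw [pow_add, pow_add, pow_add]
    have h1 : Commute (F.b ^ j) (F.a ^ i') := F.ab.symm.pow_pow j i'
    have h2 : Commute (F.c ^ k) (F.a ^ i') := F.ac.symm.pow_pow k i'
    have h3 : Commute (F.c ^ k) (F.b ^ j') := F.bc.symm.pow_pow k j'
    calc F.a ^ i * F.a ^ i' * (F.b ^ j * F.b ^ j') * (F.c ^ k * F.c ^ k')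
        = F.a ^ i * (F.a ^ i' * F.b ^ j) * (F.b ^ j' * F.c ^ k) * F.c ^ k' := by group
      _ = F.a ^ i * (F.b ^ j * F.a ^ i') * (F.c ^ k * F.b ^ j') * F.c ^ k' := by rw [h1.eq, h3.eq]
      _ = F.a ^ i * F.b ^ j * (F.a ^ i' * F.c ^ k) * F.b ^ j' * F.c ^ k' := by group
      _ = F.a ^ i * F.b ^ j * (F.c ^ k * F.a ^ i') * F.b ^ j' * F.c ^ k' := by rw [h2.eq]
      _ = _ := by group
  inv_mem' := by
    rintro _ ⟨i, j, k, rfl⟩
    refine ⟨2 * i, 2 * j, 2 * k, ?_⟩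
    have h1 : Commute (F.b ^ j) (F.a ^ i) := F.ab.symm.pow_pow j i
    have h2 : Commute (F.c ^ k) (F.a ^ i * F.b ^ j) :=
      (F.ac.symm.pow_pow k i).mul_right (F.bc.symm.pow_pow k j)
    refine eq_inv_of_mul_eq_one_left ?_
    have h3 : Commute (F.c ^ (2 * k)) (F.a ^ i * F.b ^ j) :=
      (F.ac.symm.pow_pow _ i).mul_right (F.bc.symm.pow_pow _ j)
    rw [show F.a ^ (2 * i) * F.b ^ (2 * j) * F.c ^ (2 * k) * (F.a ^ i * F.b ^ j * F.c ^ k) =
      F.a ^ (2 * i) * F.b ^ (2 * j) * (F.c ^ (2 * k) * (F.a ^ i * F.b ^ j)) * F.c ^ k by group, h3.eq,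
      show F.a ^ (2 * i) * F.b ^ (2 * j) * ((F.a ^ i * F.b ^ j) * F.c ^ (2 * k)) * F.c ^ k =
        F.a ^ (2 * i) * (F.b ^ (2 * j) * F.a ^ i) * F.b ^ j * (F.c ^ (2 * k) * F.c ^ k) by group,
      (F.ab.symm.pow_pow (2 * j) i).eq,
      show F.a ^ (2 * i) * (F.a ^ i * F.b ^ (2 * j)) * F.b ^ j * (F.c ^ (2 * k) * F.c ^ k) =
        F.a ^ (2 * i) * F.a ^ i * (F.b ^ (2 * j) * F.b ^ j) * (F.c ^ (2 * k) * F.c ^ k) by group,
      ← pow_add, ← pow_add, ← pow_add, show 2 * i + i = 3 * i by ring, show 2 * j + j = 3 * j by ring,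
      show 2 * k + k = 3 * k by ring, pow_mul, pow_mul, pow_mul, F.a3, F.b3, F.c3]
    simp

theorem a_A : F.a ∈ F.A := ⟨1, 0, 0, by simp⟩
theorem b_A : F.b ∈ F.A := ⟨0, 1, 0, by simp⟩
theorem c_A : F.c ∈ F.A := ⟨0, 0, 1, by simp⟩

theorem A_le_Wz : F.A ≤ F.Wz := by
  rintro _ ⟨i, j, k, rfl⟩
  exact mul_mem (mul_mem (pow_mem F.a_mem i) (pow_mem F.b_mem j)) (pow_mem F.c_mem k)

theorem A_comm {x y : G} (hx : x ∈ F.A) (hy : y ∈ F.A) : Commute x y := by
  obtain ⟨i, j, k, rfl⟩ := hx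
  obtain ⟨i', j', k', rfl⟩ := hy
  have hA : ∀ w, Commute F.a w → Commute F.b w → Commute F.c w → Commute (F.a ^ i * F.b ^ j * F.c ^ k) w :=
    fun w h1 h2 h3 => ((h1.pow_left i).mul_left (h2.pow_left j)).mul_left (h3.pow_left k)
  exact ((hA _ (Commute.refl _) F.ab.symm F.ac.symm).pow_right i' |>.mul_right
    ((hA _ F.ab (Commute.refl _) F.bc.symm).pow_right j')).mul_right ((hA _ F.ac F.bc (Commute.refl _)).pow_right k')

theorem A_cube {x : G} (hx : x ∈ F.A) : x ^ 3 = 1 := by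
  obtain ⟨i, j, k, rfl⟩ := hx
  rw [(F.A_comm (mul_mem (pow_mem F.a_A i) (pow_mem F.b_A j)) (pow_mem F.c_A k)).mul_pow,
    (F.ab.pow_pow i j).mul_pow]
  simp only [← pow_mul, mul_comm _ 3]
  simp only [pow_mul, F.a3, F.b3, F.c3, one_pow, mul_one]

theorem card_A : Nat.card F.A = 27 := by
  have hmod : ∀ {x : G}, x ^ 3 = 1 → ∀ i : ℕ, x ^ (i % 3) = x ^ i := fun {x} hx i => by
    conv_rhs => rw [← Nat.mod_add_div i 3, pow_add, pow_mul, hx, one_pow, mul_one]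
  let f : Fin 3 × Fin 3 × Fin 3 → F.A := fun p =>
    ⟨F.a ^ (p.1 : ℕ) * F.b ^ (p.2.1 : ℕ) * F.c ^ (p.2.2 : ℕ), _, _, _, rfl⟩
  have hf : Function.Bijective f := by
    refine ⟨fun p q h => ?_, ?_⟩
    · have h' : F.a ^ (p.1 : ℕ) * F.b ^ (p.2.1 : ℕ) * F.c ^ (p.2.2 : ℕ) =
          F.a ^ (q.1 : ℕ) * F.b ^ (q.2.1 : ℕ) * F.c ^ (q.2.2 : ℕ) := congrArg Subtype.val h
      have hi := ((F.img_a.pow (p.1 : ℕ)).mul (F.img_b.pow (p.2.1 : ℕ))).mul (F.img_c.pow (p.2.2 : ℕ))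
      rw [h'] at hi
      have h2 := hi.unique (((F.img_a.pow (q.1 : ℕ)).mul (F.img_b.pow (q.2.1 : ℕ))).mul (F.img_c.pow (q.2.2 : ℕ)))
      simp only [← map_pow, ← map_mul] at h2
      obtain ⟨e1, e2, e3⟩ := abc_injective _ _ _ _ _ _ (emb_injective h9 h2)
      exact Prod.ext e1 (Prod.ext e2 e3)
    · rintro ⟨_, i, j, k, rfl⟩
      refine ⟨(⟨i % 3, Nat.mod_lt _ (by norm_num)⟩, ⟨j % 3, Nat.mod_lt _ (by norm_num)⟩,
        ⟨k % 3, Nat.mod_lt _ (by norm_num)⟩), Subtype.ext ?_⟩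
      show F.a ^ (i % 3) * F.b ^ (j % 3) * F.c ^ (k % 3) = _
      rw [hmod F.a3, hmod F.b3, hmod F.c3]
  rw [← Nat.card_eq_of_bijective f hf, Nat.card_prod, Nat.card_prod, Nat.card_fin]

/-- Twice the order of the image of the centralizer. -/
theorem card_Wz_dvd [Finite G] : Nat.card F.Wz ∣ (n - 6).factorial * 18 := by
  set σ := emb h9 (A0 * B0)
  set Z := Subgroup.centralizer ({σ} : Set (Perm (Fin n)))
  have hsub : F.Wz ≤ Subgroup.centralizer ({K.z} : Set G) := inf_le_right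
  let f : ↥F.Wz →* Perm (Fin n) := K.P.comp (Subgroup.inclusion hsub)
  have hf : ∀ x : ↥F.Wz, K.Img (x : G) (f x) := fun x => ⟨hsub x.2, rfl⟩
  have h1 : f.range ≤ Z ⊓ alternatingGroup (Fin n) := by
    rintro _ ⟨x, rfl⟩
    refine ⟨Subgroup.mem_centralizer_singleton_iff.2 ?_, Perm.mem_alternatingGroup.2 (hf x).sign_eq⟩
    have := (F.mem_Wz.1 x.2).1.eq
    have hab : K.Img (F.a * F.b) σ := by rw [show σ = _ from map_mul _ _ _]; exact F.img_a.mul F.img_b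
    exact ((hf x).mul hab).unique (this ▸ hab.mul (hf x))
  have h2 : Nat.card f.ker ∣ 2 := by
    let zD : ↥F.Wz := ⟨K.z, F.z_mem⟩
    have hz2 : orderOf zD = 2 := by rw [← Subgroup.orderOf_coe]; exact K.hz
    refine (Subgroup.card_dvd_of_le (fun x hx => ?_ : f.ker ≤ Subgroup.zpowers zD)).trans
      (by rw [Nat.card_zpowers, hz2])
    rcases (show K.Img (x : G) 1 from (MonoidHom.mem_ker.1 hx) ▸ hf x).eq_or with e | e
    · rw [show x = 1 from Subtype.ext e]; exact one_mem _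
    · rw [show x = zD from Subtype.ext e]; exact Subgroup.mem_zpowers _
  -- the even half of the centralizer
  let s : ↥Z →* ℤˣ := Perm.sign.comp Z.subtype
  have hs : s.range = ⊤ := by
    refine eq_top_iff.2 fun u _ => ?_
    rcases Int.units_eq_one_or u with rfl | rfl
    · exact one_mem _
    · refine ⟨⟨swap (Fin.castLE h9 6) (Fin.castLE h9 7), Subgroup.mem_centralizer_singleton_iff.2 ?_⟩, ?_⟩
      · refine (swap_commute ?_ ?_).eq <;> rw [emb_lt] <;> congr 1 <;> decide +kernel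
      · exact Perm.sign_swap fun e => absurd (Fin.castLE_injective h9 e) (by decide)
  have hZ : Nat.card Z = (n - 6).factorial * 18 := by
    have hct : σ.cycleType = Multiset.replicate 2 3 := by
      have key : ∀ τ : Perm (Fin 9), (emb h9 τ).cycleType = τ.cycleType := fun τ => by
        rw [emb, Perm.viaEmbeddingHom_apply]
        unfold Equiv.Perm.viaEmbedding
        convert Perm.cycleType_extendDomain (g := τ) (Equiv.ofInjective (Fin.castLEEmb h9).1 (Fin.castLEEmb h9).2) using 3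
      exact (key _).trans ab_support
    rw [nat_card_centralizer, hct, Fintype.card_fin]
    simp [Multiset.toFinset_replicate, Nat.factorial]
    ring
  have h3 : 2 * Nat.card ↥(Z ⊓ alternatingGroup (Fin n)) = Nat.card Z := by
    rw [← s.ker.card_mul_index, Subgroup.index_ker, hs, Subgroup.card_top, Nat.card_eq_fintype_card (α := ℤˣ),
      Fintype.card_units_int, mul_comm]
    refine congrArg (fun m => m * 2) (Nat.card_congr ⟨fun x => ⟨⟨x, x.2.1⟩, ?_⟩, fun x => ⟨x.1, x.1.2, ?_⟩,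
      fun x => rfl, fun x => rfl⟩)
    · exact MonoidHom.mem_ker.2 (Perm.mem_alternatingGroup.1 x.2.2)
    · exact Perm.mem_alternatingGroup.2 (MonoidHom.mem_ker.1 x.2)
  rw [← f.ker.card_mul_index, Subgroup.index_ker, ← hZ, ← h3]
  exact Nat.mul_dvd_mul h2 (Subgroup.card_dvd_of_le h1)

/-- An element of the centralizer of `a b` permuting `z`, `T`, `T z` cyclically. -/
theorem exists_rot [Finite G] (h10 : n ≤ 10) :
    ∃ ρ : G, Commute ρ (F.a * F.b) ∧ ρ * K.z * ρ⁻¹ = F.T ∧ ρ * F.T * ρ⁻¹ = F.T * K.z ∧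
      ρ * (F.T * K.z) * ρ⁻¹ = K.z := by
  classical
  haveI := Fact.mk Nat.prime_three
  obtain ⟨s, hs1, hs2⟩ := F.swap
  set γ := F.g * s with hγ
  have hzT : K.z * F.T = F.T * K.z := F.Tz.eq.symm
  have e1 : γ * K.z * γ⁻¹ = F.T * K.z := by
    rw [hγ, show F.g * s * K.z * (F.g * s)⁻¹ = F.g * (s * K.z * s⁻¹) * F.g⁻¹ by group, hs1, F.g_T]
  have e2 : γ * F.T * γ⁻¹ = K.z := by
    rw [hγ, show F.g * s * F.T * (F.g * s)⁻¹ = F.g * (s * F.T * s⁻¹) * F.g⁻¹ by group, hs2, F.gz.eq,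
      mul_inv_cancel_right]
  have e3 : γ * (F.T * K.z) * γ⁻¹ = F.T := by
    rw [show γ * (F.T * K.z) * γ⁻¹ = γ * F.T * γ⁻¹ * (γ * K.z * γ⁻¹) by group, e1, e2, ← mul_assoc, hzT,
      mul_assoc, z_mul_z, mul_one]
  have hab : F.a * F.b ∈ F.D :=
    F.mem_D.2 ⟨F.az.mul_left F.bz, F.T_ab.symm⟩
  let d0 : ↥F.D := ⟨F.a * F.b, hab⟩
  have hd0 : orderOf d0 = 3 := by rw [← Subgroup.orderOf_coe]; exact F.ab_ord
  have hD9 : ¬ 3 ^ 2 ∣ Nat.card ↥F.D := by
    intro h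
    have h1 : F.toPerm.range ≤ Subgroup.centralizer ({emb h9 X0} : Set (Perm (Fin n))) := by
      rintro _ ⟨x, rfl⟩
      exact Subgroup.mem_centralizer_singleton_iff.2 (F.toPerm_commute x).eq
    have h2 : Nat.card F.toPerm.ker ∣ 2 := by
      let zD : ↥F.D := ⟨K.z, Frame.z_mem F.toFrame⟩
      have hz2 : orderOf zD = 2 := by rw [← Subgroup.orderOf_coe]; exact K.hz
      refine (Subgroup.card_dvd_of_le (fun x hx => ?_ : F.toPerm.ker ≤ Subgroup.zpowers zD)).trans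
        (by rw [Nat.card_zpowers, hz2])
      rcases (show K.Img (x : G) 1 from (MonoidHom.mem_ker.1 hx) ▸ F.img_toPerm x).eq_or with e | e
      · rw [show x = 1 from Subtype.ext e]; exact one_mem _
      · rw [show x = zD from Subtype.ext e]; exact Subgroup.mem_zpowers _
    have h3 := h.trans (dvd_of_eq (F.toPerm.ker.card_mul_index).symm)
    rw [Subgroup.index_ker] at h3
    have h4 := h3.trans (Nat.mul_dvd_mul h2 (Subgroup.card_dvd_of_le h1))
    rw [card_centralizer_invol (k := 4) (by rw [← map_mul, X0_facts.1, map_one]) (by norm_num)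
      (by rw [emb_support, Finset.card_map, X0_facts.2.1]), Fintype.card_fin] at h4
    revert h4
    obtain rfl | rfl : n = 9 ∨ n = 10 := by omega
    · decide +kernel
    · decide +kernel
  obtain ⟨P, hP⟩ := (IsPGroup.of_card (p := 3) (n := 1) (G := Subgroup.zpowers d0)
    (by rw [Nat.card_zpowers, hd0, pow_one])).exists_le_sylow
  have hPd : (P : Subgroup ↥F.D) = Subgroup.zpowers d0 := by
    refine (Subgroup.eq_of_le_of_card_ge hP ?_).symm
    obtain ⟨k, hk⟩ := IsPGroup.iff_card.1 P.isPGroup'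
    rw [Nat.card_zpowers, hd0, hk]
    refine (Nat.pow_le_pow_right (by norm_num) (show k ≤ 1 from ?_)).trans (le_of_eq (pow_one 3))
    by_contra hk2
    exact hD9 ((pow_dvd_pow 3 (show 2 ≤ k by omega)).trans (hk ▸ Subgroup.card_subgroup_dvd_card _))
  -- the conjugate of `a b`
  have hab' : γ * (F.a * F.b) * γ⁻¹ ∈ F.D := by
    obtain ⟨h1, h2⟩ := F.mem_D.1 hab
    have i1 := h2.map (MulAut.conj γ).toMonoidHom
    have i2 := (h2.mul_right h1).map (MulAut.conj γ).toMonoidHom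
    simp only [MulEquiv.coe_toMonoidHom, MulAut.conj_apply] at i1 i2
    rw [e2] at i1
    rw [e3] at i2
    exact F.mem_D.2 ⟨i1, i2⟩
  let d1 : ↥F.D := ⟨γ * (F.a * F.b) * γ⁻¹, hab'⟩
  have hd1 : orderOf d1 = 3 := by
    rw [← Subgroup.orderOf_coe]
    show orderOf (MulAut.conj γ (F.a * F.b)) = 3
    rw [MulEquiv.orderOf_eq, F.ab_ord]
  obtain ⟨Q, hQ⟩ := (IsPGroup.of_card (p := 3) (n := 1) (G := Subgroup.zpowers d1)
    (by rw [Nat.card_zpowers, hd1, pow_one])).exists_le_sylow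
  obtain ⟨d, hd⟩ := MulAction.exists_smul_eq (↥F.D) Q P
  have h1 : d * d1 * d⁻¹ ∈ Subgroup.zpowers d0 := by
    rw [← hPd, ← hd, Sylow.coe_subgroup_smul, Subgroup.mem_pointwise_smul_iff_inv_smul_mem]
    have e : (MulAut.conj d)⁻¹ • (d * d1 * d⁻¹) = d1 := by
      show (MulAut.conj d)⁻¹ (d * d1 * d⁻¹) = d1
      rw [MulAut.conj_inv_apply]; group
    rw [e]
    exact hQ (Subgroup.mem_zpowers d1)
  obtain ⟨k, hk⟩ := h1
  set δ := (d : G) * γ with hδ
  have hk' : δ * (F.a * F.b) * δ⁻¹ = (F.a * F.b) ^ k := by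
    have := (congrArg Subtype.val hk).symm
    simp only [Subgroup.coe_mul, InvMemClass.coe_inv, SubgroupClass.coe_zpow, d1, d0] at this
    rw [hδ, ← this]
    group
  obtain ⟨dz, dT⟩ := F.mem_D.1 d.2
  have f1 : δ * K.z * δ⁻¹ = F.T * K.z := by
    rw [hδ, show (d : G) * γ * K.z * ((d : G) * γ)⁻¹ = d * (γ * K.z * γ⁻¹) * (d : G)⁻¹ by group, e1,
      (dT.mul_right dz).eq, mul_inv_cancel_right]
  have f2 : δ * F.T * δ⁻¹ = K.z := by
    rw [hδ, show (d : G) * γ * F.T * ((d : G) * γ)⁻¹ = d * (γ * F.T * γ⁻¹) * (d : G)⁻¹ by group, e2,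
      dz.eq, mul_inv_cancel_right]
  have f3 : δ * (F.T * K.z) * δ⁻¹ = F.T := by
    rw [show δ * (F.T * K.z) * δ⁻¹ = δ * F.T * δ⁻¹ * (δ * K.z * δ⁻¹) by group, f1, f2, ← mul_assoc, hzT,
      mul_assoc, z_mul_z, mul_one]
  have two : ∀ x, δ * δ * x * (δ * δ)⁻¹ = δ * (δ * x * δ⁻¹) * δ⁻¹ := fun x => by group
  have hkk : (3 : ℤ) ∣ k * k - 1 := by
    have hk3 : ¬ (3 : ℤ) ∣ k := fun h => by
      have h0 : (F.a * F.b) ^ k = 1 := orderOf_dvd_iff_zpow_eq_one.1 (by rw [F.ab_ord]; exact h)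
      rw [h0, conj_eq_one_iff] at hk'
      exact F.ab_ne hk'
    rw [Int.dvd_iff_emod_eq_zero, Int.sub_emod, Int.mul_emod]
    rcases (show k % 3 = 1 ∨ k % 3 = 2 by omega) with e | e <;> rw [e] <;> rfl
  refine ⟨δ * δ, ?_, by rw [two, f1, f3], by rw [two, f2, f1], by rw [two, f3, f2]⟩
  refine mul_inv_eq_iff_eq_mul.1 ?_
  rw [two, hk', ← conj_zpow, hk', ← zpow_mul]
  obtain ⟨m, hm⟩ := hkk
  rw [show k * k = 1 + 3 * m by linarith, zpow_add, zpow_one, zpow_mul, zpow_ofNat, F.ab_cube, one_zpow, mul_one]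

end Triple

end Cfg

end Cfsg.Agent.Invol.TwoAn
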