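import Mathlib
import Cfsg.Agent.Lib.Invol.TwoAn.Triple
import Cfsg.Agent.Lib.Grp.Cores
import Cfsg.Prelude.Def_CaseTheorems

/-!
# Degrees nine and ten: the core of the centralizer of `a b`
-/

set_option autoImplicit false
set_option linter.unusedSectionVars false

namespace Cfsg.Agent.Invol.TwoAn

universe u

variable {G : Type u} [Group G] [Finite G] {n : ℕ}

/-- A subgroup of a group with all involutions conjugate contains them all once it has even order. -/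
theorem exists_invol {X : Type u} [Group X] [Finite X] {N : Subgroup X} (h : ¬ Odd (Nat.card N)) :
    ∃ v ∈ N, v * v = 1 ∧ v ≠ 1 := by
  haveI : Fact (Nat.Prime 2) := ⟨Nat.prime_two⟩
  rw [Nat.not_odd_iff_even, even_iff_two_dvd] at h
  obtain ⟨⟨v, hv⟩, hv2⟩ := exists_prime_orderOf_dvd_card' 2 h
  rw [Subgroup.orderOf_mk] at hv2
  refine ⟨v, hv, by rw [← pow_two, ← hv2, pow_orderOf_eq_one], fun e => ?_⟩
  rw [e, orderOf_one] at hv2; omega

theorem eq_one_of_odd_sq {x : G} {H : Subgroup G} (hH : Odd (Nat.card H)) (hx : x ∈ H) (h2 : x * x = 1) :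
    x = 1 := by
  have h1 : orderOf x ∣ Nat.card H := Subgroup.orderOf_dvd_natCard H hx
  have h3 : orderOf x ∣ 2 := orderOf_dvd_of_pow_eq_one (by rw [pow_two]; exact h2)
  exact orderOf_eq_one_iff.1 (Nat.eq_one_of_dvd_coprimes (Nat.coprime_two_right.2 hH) h1 h3)

namespace Cfg

variable {K : Cfg G n}

namespace Triple

variable {h9 : 9 ≤ n} (F : Triple K h9)

/-- The core of the centralizer of `a b`. -/
def O : Subgroup G := (Cfsg.oddCore ↥F.W).map F.W.subtype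

theorem O_le : F.O ≤ F.W := Subgroup.map_subtype_le _

theorem O_odd : Odd (Nat.card F.O) := by
  rw [O, Subgroup.card_map_of_injective F.W.subtype_injective]
  exact Nat.coprime_two_right.1 Grp.pPrimeCore_coprime

theorem le_O {N : Subgroup G} (hN : N ≤ F.W) (hn : ∀ w ∈ F.W, ∀ x ∈ N, w * x * w⁻¹ ∈ N)
    (ho : Odd (Nat.card N)) : N ≤ F.O := by
  have h := Grp.le_pPrimeCore (p := 2) (N := N.subgroupOf F.W)
    ⟨fun x hx w => hn w w.2 x hx⟩ (by
      rw [Nat.card_congr (Subgroup.subgroupOfEquivOfLe hN).toEquiv]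
      exact Nat.coprime_two_right.2 ho)
  intro x hx
  exact ⟨⟨x, hN hx⟩, h hx, rfl⟩

/-- What sends `a b` to itself or its inverse normalizes the centralizer. -/
theorem W_iff {u : G} (hu : u * (F.a * F.b) * u⁻¹ = F.a * F.b ∨ u * (F.a * F.b) * u⁻¹ = (F.a * F.b)⁻¹)
    (w : G) : w ∈ F.W ↔ u * w * u⁻¹ ∈ F.W := by
  rw [F.mem_W, F.mem_W]
  rcases hu with e | e
  · conv_rhs => rw [← e]
    exact (Commute.conj_iff u).symm
  · conv_rhs => rw [← Commute.inv_right_iff, ← e]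
    exact (Commute.conj_iff u).symm

theorem O_conj {u : G} (hu : u * (F.a * F.b) * u⁻¹ = F.a * F.b ∨ u * (F.a * F.b) * u⁻¹ = (F.a * F.b)⁻¹)
    {x : G} (hx : x ∈ F.O) : u * x * u⁻¹ ∈ F.O := by
  have hW : F.W.map (MulAut.conj u).toMonoidHom = F.W := by
    ext y
    rw [Subgroup.mem_map_equiv, F.W_iff hu]
    rw [show u * (MulAut.conj u).symm y * u⁻¹ = y from (MulAut.conj u).apply_symm_apply y]
  let α : ↥F.W ≃* ↥F.W := ((MulAut.conj u).subgroupMap F.W).trans (MulEquiv.subgroupCongr hW)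
  obtain ⟨x', hx', rfl⟩ := hx
  have h := (inferInstance : (Cfsg.oddCore ↥F.W).Characteristic).fixed α
  refine ⟨α x', ?_, rfl⟩
  have h1 : x' ∈ (Cfsg.oddCore ↥F.W).comap α.toMonoidHom := by rw [h]; exact hx'
  exact h1

theorem O_conj_iff {u : G}
    (hu : u * (F.a * F.b) * u⁻¹ = F.a * F.b ∨ u * (F.a * F.b) * u⁻¹ = (F.a * F.b)⁻¹) (x : G) :
    x ∈ F.O ↔ u * x * u⁻¹ ∈ F.O := by
  refine ⟨F.O_conj hu, fun h => ?_⟩
  have hu' : u⁻¹ * (F.a * F.b) * u⁻¹⁻¹ = F.a * F.b ∨ u⁻¹ * (F.a * F.b) * u⁻¹⁻¹ = (F.a * F.b)⁻¹ := by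
    rcases hu with e | e
    · left
      conv_lhs => rw [← e]
      group
    · right
      calc u⁻¹ * (F.a * F.b) * u⁻¹⁻¹ = u⁻¹ * (F.a * F.b)⁻¹⁻¹ * u := by group
        _ = u⁻¹ * (u * (F.a * F.b) * u⁻¹)⁻¹ * u := by rw [e]
        _ = _ := by group
  have := F.O_conj hu' h
  rwa [show u⁻¹ * (u * x * u⁻¹) * u⁻¹⁻¹ = x by group] at this

theorem W_conj {u : G} (hu : u ∈ F.W) : u * (F.a * F.b) * u⁻¹ = F.a * F.b := by
  rw [(F.mem_W.1 hu).eq, mul_inv_cancel_right]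

theorem g_ab : F.g * (F.a * F.b) * F.g⁻¹ = (F.a * F.b)⁻¹ := by
  rw [show F.g * (F.a * F.b) * F.g⁻¹ = F.g * F.a * F.g⁻¹ * (F.g * F.b * F.g⁻¹) by group, F.g_a, F.g_b,
    ← mul_inv_rev, F.ab.eq]

theorem ab_mem_O : F.a * F.b ∈ F.O := by
  refine F.le_O (N := Subgroup.zpowers (F.a * F.b)) (Subgroup.zpowers_le.2 (F.mem_W.2 (Commute.refl _))) ?_ ?_
    (Subgroup.mem_zpowers _)
  · rintro w hw x ⟨k, rfl⟩
    rw [((F.mem_W.1 hw).zpow_right k).eq, mul_inv_cancel_right]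
    exact ⟨k, rfl⟩
  · rw [Nat.card_zpowers, F.ab_ord]; exact ⟨1, rfl⟩

theorem card_inter_conj {u v : G}
    (hu : u * (F.a * F.b) * u⁻¹ = F.a * F.b ∨ u * (F.a * F.b) * u⁻¹ = (F.a * F.b)⁻¹) :
    Nat.card ↥(F.O ⊓ Subgroup.centralizer ({u * v * u⁻¹} : Set G)) =
      Nat.card ↥(F.O ⊓ Subgroup.centralizer ({v} : Set G)) := by
  have cen : ∀ {v x : G}, x ∈ Subgroup.centralizer ({v} : Set G) ↔ Commute x v := fun {v x} =>
    Subgroup.mem_centralizer_singleton_iff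
  let f : ↥(F.O ⊓ Subgroup.centralizer ({v} : Set G)) → ↥(F.O ⊓ Subgroup.centralizer ({u * v * u⁻¹} : Set G)) :=
    fun x => ⟨u * x * u⁻¹, F.O_conj hu x.2.1, cen.2 ((Commute.conj_iff u).2 (cen.1 x.2.2))⟩
  refine (Nat.card_eq_of_bijective f ⟨fun x y h => Subtype.ext (mul_left_cancel (mul_right_cancel
    (congrArg Subtype.val h :))), fun x => ⟨⟨u⁻¹ * x * u, (F.O_conj_iff hu _).2 ?_, cen.2 ?_⟩,
      Subtype.ext (show u * (u⁻¹ * (x : G) * u) * u⁻¹ = x by group)⟩⟩).symm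
  · rw [show u * (u⁻¹ * (x : G) * u) * u⁻¹ = x by group]; exact x.2.1
  · rw [← Commute.conj_iff u, show u * (u⁻¹ * (x : G) * u) * u⁻¹ = x by group]
    exact cen.1 x.2.2

theorem g_fixes {f : G} (h : f = F.a ∨ f = F.c) : F.g * f * F.g⁻¹ = f ∨ F.g * f * F.g⁻¹ = f⁻¹ := by
  rcases h with rfl | rfl
  · exact Or.inr F.g_a
  · exact Or.inl F.g_c

/-- The centralizer of the core has odd order once the core is not contained in `C(z)`. -/
theorem le_O_of_centralizes {f : G} (hfW : f ∈ F.W) (hf : ∀ x ∈ F.O, Commute f x)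
    (hconj : ∀ v ∈ F.W, v * v = 1 → v ≠ 1 → ∃ w ∈ F.W, w * v * w⁻¹ = K.z)
    (hT : Nat.card ↥(F.O ⊓ Subgroup.centralizer ({K.z} : Set G) ⊓ Subgroup.centralizer ({F.T} : Set G)) <
      Nat.card ↥(F.O ⊓ Subgroup.centralizer ({F.T} : Set G))) : f ∈ F.O := by
  set N := F.W ⊓ Subgroup.centralizer (F.O : Set G) with hN
  have hNn : ∀ w ∈ F.W, ∀ x ∈ N, w * x * w⁻¹ ∈ N := by
    intro w hw x hx
    refine ⟨Subgroup.mul_mem _ (Subgroup.mul_mem _ hw hx.1) (Subgroup.inv_mem _ hw), Subgroup.mem_centralizer_iff.2 fun y hy => ?_⟩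
    have hy' := (F.O_conj_iff (Or.inl (F.W_conj hw)) (w⁻¹ * y * w)).2 (by
      rw [show w * (w⁻¹ * y * w) * w⁻¹ = y by group]; exact hy)
    have h2 := Subgroup.mem_centralizer_iff.1 hx.2 _ hy'
    calc y * (w * x * w⁻¹) = w * (w⁻¹ * y * w * x) * w⁻¹ := by group
      _ = w * (x * (w⁻¹ * y * w)) * w⁻¹ := by rw [h2]
      _ = _ := by group
  have hodd : Odd (Nat.card N) := by
    by_contra h
    obtain ⟨v, hv, hv2, hv1⟩ := exists_invol h
    obtain ⟨w, hw, hwz⟩ := hconj v hv.1 hv2 hv1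
    have hzN : K.z ∈ N := hwz ▸ hNn w hw v hv
    refine absurd hT (not_lt.2 (Nat.le_of_eq ?_))
    congr 1
    refine congrArg _ (le_antisymm (fun x hx => ⟨⟨hx.1, ?_⟩, hx.2⟩) fun x hx => ⟨hx.1.1, hx.2⟩)
    exact Subgroup.mem_centralizer_singleton_iff.2 (Subgroup.mem_centralizer_iff.1 hzN.2 x hx.1)
  exact F.le_O inf_le_left hNn hodd ⟨hfW, Subgroup.mem_centralizer_iff.2 fun y hy => (hf y hy).eq.symm⟩

/-- A subgroup of the elements fixed by `z` in the core containing `a b`. -/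
theorem inter_T (h : F.O ⊓ Subgroup.centralizer ({K.z} : Set G) ≤ F.A) :
    Nat.card ↥(F.O ⊓ Subgroup.centralizer ({K.z} : Set G) ⊓ Subgroup.centralizer ({F.T} : Set G)) = 3 := by
  have e : F.O ⊓ Subgroup.centralizer ({K.z} : Set G) ⊓ Subgroup.centralizer ({F.T} : Set G) =
      Subgroup.zpowers (F.a * F.b) := by
    refine le_antisymm (fun x hx => ?_) (Subgroup.zpowers_le.2 ⟨⟨F.ab_mem_O,
      Subgroup.mem_centralizer_singleton_iff.2 (F.az.mul_left F.bz)⟩,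
      Subgroup.mem_centralizer_singleton_iff.2 F.T_ab.symm⟩)
    obtain ⟨i, j, k, rfl⟩ := h hx.1
    have hT : F.T * (F.a ^ i * F.b ^ j * F.c ^ k) * F.T⁻¹ = F.a ^ i * F.b ^ j * F.c ^ k := by
      rw [← (show Commute (F.a ^ i * F.b ^ j * F.c ^ k) F.T from
        Subgroup.mem_centralizer_singleton_iff.1 hx.2).eq, mul_inv_cancel_right]
    rw [show F.T * (F.a ^ i * F.b ^ j * F.c ^ k) * F.T⁻¹ =
      F.T * F.a ^ i * F.T⁻¹ * (F.T * F.b ^ j * F.T⁻¹) * (F.T * F.c ^ k * F.T⁻¹) by group,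
      ← conj_pow, ← conj_pow, ← conj_pow, F.T_a, F.T_b, F.T_c, inv_pow] at hT
    -- read off the exponents
    have himg := (((F.img_b.pow i).mul (F.img_a.pow j)).mul ((F.img_c.pow k).inv))
    rw [hT] at himg
    have h2 := himg.unique (((F.img_a.pow i).mul (F.img_b.pow j)).mul (F.img_c.pow k))
    simp only [← map_pow, ← map_mul, ← map_inv] at h2
    have h3 := emb_injective h9 h2
    have hr : ∀ {τ : Equiv.Perm (Fin 9)}, τ ^ 3 = 1 → ∀ i : ℕ, τ ^ i = τ ^ (i % 3) := fun {τ} hτ i => by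
      conv_lhs => rw [← Nat.mod_add_div i 3, pow_add, pow_mul, hτ, one_pow, mul_one]
    rw [hr three_facts.1 i, hr three_facts.2.1 i, hr three_facts.1 j, hr three_facts.2.1 j,
      hr three_facts.2.2.1 k] at h3
    have key : ∀ i j k : Fin 3, B0 ^ (i : ℕ) * A0 ^ (j : ℕ) * (C0 ^ (k : ℕ))⁻¹ =
        A0 ^ (i : ℕ) * B0 ^ (j : ℕ) * C0 ^ (k : ℕ) → i = j ∧ (k : ℕ) = 0 := by decide +kernel
    obtain ⟨e1, e2⟩ := key ⟨i % 3, Nat.mod_lt _ (by norm_num)⟩ ⟨j % 3, Nat.mod_lt _ (by norm_num)⟩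
      ⟨k % 3, Nat.mod_lt _ (by norm_num)⟩ h3
    have hg : ∀ {x : G}, x ^ 3 = 1 → ∀ m : ℕ, x ^ m = x ^ (m % 3) := fun {x} hx m => by
      conv_lhs => rw [← Nat.mod_add_div m 3, pow_add, pow_mul, hx, one_pow, mul_one]
    have e1' : i % 3 = j % 3 := congrArg Fin.val e1
    have e2' : k % 3 = 0 := e2
    rw [hg F.a3 i, hg F.b3 j, hg F.c3 k, ← e1', e2', pow_zero, mul_one, ← F.ab.mul_pow]
    exact Subgroup.pow_mem _ (Subgroup.mem_zpowers _) _
  rw [e, Nat.card_zpowers, F.ab_ord]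

/-- If two of the generators are in the core then so is the third. -/
theorem mem_O_of {e f : G} (hef : e = F.a ∧ f = F.c ∨ e = F.c ∧ f = F.a) (he : e ∈ F.O)
    (hA : F.O ⊓ Subgroup.centralizer ({K.z} : Set G) ≤ F.A) {ρ : G} (hρ : Commute ρ (F.a * F.b))
    (hρz : ρ * K.z * ρ⁻¹ = F.T)
    (hconj : ∀ v ∈ F.W, v * v = 1 → v ≠ 1 → ∃ w ∈ F.W, w * v * w⁻¹ = K.z) : f ∈ F.O := by
  classical
  by_contra hf
  have h9z : Nat.card ↥(F.O ⊓ Subgroup.centralizer ({K.z} : Set G)) = 9 := by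
    have hdvd : Nat.card ↥(F.O ⊓ Subgroup.centralizer ({K.z} : Set G)) ∣ 3 ^ 3 := by
      rw [show (3 : ℕ) ^ 3 = 27 by norm_num, ← F.card_A]
      exact Subgroup.card_dvd_of_le hA
    obtain ⟨m, hm, hc⟩ := (Nat.dvd_prime_pow Nat.prime_three).1 hdvd
    have hne : ¬ m = 3 := by
      intro h
      refine hf ?_
      have hAe : F.O ⊓ Subgroup.centralizer ({K.z} : Set G) = F.A :=
        Subgroup.eq_of_le_of_card_ge hA (by rw [hc, h, F.card_A]; norm_num)
      have : f ∈ F.O ⊓ Subgroup.centralizer ({K.z} : Set G) := by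
        rw [hAe]
        rcases hef with ⟨-, rfl⟩ | ⟨-, rfl⟩
        · exact F.c_A
        · exact F.a_A
      exact this.1
    -- `a b` and `e` are independent
    have h2 : Subgroup.zpowers (F.a * F.b) < F.O ⊓ Subgroup.centralizer ({K.z} : Set G) := by
      refine lt_of_le_of_ne (Subgroup.zpowers_le.2 ⟨F.ab_mem_O,
        Subgroup.mem_centralizer_singleton_iff.2 (F.az.mul_left F.bz)⟩) fun h => ?_
      have he' : e ∈ Subgroup.zpowers (F.a * F.b) := by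
        rw [h]
        refine ⟨he, Subgroup.mem_centralizer_singleton_iff.2 ?_⟩
        rcases hef with ⟨rfl, -⟩ | ⟨rfl, -⟩
        · exact F.az
        · exact F.cz
      obtain ⟨i, hi⟩ := he'
      have hTe : F.T * e * F.T⁻¹ = e := by
        rw [← hi]
        show F.T * (F.a * F.b) ^ i * F.T⁻¹ = _
        rw [(F.T_ab.zpow_right i).eq, mul_inv_cancel_right]
      rcases hef with ⟨rfl, -⟩ | ⟨rfl, -⟩
      · rw [F.T_a] at hTe
        have h' := F.img_b
        rw [hTe] at h'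
        exact absurd (emb_injective h9 (h'.unique F.img_a)) (by decide +kernel)
      · rw [F.T_c] at hTe
        have h' := F.img_c.inv
        rw [hTe, ← map_inv] at h'
        exact absurd (emb_injective h9 (h'.unique F.img_c)) (by decide +kernel)
    have h3 : 3 < Nat.card ↥(F.O ⊓ Subgroup.centralizer ({K.z} : Set G)) := by
      have hle := Subgroup.card_le_of_le h2.le
      rw [Nat.card_zpowers, F.ab_ord] at hle
      refine lt_of_le_of_ne hle fun h => h2.ne ?_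
      exact Subgroup.eq_of_le_of_card_ge h2.le (by rw [Nat.card_zpowers, F.ab_ord]; omega)
    rw [hc] at h3 ⊢
    interval_cases m <;> omega
  have h9T : Nat.card ↥(F.O ⊓ Subgroup.centralizer ({F.T} : Set G)) = 9 := by
    rw [← hρz, F.card_inter_conj (Or.inl (by rw [hρ.eq, mul_inv_cancel_right])), h9z]
  have h3 := F.inter_T hA
  have hef' : f = F.a ∨ f = F.c := by rcases hef with ⟨-, h⟩ | ⟨-, h⟩ <;> simp [h]
  have hfA : f ∈ F.A := by
    rcases hef' with rfl | rfl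
    · exact F.a_A
    · exact F.c_A
  have hfW : f ∈ F.W := (F.A_le_Wz hfA).1
  have conjW : ∀ {u}, u ∈ F.Wz → ∀ x ∈ F.O, u * x * u⁻¹ ∈ F.O := fun hu x hx =>
    F.O_conj (Or.inl (F.W_conj hu.1)) hx
  have hfT : F.T * f * F.T⁻¹ = f⁻¹ ∨ f = F.a := by
    rcases hef' with rfl | rfl
    · exact Or.inr rfl
    · exact Or.inl F.T_c
  -- `a` is congruent to `a / b` modulo `a b`
  set f' := if f = F.a then F.a * F.b⁻¹ else f with hf'
  have hf'A : f' ∈ F.A := by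
    rw [hf']; split_ifs
    · exact mul_mem F.a_A (inv_mem F.b_A)
    · exact hfA
  have hf'T : F.T * f' * F.T⁻¹ = f'⁻¹ := by
    rw [hf']; split_ifs with h
    · rw [show F.T * (F.a * F.b⁻¹) * F.T⁻¹ = F.T * F.a * F.T⁻¹ * (F.T * F.b * F.T⁻¹)⁻¹ by group, F.T_a, F.T_b,
        mul_inv_rev, inv_inv]
    · exact hfT.resolve_right h
  have hf'g : F.g * f' * F.g⁻¹ = f' ∨ F.g * f' * F.g⁻¹ = f'⁻¹ := by
    rw [hf']; split_ifs with h
    · right
      rw [show F.g * (F.a * F.b⁻¹) * F.g⁻¹ = F.g * F.a * F.g⁻¹ * (F.g * F.b * F.g⁻¹)⁻¹ by group, F.g_a, F.g_b,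
        mul_inv_rev, inv_inv]
      exact ((F.ab.inv_left).eq)
    · exact F.g_fixes hef'
  have hall := fixed_line F.O F.O_odd z_mul_z F.sq F.Tz.symm (conjW F.z_mem) (conjW F.T_mem)
    (F.O_conj_iff (Or.inr F.g_ab)) F.gz F.g_T (conjW (F.A_le_Wz hf'A)) (F.A_cube hf'A)
    ((F.mem_Wz.1 (F.A_le_Wz hf'A)).2) hf'T hf'g h9z h9T h3 F.ab_mem_O F.ab_ne (F.az.mul_left F.bz) F.T_ab.symm
    (fun x hx hxz => F.A_comm hf'A (hA ⟨hx, Subgroup.mem_centralizer_singleton_iff.2 hxz⟩))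
  have hf'O := F.le_O_of_centralizes (F.A_le_Wz hf'A).1 hall hconj (by rw [h3, h9T]; norm_num)
  refine hf ?_
  rw [hf'] at hf'O
  split_ifs at hf'O with h
  · have e2 : F.a * F.b * (F.a * F.b⁻¹) = F.a⁻¹ := by
      rw [mul_assoc, ← mul_assoc F.b, ← F.ab.eq, ← mul_assoc, ← mul_assoc, mul_inv_cancel_right]
      exact eq_inv_of_mul_eq_one_left (by rw [mul_assoc, ← pow_two, ← pow_succ', F.a3])
    have := mul_mem F.ab_mem_O hf'O
    rw [e2, inv_mem_iff] at this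
    exact h ▸ this
  · exact hf'O

end Triple

end Cfg

end Cfsg.Agent.Invol.TwoAn
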