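import Mathlib
import Cfsg.Agent.Lib.Invol.TwoAn.Core
import Cfsg.Agent.Lib.Invol.GW.Dihedral.ThreeDoneFinal
import Cfsg.Agent.Lib.Invol.GW.Klein.LinearPSL
import Cfsg.Agent.Lib.Invol.GW.Consumers.HallNumbers

/-!
# Degree nine: the three generators lie in the core of the centralizer of `a b`
-/

set_option autoImplicit false
set_option linter.unusedSectionVars false
set_option maxRecDepth 100000

namespace Cfsg.Agent.Invol.TwoAn

universe u

variable {G : Type u} [Group G] [Finite G]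

namespace Cfg.Triple

variable {K : Cfg G 9} {h9 : 9 ≤ 9} (F : Triple K h9)

theorem invol_mem_A {x : G} (hx : x ∈ F.A) (h2 : x * x = 1) : x = 1 :=
  eq_one_of_odd_sq (H := F.A) (by rw [F.card_A]; exact ⟨13, rfl⟩) hx h2

theorem T_ne_z : F.T ≠ K.z := F.ne_z

theorem Tz_ne : F.T * K.z ≠ 1 := fun e => F.ne_z (by
  rw [eq_inv_of_mul_eq_one_left e, z_inv])

/-- The conjugation action of `T` on the subgroup. -/
theorem T_A {x : G} (hx : x ∈ F.A) : F.T * x * F.T⁻¹ ∈ F.A := by
  obtain ⟨i, j, k, rfl⟩ := hx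
  rw [show F.T * (F.a ^ i * F.b ^ j * F.c ^ k) * F.T⁻¹ =
    F.T * F.a ^ i * F.T⁻¹ * (F.T * F.b ^ j * F.T⁻¹) * (F.T * F.c ^ k * F.T⁻¹) by group,
    ← conj_pow, ← conj_pow, ← conj_pow, F.T_a, F.T_b, F.T_c]
  exact mul_mem (mul_mem (pow_mem F.b_A i) (pow_mem F.a_A j)) (pow_mem (inv_mem F.c_A) k)

/-- The centralizer of `a b` and `z`. -/
theorem Wz_cases {x : G} (hx : x ∈ F.Wz) :
    ∃ y ∈ F.A, x = y ∨ x = y * K.z ∨ x = y * F.T ∨ x = y * (F.T * K.z) := by
  let v : Fin 4 → G := ![1, K.z, F.T, F.T * K.z]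
  have hv : ∀ i, v i ∈ F.Wz := by
    intro i; fin_cases i
    · exact one_mem _
    · exact F.z_mem
    · exact F.T_mem
    · exact mul_mem F.T_mem F.z_mem
  let f : ↥F.A × Fin 4 → ↥F.Wz := fun p => ⟨p.1 * v p.2, mul_mem (F.A_le_Wz p.1.2) (hv p.2)⟩
  have vsq : ∀ i, v i * v i = 1 := by
    intro i; fin_cases i
    · exact mul_one 1
    · exact z_mul_z
    · exact F.sq
    · show F.T * K.z * (F.T * K.z) = 1
      rw [← mul_assoc, mul_assoc F.T, ← F.Tz.eq, ← mul_assoc, F.sq, one_mul, z_mul_z]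
  have vcomm : ∀ i j, Commute (v i) (v j) := by
    have h1 : Commute K.z F.T := F.Tz.symm
    intro i j
    fin_cases i <;> fin_cases j <;> simp only [v] <;>
      first
      | exact Commute.one_left _
      | exact Commute.one_right _
      | exact Commute.refl _
      | exact h1
      | exact h1.symm
      | exact h1.mul_right (Commute.refl _)
      | exact (h1.mul_right (Commute.refl _)).symm
      | exact (Commute.refl _).mul_right h1.symm
      | exact ((Commute.refl _).mul_right h1.symm).symm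
  have vinj : Function.Injective v := by
    have n1 : F.T ≠ 1 := F.ne_one
    have n2 : F.T ≠ K.z := F.ne_z
    have n3 : K.z ≠ 1 := z_ne_one
    intro i j e
    fin_cases i <;> fin_cases j <;> simp only [v] at e <;>
      first
      | rfl
      | exact absurd e n1
      | exact absurd e.symm n1
      | exact absurd e n2
      | exact absurd e.symm n2
      | exact absurd e n3
      | exact absurd e.symm n3
      | exact absurd e F.Tz_ne
      | exact absurd e.symm F.Tz_ne
      | exact absurd (mul_eq_left.1 e) n3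
      | exact absurd (mul_eq_left.1 e.symm) n3
      | exact absurd (mul_eq_right.1 e) n1
      | exact absurd (mul_eq_right.1 e.symm) n1
  have hinj : Function.Injective f := by
    rintro ⟨y, i⟩ ⟨y', j⟩ h
    have h' : (y : G) * v i = y' * v j := congrArg Subtype.val h
    have hA : v j * v i ∈ F.A := by
      have : (y' : G)⁻¹ * y = v j * v i := by
        calc (y' : G)⁻¹ * y = (y' : G)⁻¹ * (y * v i) * v i := by rw [mul_assoc _ _ (v i), mul_assoc, vsq, mul_one]
          _ = (y' : G)⁻¹ * (y' * v j) * v i := by rw [h']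
          _ = _ := by group
      rw [← this]; exact mul_mem (inv_mem y'.2) y.2
    have h1 := F.invol_mem_A hA (by
      rw [← mul_assoc, mul_assoc (v j) (v i) (v j), (vcomm i j).eq, ← mul_assoc, vsq, one_mul, vsq])
    have hij : v i = v j := by
      calc v i = v j * v j * v i := by rw [vsq, one_mul]
        _ = v j * (v j * v i) := mul_assoc _ _ _
        _ = v j := by rw [h1, mul_one]
    obtain rfl := vinj hij
    exact Prod.ext (Subtype.ext (mul_right_cancel h')) rfl
  have hcard : Nat.card ↥F.Wz ≤ Nat.card (↥F.A × Fin 4) := by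
    rw [Nat.card_prod, F.card_A, Nat.card_fin]
    exact (Nat.le_of_dvd (by norm_num [Nat.factorial]) F.card_Wz_dvd).trans (by norm_num [Nat.factorial])
  have hbij := hinj.bijective_of_nat_card_le hcard
  obtain ⟨⟨y, i⟩, hy⟩ := hbij.2 ⟨x, hx⟩
  refine ⟨y, y.2, ?_⟩
  have hx' : (y : G) * v i = x := congrArg Subtype.val hy
  fin_cases i
  · exact Or.inl (by rw [← hx']; exact mul_one _)
  · exact Or.inr (Or.inl hx'.symm)
  · exact Or.inr (Or.inr (Or.inl hx'.symm))
  · exact Or.inr (Or.inr (Or.inr hx'.symm))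

theorem card_Wz_not_dvd : ¬ 8 ∣ Nat.card ↥F.Wz := fun h => by
  have h2 := h.trans F.card_Wz_dvd
  norm_num [Nat.factorial] at h2

/-- Elements of odd order centralizing `a b` and `z`. -/
theorem odd_mem_A {x : G} (hx : x ∈ F.Wz) (ho : Odd (orderOf x)) : x ∈ F.A := by
  have conjA : ∀ w ∈ F.Wz, ∀ y ∈ F.A, w * y * w⁻¹ ∈ F.A := by
    intro w hw y hy
    obtain ⟨u, hu, e⟩ := F.Wz_cases hw
    have base : ∀ v y, v ∈ ({1, K.z, F.T, F.T * K.z} : Set G) → y ∈ F.A → v * y * v⁻¹ ∈ F.A := by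
      rintro v y (rfl | rfl | rfl | rfl) hy
      · simpa using hy
      · rw [((F.mem_Wz.1 (F.A_le_Wz hy)).2).symm.eq, mul_inv_cancel_right]; exact hy
      · exact F.T_A hy
      · rw [show F.T * K.z * y * (F.T * K.z)⁻¹ = F.T * (K.z * y * K.z⁻¹) * F.T⁻¹ by group,
          ((F.mem_Wz.1 (F.A_le_Wz hy)).2).symm.eq, mul_inv_cancel_right]
        exact F.T_A hy
    rcases e with rfl | rfl | rfl | rfl
    · exact mul_mem (mul_mem hu hy) (inv_mem hu)
    all_goals
      rw [show ∀ p q : G, p * q * y * (p * q)⁻¹ = p * (q * y * q⁻¹) * p⁻¹ from fun p q => by group]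
      exact mul_mem (mul_mem hu (base _ y (by simp) hy)) (inv_mem hu)
  have hsq : x * x ∈ F.A := by
    obtain ⟨u, hu, e⟩ := F.Wz_cases hx
    rcases e with rfl | rfl | rfl | rfl
    · exact mul_mem hu hu
    all_goals
      first
      | (rw [show u * K.z * (u * K.z) = u * (K.z * u * K.z⁻¹) * (K.z * K.z) by group, z_mul_z, mul_one]
         exact mul_mem hu (conjA _ F.z_mem u hu))
      | (rw [show u * F.T * (u * F.T) = u * (F.T * u * F.T⁻¹) * (F.T * F.T) by group, F.sq, mul_one]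
         exact mul_mem hu (conjA _ F.T_mem u hu))
      | (rw [show u * (F.T * K.z) * (u * (F.T * K.z)) =
            u * (F.T * K.z * u * (F.T * K.z)⁻¹) * (F.T * (K.z * F.T) * K.z) by group,
           ← F.Tz.eq, ← mul_assoc F.T, F.sq, one_mul, z_mul_z, mul_one]
         exact mul_mem hu (conjA _ (mul_mem F.T_mem F.z_mem) u hu))
  obtain ⟨k, hk⟩ := ho
  have h := pow_mem hsq (k + 1)
  rwa [← pow_two, ← pow_mul, show 2 * (k + 1) = (2 * k + 1) + 1 by ring, pow_succ, ← hk, pow_orderOf_eq_one,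
    one_mul] at h

/-- The four-group `⟨z, T⟩`. -/
def V : Subgroup G where
  carrier := {x | x = 1 ∨ x = K.z ∨ x = F.T ∨ x = F.T * K.z}
  one_mem' := Or.inl rfl
  mul_mem' := by
    have hzT : K.z * F.T = F.T * K.z := F.Tz.eq.symm
    have e1 : K.z * (F.T * K.z) = F.T := by rw [← mul_assoc, hzT, mul_assoc, z_mul_z, mul_one]
    have e2 : F.T * (F.T * K.z) = K.z := by rw [← mul_assoc, F.sq, one_mul]
    have e3 : F.T * K.z * K.z = F.T := by rw [mul_assoc, z_mul_z, mul_one]
    have e4 : F.T * K.z * F.T = K.z := by rw [mul_assoc, hzT, e2]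
    have e5 : F.T * K.z * (F.T * K.z) = 1 := by rw [mul_assoc, e1, F.sq]
    rintro p q (rfl | rfl | rfl | rfl) (rfl | rfl | rfl | rfl) <;>
      simp only [Set.mem_setOf_eq, one_mul, mul_one, z_mul_z, F.sq, hzT, e1, e2, e3, e4, e5, true_or, or_true]
  inv_mem' := by
    rintro p (rfl | rfl | rfl | rfl)
    · exact Or.inl inv_one
    · exact Or.inr (Or.inl z_inv)
    · exact Or.inr (Or.inr (Or.inl (inv_eq_of_mul_eq_one_left F.sq)))
    · refine Or.inr (Or.inr (Or.inr ?_))
      rw [mul_inv_rev, inv_eq_of_mul_eq_one_left F.sq, z_inv]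
      exact F.Tz.eq.symm

theorem card_V : Nat.card F.V = 4 := by
  have n1 : F.T ≠ 1 := F.ne_one
  have n2 : F.T ≠ K.z := F.ne_z
  have n3 : K.z ≠ 1 := z_ne_one
  have e : (F.V : Set G) = {1, K.z, F.T, F.T * K.z} := Set.ext fun x => Iff.rfl
  rw [SetLike.coe_sort_coe (F.V) |>.symm, Nat.card_coe_set_eq, e, Set.ncard_insert_of_notMem,
    Set.ncard_insert_of_notMem, Set.ncard_pair]
  · exact fun h => n3 (mul_eq_left.1 h.symm)
  · simp only [Set.mem_insert_iff, Set.mem_singleton_iff, not_or]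
    exact ⟨n2.symm, fun h => n1 (mul_eq_right.1 h.symm)⟩
  · simp only [Set.mem_insert_iff, Set.mem_singleton_iff, not_or]
    exact ⟨n3.symm, n1.symm, F.Tz_ne.symm⟩

theorem V_klein : IsKleinFour F.V := by
  refine ⟨F.card_V, Nat.dvd_antisymm (Monoid.exponent_dvd_of_forall_pow_eq_one fun x => Subtype.ext ?_) ?_⟩
  · show (x : G) ^ 2 = 1
    rw [pow_two]
    rcases x.2 with e | e | e | e <;> rw [e]
    · exact mul_one 1
    · exact z_mul_z
    · exact F.sq
    · rw [← mul_assoc, mul_assoc F.T, ← F.Tz.eq, ← mul_assoc, F.sq, one_mul, z_mul_z]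
  · have h := Monoid.order_dvd_exponent (⟨K.z, Or.inr (Or.inl rfl)⟩ : F.V)
    rwa [← Subgroup.orderOf_coe, K.hz] at h

theorem V_le : F.V ≤ F.Wz := by
  rintro x (rfl | rfl | rfl | rfl)
  · exact one_mem _
  · exact F.z_mem
  · exact F.T_mem
  · exact mul_mem F.T_mem F.z_mem

theorem V_W : F.V ≤ F.W := fun _ h => (F.V_le h).1

/-- The four-group is a Sylow subgroup of the centralizer of `a b`, fusing all its involutions. -/
theorem sylow_data : (∃ P : Sylow 2 ↥F.W, (P : Subgroup ↥F.W) = F.V.subgroupOf F.W) ∧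
    ∀ v ∈ F.W, v * v = 1 → v ≠ 1 → ∃ w ∈ F.W, w * v * w⁻¹ = K.z := by
  classical
  haveI := Fact.mk Nat.prime_two
  obtain ⟨ρ, hρ, r1, r2, r3⟩ := F.exists_rot (by norm_num)
  have hρW : ρ ∈ F.W := F.mem_W.2 hρ
  have toz : ∀ v ∈ F.V, v ≠ 1 → ∃ w ∈ F.W, w * v * w⁻¹ = K.z := by
    rintro v (rfl | rfl | rfl | rfl) hv
    · exact absurd rfl hv
    · exact ⟨1, one_mem _, by group⟩
    · refine ⟨ρ * ρ, mul_mem hρW hρW, ?_⟩
      rw [show ρ * ρ * F.T * (ρ * ρ)⁻¹ = ρ * (ρ * F.T * ρ⁻¹) * ρ⁻¹ by group, r2, r3]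
    · exact ⟨ρ, hρW, r3⟩
  have hV2 : IsPGroup 2 (F.V.subgroupOf F.W) := IsPGroup.of_card (n := 2) (by
    rw [Nat.card_congr (Subgroup.subgroupOfEquivOfLe F.V_W).toEquiv, F.card_V]; norm_num)
  obtain ⟨P, hP⟩ := hV2.exists_le_sylow
  have hcard : ∀ (S : Subgroup ↥F.W), IsPGroup 2 S → (∀ x ∈ S, Commute (x : G) K.z) → Nat.card S ≤ 4 := by
    intro S hS hc
    let f : ↥S → ↥F.Wz := fun x => ⟨((x : ↥F.W) : G), F.mem_Wz.2 ⟨F.mem_W.1 (x : ↥F.W).2, hc _ x.2⟩⟩
    let fh : ↥S →* ↥F.Wz := MonoidHom.mk' f fun x y => rfl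
    have hf : Function.Injective fh := fun x y h =>
      Subtype.ext (Subtype.ext (congrArg Subtype.val h :))
    have hd := Subgroup.card_dvd_of_injective fh hf
    obtain ⟨k, hk⟩ := IsPGroup.iff_card.1 hS
    rw [hk] at hd ⊢
    refine (Nat.pow_le_pow_right (by norm_num) (show k ≤ 2 from ?_)).trans (by norm_num)
    by_contra hk3
    exact F.card_Wz_not_dvd ((pow_dvd_pow 2 (show 3 ≤ k by omega)).trans hd)
  have hPV : (P : Subgroup ↥F.W) = F.V.subgroupOf F.W := by
    refine (Subgroup.eq_of_le_of_card_ge hP ?_).symm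
    rw [Nat.card_congr (Subgroup.subgroupOfEquivOfLe F.V_W).toEquiv, F.card_V]
    -- a central involution of a larger 2-group
    haveI : Nontrivial ↥(P : Subgroup ↥F.W) :=
      ⟨⟨⟨⟨K.z, F.z_mem.1⟩, hP (Or.inr (Or.inl rfl))⟩, 1, fun h =>
        z_ne_one (congrArg (fun y : ↥(P : Subgroup ↥F.W) => ((y : ↥F.W) : G)) h)⟩⟩
    haveI := P.isPGroup'.center_nontrivial
    obtain ⟨⟨v, hvc⟩, hv⟩ := exists_prime_orderOf_dvd_card' (G := Subgroup.center ↥(P : Subgroup ↥F.W)) 2 (by
      obtain ⟨k, hk⟩ := IsPGroup.iff_card.1 (P.isPGroup'.to_subgroup (Subgroup.center ↥(P : Subgroup ↥F.W)))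
      have := Finite.one_lt_card (α := Subgroup.center ↥(P : Subgroup ↥F.W))
      rcases Nat.eq_zero_or_pos k with rfl | h0
      · omega
      · exact hk ▸ dvd_pow_self 2 h0.ne')
    rw [Subgroup.orderOf_mk] at hv
    have hvz : Commute ((v : ↥F.W) : G) K.z :=
      congrArg (fun y : ↥(P : Subgroup ↥F.W) => ((y : ↥F.W) : G))
        (Subgroup.mem_center_iff.1 hvc ⟨⟨K.z, F.z_mem.1⟩, hP (Or.inr (Or.inl rfl))⟩).symm
    have hvV : ((v : ↥F.W) : G) ∈ F.V := by
      have hvW : ((v : ↥F.W) : G) ∈ F.Wz := F.mem_Wz.2 ⟨F.mem_W.1 (v : ↥F.W).2, hvz⟩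
      have hv2 : ((v : ↥F.W) : G) * ((v : ↥F.W) : G) = 1 := by
        have := pow_orderOf_eq_one v
        rw [hv, pow_two] at this
        exact congrArg (fun y : ↥(P : Subgroup ↥F.W) => ((y : ↥F.W) : G)) this
      obtain ⟨u, hu, e⟩ := F.Wz_cases hvW
      have fixT : Commute ((v : ↥F.W) : G) F.T :=
        congrArg (fun y : ↥(P : Subgroup ↥F.W) => ((y : ↥F.W) : G))
          (Subgroup.mem_center_iff.1 hvc ⟨⟨F.T, F.T_mem.1⟩, hP (Or.inr (Or.inr (Or.inl rfl)))⟩).symm
      have uz : Commute u K.z := (F.mem_Wz.1 (F.A_le_Wz hu)).2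
      have hu1 : u = 1 := by
        have uT : Commute u F.T := by
          rcases e with e | e | e | e <;> rw [e] at fixT
          · exact fixT
          · have := fixT.mul_left F.Tz.symm
            rwa [mul_assoc, z_mul_z, mul_one] at this
          · have := fixT.mul_left (Commute.refl F.T)
            rwa [mul_assoc, F.sq, mul_one] at this
          · have := fixT.mul_left ((F.Tz.symm).mul_left (Commute.refl F.T))
            rwa [mul_assoc, mul_assoc F.T, ← mul_assoc K.z, z_mul_z, one_mul, F.sq, mul_one] at this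
        apply F.invol_mem_A hu
        rcases e with e | e | e | e <;> rw [e] at hv2
        · exact hv2
        · rw [mul_assoc, ← mul_assoc K.z, ← uz.eq, ← mul_assoc, ← mul_assoc, mul_assoc (u * u), z_mul_z,
            mul_one] at hv2
          exact hv2
        · rw [mul_assoc, ← mul_assoc F.T, ← uT.eq, ← mul_assoc, ← mul_assoc, mul_assoc (u * u), F.sq,
            mul_one] at hv2
          exact hv2
        · have h5 : F.T * K.z * (F.T * K.z) = 1 := by
            rw [← mul_assoc, mul_assoc F.T, ← F.Tz.eq, ← mul_assoc, F.sq, one_mul, z_mul_z]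
          rw [mul_assoc u (F.T * K.z), ← mul_assoc (F.T * K.z) u, ← (uT.mul_right uz).eq,
            mul_assoc u (F.T * K.z) (F.T * K.z), h5, mul_one] at hv2
          exact hv2
      rw [hu1, one_mul, one_mul, one_mul] at e
      exact e
    have hv1 : ((v : ↥F.W) : G) ≠ 1 := fun h => by
      rw [show v = 1 from Subtype.ext (Subtype.ext h), orderOf_one] at hv; omega
    obtain ⟨w, hw, hwz⟩ := toz _ hvV hv1
    let wW : ↥F.W := ⟨w, hw⟩
    have hcf : ∀ x ∈ ((P : Subgroup ↥F.W).map (MulAut.conj wW).toMonoidHom), Commute (x : G) K.z := by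
      rintro _ ⟨x, hx, rfl⟩
      rw [← hwz]
      exact (Commute.conj_iff w).2 (congrArg (fun y : ↥(P : Subgroup ↥F.W) => ((y : ↥F.W) : G))
        (Subgroup.mem_center_iff.1 hvc ⟨x, hx⟩))
    have := hcard _ (P.isPGroup'.map _) hcf
    rwa [Subgroup.card_map_of_injective (MulEquiv.injective _)] at this
  refine ⟨⟨P, hPV⟩, fun v hvW hv2 hv1 => ?_⟩
  obtain ⟨Q, hQ⟩ := (IsPGroup.of_card (p := 2) (n := 1) (G := Subgroup.zpowers (⟨v, hvW⟩ : ↥F.W)) (by
    rw [Nat.card_zpowers, ← Subgroup.orderOf_coe, pow_one]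
    exact orderOf_eq_prime (by rw [pow_two]; exact hv2) hv1)).exists_le_sylow
  obtain ⟨d, hd⟩ := MulAction.exists_smul_eq (↥F.W) Q P
  have h1 : d * ⟨v, hvW⟩ * d⁻¹ ∈ (P : Subgroup ↥F.W) := by
    rw [← hd, Sylow.coe_subgroup_smul, Subgroup.mem_pointwise_smul_iff_inv_smul_mem]
    have e : (MulAut.conj d)⁻¹ • (d * (⟨v, hvW⟩ : ↥F.W) * d⁻¹) = ⟨v, hvW⟩ := by
      show (MulAut.conj d)⁻¹ (d * _ * d⁻¹) = _
      rw [MulAut.conj_inv_apply]; group
    rw [e]
    exact hQ (Subgroup.mem_zpowers _)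
  rw [hPV] at h1
  obtain ⟨w, hw, hwz⟩ := toz _ h1 (fun h => hv1 (by
    have h' : (d : G) * v * (d : G)⁻¹ = 1 := h
    rwa [conj_eq_one_iff] at h'))
  refine ⟨w * d, mul_mem hw d.2, ?_⟩
  rw [← hwz]
  show w * (d : G) * v * (w * (d : G))⁻¹ = w * ((d : G) * v * (d : G)⁻¹) * w⁻¹
  group

/-- One of the generators lies in the core. -/
theorem one_mem_O : F.a ∈ F.O ∨ F.c ∈ F.O := by
  classical
  haveI := Fact.mk Nat.prime_two
  obtain ⟨⟨P, hP⟩, -⟩ := F.sylow_data
  haveI := F.V_klein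
  obtain ⟨eV⟩ := GW.HallNumbers.dihedral_of_klein (T := ↥F.V)
  have eP : ↥(P : Subgroup ↥F.W) ≃* DihedralGroup (2 ^ 1) :=
    ((MulEquiv.subgroupCongr hP).trans (Subgroup.subgroupOfEquivOfLe F.V_W)).trans
      (by rw [pow_one]; exact eV)
  haveI : (Cfsg.oddCore ↥F.W).Normal := Grp.pPrimeCore_isNormal
  obtain ⟨hO, T₀, hT₀, ⟨eT⟩⟩ := GW.Induction.quotient_data F.W P eP
  set q := QuotientGroup.mk' (Cfsg.oddCore ↥F.W) with hq
  let mk : ∀ x : G, x ∈ F.A → ↥F.W := fun x hx => ⟨x, (F.A_le_Wz hx).1⟩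
  set zW : ↥F.W := ⟨K.z, F.z_mem.1⟩
  set TW : ↥F.W := ⟨F.T, F.T_mem.1⟩
  set aW := mk F.a F.a_A
  set cW := mk F.c F.c_A
  have inO : ∀ x (hx : x ∈ F.A), q (mk x hx) = 1 → x ∈ F.O := fun x hx h =>
    ⟨mk x hx, (QuotientGroup.eq_one_iff _).1 h, rfl⟩
  have hTc : q TW * q cW * (q TW)⁻¹ = (q cW)⁻¹ := by
    rw [← map_inv, ← map_inv, ← map_mul, ← map_mul]
    exact congrArg q (Subtype.ext F.T_c)
  have hTa : q TW * q aW * (q TW)⁻¹ = (q aW)⁻¹ := by
    have hab : q (⟨F.a * F.b, F.mem_W.2 (Commute.refl _)⟩ : ↥F.W) = 1 := by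
      refine (QuotientGroup.eq_one_iff _).2 ?_
      obtain ⟨y, hy, hy'⟩ := F.ab_mem_O
      rwa [show (⟨F.a * F.b, F.mem_W.2 (Commute.refl _)⟩ : ↥F.W) = y from Subtype.ext hy'.symm]
    rw [← map_inv, ← map_mul, ← map_mul, eq_inv_iff_mul_eq_one, ← map_mul, ← hab]
    refine congrArg q (Subtype.ext ?_)
    show F.T * F.a * F.T⁻¹ * F.a = F.a * F.b
    rw [F.T_a, F.ab.eq]
  have hcz : Commute (q cW) (q zW) := (show Commute cW zW from Subtype.ext F.cz.eq).map q
  have haz : Commute (q aW) (q zW) := (show Commute aW zW from Subtype.ext F.az.eq).map q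
  have hodd : ∀ x (hx : x ∈ F.A), orderOf (q (mk x hx)) ∣ 3 := fun x hx =>
    orderOf_dvd_of_pow_eq_one (by rw [← map_pow, show mk x hx ^ 3 = 1 from Subtype.ext (F.A_cube hx), map_one])
  have trivial_of : ∀ x (hx : x ∈ F.A), q TW * q (mk x hx) * (q TW)⁻¹ = (q (mk x hx))⁻¹ →
      Commute (q (mk x hx)) (q TW) → x ∈ F.O := by
    intro x hx h1 h2
    rw [← h2.eq, mul_inv_cancel_right] at h1
    refine inO x hx ?_
    have h3 : q (mk x hx) ^ 2 = 1 := by rw [pow_two]; nth_rw 1 [h1]; exact inv_mul_cancel _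
    exact orderOf_eq_one_iff.1 (Nat.eq_one_of_dvd_coprimes (by norm_num : Nat.Coprime 3 2) (hodd x hx)
      (orderOf_dvd_of_pow_eq_one h3))
  have hzT₀ : q zW ∈ (T₀ : Subgroup _) := by
    rw [hT₀]; exact Subgroup.mem_map_of_mem _ (hP ▸ (Or.inr (Or.inl rfl) : zW ∈ F.V.subgroupOf F.W))
  have hTT₀ : q TW ∈ (T₀ : Subgroup _) := by
    rw [hT₀]; exact Subgroup.mem_map_of_mem _ (hP ▸ (Or.inr (Or.inr (Or.inl rfl)) : TW ∈ F.V.subgroupOf F.W))
  have IH : GW.Induction.KnownBelow.{u} (Nat.card (↥F.W ⧸ Cfsg.oddCore ↥F.W) + 1) :=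
    GW.Induction.knownBelow GW.Klein.kleinDone (GW.Dihedral.dihedralDone_of GW.Dihedral.factsDone
      GW.Dihedral.threeDone GW.Dihedral.goodDone_holds GW.Dihedral.caseDone) _
  rcases GW.Induction.core_cases hO T₀ le_rfl eT (Nat.lt_succ_self _) IH with
    h2 | ⟨T, N, hTn, hT, -, -, -, -, -, -⟩ | ⟨N, hNn, hNs, hNa, -, hPSL⟩
  · -- a 2-group
    left
    refine inO F.a F.a_A ?_
    obtain ⟨k, hk⟩ := IsPGroup.iff_orderOf.1 h2 (q aW)
    have := hodd F.a F.a_A
    rw [show mk F.a F.a_A = aW from rfl, hk] at this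
    have hk0 := Nat.eq_one_of_dvd_coprimes ((by norm_num : Nat.Coprime 2 3).pow_left k) dvd_rfl this
    exact orderOf_eq_one_iff.1 (hk.trans hk0)
  · -- a normal four group
    left
    haveI := hTn
    haveI := hT
    have hTeq : T = (T₀ : Subgroup (↥F.W ⧸ Cfsg.oddCore ↥F.W)) :=
      Subgroup.eq_of_le_of_card_ge
        ((IsPGroup.of_card (n := 2) (G := T) IsKleinFour.card_four).le_sylow_of_normal T₀)
        (by rw [Nat.card_congr eT.toEquiv, DihedralGroup.nat_card, IsKleinFour.card_four]; norm_num)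
    refine trivial_of F.a F.a_A hTa ?_
    -- conjugation by an element of order three fixing `z` fixes the four group
    set α := q aW
    set y := α * q TW * α⁻¹
    have hy : y ∈ (T₀ : Subgroup _) := by rw [← hTeq] at hTT₀ ⊢; exact hTn.conj_mem _ hTT₀ α
    have four : ∀ x ∈ (T₀ : Subgroup _), x = 1 ∨ x = q zW ∨ x = q TW ∨ x = q TW * q zW := by
      intro x hx
      rw [hT₀] at hx
      obtain ⟨v, hv, rfl⟩ := hx
      rw [hP] at hv
      rcases (show (v : G) ∈ F.V from hv) with e | e | e | e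
      · left; rw [show v = 1 from Subtype.ext e, map_one]
      · right; left; rw [show v = zW from Subtype.ext e]
      · right; right; left; rw [show v = TW from Subtype.ext e]
      · right; right; right; rw [show v = TW * zW from Subtype.ext e, map_mul]
    rcases four y hy with e | e | e | e
    · rw [conj_eq_one_iff] at e
      rw [e]; exact Commute.one_right _
    · have : q TW = q zW := by
        have e2 : q TW = α⁻¹ * q zW * α := by rw [← e]; simp only [y]; group
        rw [e2, mul_assoc, ← haz.eq, inv_mul_cancel_left]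
      rw [this]; exact haz
    · exact mul_inv_eq_iff_eq_mul.1 e
    · -- the square fixes `T`, hence so does the element
      have hz2 : q zW * q zW = 1 := by
        rw [← map_mul, show zW * zW = 1 from Subtype.ext z_mul_z, map_one]
      have e2 : α * α * q TW * (α * α)⁻¹ = q TW := by
        rw [show α * α * q TW * (α * α)⁻¹ = α * y * α⁻¹ by simp only [y]; group, e,
          show α * (q TW * q zW) * α⁻¹ = α * q TW * α⁻¹ * (α * q zW * α⁻¹) by group, haz.eq,
          mul_inv_cancel_right]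
        show y * q zW = _
        rw [e, mul_assoc, hz2, mul_one]
      have hc : Commute (α * α) (q TW) := mul_inv_eq_iff_eq_mul.1 e2
      have h3 : α ^ 3 = 1 := orderOf_dvd_iff_pow_eq_one.1 (hodd F.a F.a_A)
      have hc2 := hc.pow_left 2
      rwa [← pow_two, ← pow_mul, show 2 * 2 = 3 + 1 from rfl, pow_succ, h3, one_mul] at hc2
  · -- a linear group
    haveI := hNn
    haveI := hNs
    have hidx : Odd N.index := GW.Induction.index_odd_of_simple T₀
      (by rw [Nat.card_congr eT.toEquiv, DihedralGroup.nat_card]; norm_num) N hNa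
    have sq_mem : ∀ x : ↥F.W ⧸ Cfsg.oddCore ↥F.W, x * x = 1 → x ∈ N := by
      intro x hx
      have h1 : orderOf (QuotientGroup.mk' N x) ∣ N.index := by
        rw [Subgroup.index]; exact orderOf_dvd_natCard _
      have h2 : orderOf (QuotientGroup.mk' N x) ∣ 2 :=
        orderOf_dvd_of_pow_eq_one (by rw [← map_pow, pow_two, hx, map_one])
      have h3 := Nat.eq_one_of_dvd_coprimes (Nat.coprime_two_right.2 hidx) h1 h2
      exact (QuotientGroup.eq_one_iff x).1 (orderOf_eq_one_iff.1 h3)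
    have zN : q zW ∈ N := sq_mem _ (by rw [← map_mul, show zW * zW = 1 from Subtype.ext z_mul_z, map_one])
    have TN : q TW ∈ N := sq_mem _ (by rw [← map_mul, show TW * TW = 1 from Subtype.ext F.sq, map_one])
    have inN : ∀ x (hx : x ∈ F.A), q TW * q (mk x hx) * (q TW)⁻¹ = (q (mk x hx))⁻¹ → q (mk x hx) ∈ N := by
      intro x hx h
      set β := q (mk x hx)
      have h3 : β ^ 3 = 1 := orderOf_dvd_iff_pow_eq_one.1 (hodd x hx)
      have : β * (q TW * β⁻¹ * (q TW)⁻¹) ∈ N := by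
        have := mul_mem (hNn.conj_mem _ TN β) (inv_mem TN)
        rwa [show β * q TW * β⁻¹ * (q TW)⁻¹ = β * (q TW * β⁻¹ * (q TW)⁻¹) by group] at this
      rw [show q TW * β⁻¹ * (q TW)⁻¹ = (q TW * β * (q TW)⁻¹)⁻¹ by group, h, inv_inv] at this
      have h4 := pow_mem this 2
      rwa [← pow_two, ← pow_mul, show 2 * 2 = 3 + 1 from rfl, pow_succ, h3, one_mul] at h4
    have hcN := inN F.c F.c_A hTc
    have haN := inN F.a F.a_A hTa
    rcases hPSL with ⟨Fd, hF, hFf, hFo, -, ⟨f⟩⟩ | hf7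
    · set zN' : ↥N := ⟨q zW, zN⟩
      have hzo : orderOf (f zN') = 2 := by
        rw [MulEquiv.orderOf_eq, ← Subgroup.orderOf_coe]
        refine orderOf_eq_prime (by rw [← map_pow, show zW ^ 2 = 1 from Subtype.ext (by
          show K.z ^ 2 = 1; rw [pow_two, z_mul_z]), map_one]) fun h => ?_
        have h1 : zW ∈ Cfsg.oddCore ↥F.W := (QuotientGroup.eq_one_iff _).1 h
        exact z_ne_one (eq_one_of_odd_sq F.O_odd ⟨zW, h1, rfl⟩ z_mul_z)
      obtain ⟨Tor, hcyc, -, hmem, -, -, -⟩ := GW.Klein.PSL.exists_torus hFo hzo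
      have key : ∀ x (hx : x ∈ F.A) (hN : q (mk x hx) ∈ N), Commute (q (mk x hx)) (q zW) →
          f ⟨q (mk x hx), hN⟩ ∈ Tor := fun x hx hN hc => hmem _
        (by rw [MulEquiv.orderOf_eq, ← Subgroup.orderOf_coe]; exact Odd.of_dvd_nat (by decide : Odd 3) (hodd x hx))
        ((show Commute (⟨q (mk x hx), hN⟩ : ↥N) zN' from Subtype.ext hc.eq).map f.toMonoidHom)
      by_cases hc1 : q cW = 1
      · exact Or.inr (inO F.c F.c_A hc1)
      left
      have ha := key F.a F.a_A haN haz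
      have hc := key F.c F.c_A hcN hcz
      obtain ⟨i, hi⟩ : ∃ i : ℤ, q aW = q cW ^ i := by
        by_cases ha1 : q aW = 1
        · exact ⟨0, by rw [ha1, zpow_zero]⟩
        haveI := hcyc
        haveI := Fact.mk Nat.prime_three
        let cT : ↥Tor := ⟨_, hc⟩
        let aT : ↥Tor := ⟨_, ha⟩
        have oc : orderOf cT = 3 := by
          rw [← Subgroup.orderOf_coe]
          show orderOf (f _) = 3
          rw [MulEquiv.orderOf_eq, ← Subgroup.orderOf_coe]
          exact ((Nat.dvd_prime Nat.prime_three).1 (hodd F.c F.c_A)).resolve_left fun h =>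
            hc1 (orderOf_eq_one_iff.1 h)
        have oa : orderOf aT = 3 := by
          rw [← Subgroup.orderOf_coe]
          show orderOf (f _) = 3
          rw [MulEquiv.orderOf_eq, ← Subgroup.orderOf_coe]
          exact ((Nat.dvd_prime Nat.prime_three).1 (hodd F.a F.a_A)).resolve_left fun h =>
            ha1 (orderOf_eq_one_iff.1 h)
        letI : Fintype ↥Tor := Fintype.ofFinite _
        have hmem' : aT ∈ Subgroup.zpowers cT := by
          by_contra hni
          have hle := IsCyclic.card_pow_eq_one_le (α := ↥Tor) (n := 3) (by norm_num)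
          have h4 : ({1, cT, cT ^ 2, aT} : Finset ↥Tor) ⊆ Finset.univ.filter (fun x : ↥Tor => x ^ 3 = 1) := by
            intro x hx
            simp only [Finset.mem_insert, Finset.mem_singleton] at hx
            refine Finset.mem_filter.2 ⟨Finset.mem_univ _, ?_⟩
            rcases hx with rfl | rfl | rfl | rfl
            · exact one_pow 3
            · rw [← oc]; exact pow_orderOf_eq_one _
            · rw [← pow_mul, mul_comm, pow_mul, show cT ^ 3 = 1 by rw [← oc]; exact pow_orderOf_eq_one _, one_pow]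
            · rw [← oa]; exact pow_orderOf_eq_one _
          have h5 : ({1, cT, cT ^ 2, aT} : Finset ↥Tor).card = 4 := by
            have n1 : cT ≠ 1 := fun h => by rw [h, orderOf_one] at oc; omega
            have n2 : cT ^ 2 ≠ 1 := fun h => by
              have := orderOf_dvd_of_pow_eq_one h; rw [oc] at this; omega
            have n3 : cT ≠ cT ^ 2 := fun h => n1 (by rw [pow_two] at h; exact left_eq_mul.1 h)
            have m1 : aT ≠ 1 := fun h => by rw [h, orderOf_one] at oa; omega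
            have m2 : aT ≠ cT := fun h => hni (h ▸ Subgroup.mem_zpowers _)
            have m3 : aT ≠ cT ^ 2 := fun h => hni (h ▸ Subgroup.pow_mem _ (Subgroup.mem_zpowers _) 2)
            simp [n1.symm, n2.symm, n3, m1.symm, m2.symm, m3.symm]
          have := (Finset.card_le_card h4).trans hle
          omega
        obtain ⟨i, hi⟩ := hmem'
        refine ⟨i, ?_⟩
        have h' : f ⟨q cW, hcN⟩ ^ i = f ⟨q aW, haN⟩ := congrArg Subtype.val hi
        rw [← map_zpow] at h'
        exact (congrArg Subtype.val (f.injective h')).symm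
      -- `g` fixes `c` and inverts `a`
      let α : ↥F.W →* ↥F.W :=
        MonoidHom.mk' (fun w => ⟨F.g * w * F.g⁻¹, (F.W_iff (Or.inr F.g_ab) w).1 w.2⟩) fun x y => Subtype.ext (by
          show F.g * (x * y : G) * F.g⁻¹ = F.g * x * F.g⁻¹ * (F.g * y * F.g⁻¹)
          group)
      have hαO : ∀ w, q w = 1 → q (α w) = 1 := fun w hw => by
        obtain ⟨w', hw', e⟩ := F.O_conj (Or.inr F.g_ab) ⟨w, (QuotientGroup.eq_one_iff _).1 hw, rfl⟩
        refine (QuotientGroup.eq_one_iff _).2 ?_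
        rwa [show α w = w' from Subtype.ext e.symm]
      have h0 : q (aW * (cW ^ i)⁻¹) = 1 := by rw [map_mul, map_inv, map_zpow, hi, mul_inv_cancel]
      have h1 := hαO _ h0
      rw [map_mul, map_inv, map_zpow, show α aW = aW⁻¹ from Subtype.ext F.g_a,
        show α cW = cW from Subtype.ext F.g_c, map_mul, map_inv, map_inv, map_zpow, ← hi] at h1
      refine inO F.a F.a_A ?_
      have h2 : q aW ^ 2 = 1 := by
        rw [pow_two]
        calc q aW * q aW = ((q aW)⁻¹ * (q aW)⁻¹)⁻¹ := by rw [mul_inv_rev, inv_inv]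
          _ = 1 := by rw [h1, inv_one]
      exact orderOf_eq_one_iff.1 (Nat.eq_one_of_dvd_coprimes (by norm_num : Nat.Coprime 3 2) (hodd F.a F.a_A)
        (orderOf_dvd_of_pow_eq_one h2))
    · exfalso
      obtain ⟨f⟩ := hf7
      have h8 : 8 ∣ Nat.card (↥F.W ⧸ Cfsg.oddCore ↥F.W) := by
        refine dvd_trans ?_ (Subgroup.card_subgroup_dvd_card N)
        rw [Nat.card_congr f.toEquiv, nat_card_alternatingGroup]
        simp only [Nat.card_eq_fintype_card, Fintype.card_fin]
        decide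
      rw [← (T₀ : Subgroup (↥F.W ⧸ Cfsg.oddCore ↥F.W)).card_mul_index, Nat.card_congr eT.toEquiv,
        DihedralGroup.nat_card] at h8
      exact T₀.not_dvd_index (Nat.dvd_of_mul_dvd_mul_left (show 0 < 4 by norm_num) (by simpa using h8))

theorem inter_z_le : F.O ⊓ Subgroup.centralizer ({K.z} : Set G) ≤ F.A := fun _ hx =>
  F.odd_mem_A ⟨F.O_le hx.1, hx.2⟩ (F.O_odd.of_dvd_nat (Subgroup.orderOf_dvd_natCard _ hx.1))

/-- All three generators lie in the core. -/
theorem A_le_O : F.A ≤ F.O := by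
  obtain ⟨-, hconj⟩ := F.sylow_data
  obtain ⟨ρ, hρ, r1, -, -⟩ := F.exists_rot (by norm_num)
  have h : F.a ∈ F.O ∧ F.c ∈ F.O := by
    rcases F.one_mem_O with ha | hc
    · exact ⟨ha, F.mem_O_of (Or.inl ⟨rfl, rfl⟩) ha F.inter_z_le hρ r1 hconj⟩
    · exact ⟨F.mem_O_of (Or.inr ⟨rfl, rfl⟩) hc F.inter_z_le hρ r1 hconj, hc⟩
  have hb : F.b ∈ F.O := by
    have := mul_mem (inv_mem h.1) F.ab_mem_O
    rwa [inv_mul_cancel_left] at this
  rintro _ ⟨i, j, k, rfl⟩
  exact mul_mem (mul_mem (pow_mem h.1 i) (pow_mem hb j)) (pow_mem h.2 k)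

end Cfg.Triple

end Cfsg.Agent.Invol.TwoAn
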