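import Mathlib
import Cfsg.Agent.Lib.Invol.TwoAn.NineW

/-!
# Degree nine: the structure of the core of the centralizer of `a b`
-/

set_option autoImplicit false
set_option linter.unusedSectionVars false
set_option maxRecDepth 100000

namespace Cfsg.Agent.Invol.TwoAn

open scoped commutatorElement

universe u

variable {G : Type u} [Group G] [Finite G]

/-- Generated by the fixed subgroups: a coprime four-group action. -/
theorem eq_sup_fixed (R : Subgroup G) (hR : Odd (Nat.card R)) {t u : G} (ht : t * t = 1) (hu : u * u = 1)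
    (htu : t * u = u * t) (hnt : ∀ x ∈ R, t * x * t⁻¹ ∈ R) (hnu : ∀ x ∈ R, u * x * u⁻¹ ∈ R) :
    R = (R ⊓ Subgroup.centralizer ({t} : Set G)) ⊔ (R ⊓ Subgroup.centralizer ({u} : Set G)) ⊔
      (R ⊓ Subgroup.centralizer ({t * u} : Set G)) := by
  set L := (R ⊓ Subgroup.centralizer ({t} : Set G)) ⊔ (R ⊓ Subgroup.centralizer ({u} : Set G)) ⊔
    (R ⊓ Subgroup.centralizer ({t * u} : Set G)) with hL
  have hle : L ≤ R := sup_le (sup_le inf_le_left inf_le_left) inf_le_left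
  have norm : ∀ w : G, Commute w t → Commute w u → (∀ x ∈ R, w * x * w⁻¹ ∈ R) → ∀ x ∈ L, w * x * w⁻¹ ∈ L := by
    intro w hwt hwu hw
    have step : ∀ v, Commute w v → (R ⊓ Subgroup.centralizer ({v} : Set G)).map (MulAut.conj w).toMonoidHom ≤
        R ⊓ Subgroup.centralizer ({v} : Set G) := by
      rintro v hv _ ⟨x, hx, rfl⟩
      refine ⟨hw x hx.1, Subgroup.mem_centralizer_singleton_iff.2 ?_⟩
      have h := (show Commute x v from Subgroup.mem_centralizer_singleton_iff.1 hx.2).map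
        (MulAut.conj w).toMonoidHom
      simp only [MulEquiv.coe_toMonoidHom, MulAut.conj_apply] at h ⊢
      rwa [hv.eq, mul_inv_cancel_right] at h
    have hmap : L.map (MulAut.conj w).toMonoidHom ≤ L := by
      rw [hL, Subgroup.map_sup, Subgroup.map_sup]
      exact sup_le_sup (sup_le_sup (step t hwt) (step u hwu)) (step (t * u) (hwt.mul_right hwu))
    exact fun x hx => hmap (Subgroup.mem_map_of_mem (MulAut.conj w).toMonoidHom hx)
  have f1 := SmallCent.card_four_fixed R hR ht hu htu hnt hnu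
  have f2 := SmallCent.card_four_fixed L (hR.of_dvd_nat (Subgroup.card_dvd_of_le hle)) ht hu htu
    (norm t (Commute.refl _) htu hnt) (norm u htu.symm (Commute.refl _) hnu)
  have e : ∀ v : G, R ⊓ Subgroup.centralizer ({v} : Set G) ≤ L →
      L ⊓ Subgroup.centralizer ({v} : Set G) = R ⊓ Subgroup.centralizer ({v} : Set G) := fun v h =>
    le_antisymm (inf_le_inf_right _ hle) fun x hx => ⟨h hx, hx.2⟩
  rw [e t (le_sup_left.trans le_sup_left), e u (le_sup_right.trans le_sup_left), e (t * u) le_sup_right] at f2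
  refine (Subgroup.eq_of_le_of_card_ge hle (le_of_eq ?_)).symm
  exact Nat.eq_of_mul_eq_mul_right (pow_pos Nat.card_pos 2) (f1.trans f2.symm)

theorem pow_one_of {x : G} (hx : x ^ 3 = 1) {m : ℕ} (h : m % 3 = 1) : x ^ m = x := by
  rw [← Nat.mod_add_div m 3, h, pow_add, pow_mul, hx, one_pow, mul_one, pow_one]

namespace Cfg.Triple

variable {K : Cfg G 9} {h9 : 9 ≤ 9} (F : Triple K h9)

theorem conjO {u : G} (hu : u ∈ F.W) {x : G} (hx : x ∈ F.O) : u * x * u⁻¹ ∈ F.O :=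
  F.O_conj (Or.inl (F.W_conj hu)) hx

theorem O_z : F.O ⊓ Subgroup.centralizer ({K.z} : Set G) = F.A :=
  le_antisymm F.inter_z_le fun _ hx => ⟨F.A_le_O hx, (F.A_le_Wz hx).2⟩

/-- `ρ` carries the fixed points of `z` to those of `T`, and those of `T z` to those of `z`. -/
theorem rot_maps {ρ : G} (hρ : Commute ρ (F.a * F.b)) {v w : G} (hv : ρ * v * ρ⁻¹ = w) :
    (F.O ⊓ Subgroup.centralizer ({v} : Set G)).map (MulAut.conj ρ).toMonoidHom =
      F.O ⊓ Subgroup.centralizer ({w} : Set G) := by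
  have hc : ρ * (F.a * F.b) * ρ⁻¹ = F.a * F.b ∨ ρ * (F.a * F.b) * ρ⁻¹ = (F.a * F.b)⁻¹ :=
    Or.inl (by rw [hρ.eq, mul_inv_cancel_right])
  refine Subgroup.eq_of_le_of_card_ge ?_ ?_
  · rintro _ ⟨x, hx, rfl⟩
    refine ⟨F.O_conj hc hx.1, Subgroup.mem_centralizer_singleton_iff.2 ?_⟩
    rw [← hv]
    exact (Commute.conj_iff ρ).2 (Subgroup.mem_centralizer_singleton_iff.1 hx.2)
  · rw [Subgroup.card_map_of_injective (MulEquiv.injective _), ← hv, F.card_inter_conj hc]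

/-- The fixed subgroups of the three involutions are elementary abelian of order 27. -/
theorem fixed_data {v : G} (hv : v = K.z ∨ v = F.T ∨ v = F.T * K.z) :
    Nat.card ↥(F.O ⊓ Subgroup.centralizer ({v} : Set G)) = 27 ∧
      (∀ x ∈ F.O ⊓ Subgroup.centralizer ({v} : Set G), x ^ 3 = 1 ∧
        ∀ y ∈ F.O ⊓ Subgroup.centralizer ({v} : Set G), Commute x y) := by
  obtain ⟨ρ, hρ, r1, r2, r3⟩ := F.exists_rot (by norm_num)
  have base : Nat.card ↥(F.O ⊓ Subgroup.centralizer ({K.z} : Set G)) = 27 ∧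
      (∀ x ∈ F.O ⊓ Subgroup.centralizer ({K.z} : Set G), x ^ 3 = 1 ∧
        ∀ y ∈ F.O ⊓ Subgroup.centralizer ({K.z} : Set G), Commute x y) := by
    rw [F.O_z]; exact ⟨F.card_A, fun x hx => ⟨F.A_cube hx, fun y hy => F.A_comm hx hy⟩⟩
  have step : ∀ {v w}, ρ * v * ρ⁻¹ = w →
      (Nat.card ↥(F.O ⊓ Subgroup.centralizer ({v} : Set G)) = 27 ∧
        (∀ x ∈ F.O ⊓ Subgroup.centralizer ({v} : Set G), x ^ 3 = 1 ∧
          ∀ y ∈ F.O ⊓ Subgroup.centralizer ({v} : Set G), Commute x y)) →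
      (Nat.card ↥(F.O ⊓ Subgroup.centralizer ({w} : Set G)) = 27 ∧
        (∀ x ∈ F.O ⊓ Subgroup.centralizer ({w} : Set G), x ^ 3 = 1 ∧
          ∀ y ∈ F.O ⊓ Subgroup.centralizer ({w} : Set G), Commute x y)) := by
    rintro v w h ⟨h1, h2⟩
    rw [← F.rot_maps hρ h]
    refine ⟨by rw [Subgroup.card_map_of_injective (MulEquiv.injective _), h1], ?_⟩
    rintro _ ⟨x, hx, rfl⟩
    refine ⟨by rw [← map_pow, (h2 x hx).1, map_one], ?_⟩
    rintro _ ⟨y, hy, rfl⟩
    exact ((h2 x hx).2 y hy).map _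
  rcases hv with rfl | rfl | rfl
  · exact base
  · exact step r1 base
  · exact step r2 (step r1 base)

theorem O_z_T : F.O ⊓ Subgroup.centralizer ({K.z} : Set G) ⊓ Subgroup.centralizer ({F.T} : Set G) =
    Subgroup.zpowers (F.a * F.b) := by
  refine (Subgroup.eq_of_le_of_card_ge (Subgroup.zpowers_le.2 (Subgroup.mem_inf.2 ⟨Subgroup.mem_inf.2 ⟨F.ab_mem_O,
    Subgroup.mem_centralizer_singleton_iff.2 (F.az.mul_left F.bz)⟩,
    Subgroup.mem_centralizer_singleton_iff.2 F.T_ab.symm⟩)) ?_).symm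
  rw [F.inter_T F.inter_z_le, Nat.card_zpowers, F.ab_ord]

theorem card_O : Nat.card F.O = 2187 := by
  have hzT : K.z * F.T = F.T * K.z := F.Tz.eq.symm
  have h := SmallCent.card_four_fixed F.O F.O_odd z_mul_z F.sq hzT (fun _ => F.conjO F.z_mem.1)
    (fun _ => F.conjO F.T_mem.1)
  rw [(F.fixed_data (Or.inl rfl)).1, (F.fixed_data (Or.inr (Or.inl rfl))).1, hzT,
    (F.fixed_data (Or.inr (Or.inr rfl))).1, F.inter_T F.inter_z_le] at h
  omega

theorem O_pGroup : IsPGroup 3 F.O := IsPGroup.of_card (n := 7) (F.card_O.trans (by norm_num))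

theorem O_closure : F.O = (F.O ⊓ Subgroup.centralizer ({K.z} : Set G)) ⊔
    (F.O ⊓ Subgroup.centralizer ({F.T} : Set G)) ⊔ (F.O ⊓ Subgroup.centralizer ({F.T * K.z} : Set G)) := by
  have hzT : K.z * F.T = F.T * K.z := F.Tz.eq.symm
  conv_lhs => rw [eq_sup_fixed F.O F.O_odd z_mul_z F.sq hzT (fun _ => F.conjO F.z_mem.1)
    (fun _ => F.conjO F.T_mem.1), hzT]

/-- The centre of the core. -/
def Zc : Subgroup G := F.O ⊓ Subgroup.centralizer (F.O : Set G)

theorem mem_Zc {x : G} : x ∈ F.Zc ↔ x ∈ F.O ∧ ∀ y ∈ F.O, Commute x y := by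
  rw [Zc, Subgroup.mem_inf, Subgroup.mem_centralizer_iff]
  exact and_congr_right fun _ => ⟨fun h y hy => (h y hy).symm, fun h y hy => (h y hy).eq.symm⟩

/-- The second centre of the core. -/
def Z2 : Subgroup G where
  carrier := {x | x ∈ F.O ∧ ∀ y ∈ F.O, ⁅x, y⁆ ∈ F.Zc}
  one_mem' := ⟨one_mem _, fun y _ => by rw [commutatorElement_one_left]; exact one_mem _⟩
  mul_mem' := by
    rintro x x' ⟨hx, h⟩ ⟨hx', h'⟩
    refine ⟨mul_mem hx hx', fun y hy => ?_⟩
    have hc := (F.mem_Zc.1 (h' y hy)).2 x hx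
    rw [show ⁅x * x', y⁆ = x * ⁅x', y⁆ * x⁻¹ * ⁅x, y⁆ by simp only [commutatorElement_def]; group, ← hc.eq,
      mul_inv_cancel_right]
    exact mul_mem (h' y hy) (h y hy)
  inv_mem' := by
    rintro x ⟨hx, h⟩
    refine ⟨inv_mem hx, fun y hy => ?_⟩
    have hc := (F.mem_Zc.1 (inv_mem (h y hy))).2 x⁻¹ (inv_mem hx)
    rw [show ⁅x⁻¹, y⁆ = x⁻¹ * ⁅x, y⁆⁻¹ * x⁻¹⁻¹ by simp only [commutatorElement_def]; group, ← hc.eq,
      mul_inv_cancel_right]
    exact inv_mem (h y hy)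

theorem Zc_le_Z2 : F.Zc ≤ F.Z2 := fun x hx => ⟨(F.mem_Zc.1 hx).1, fun y hy => by
  rw [commutatorElement_eq_one_iff_mul_comm.2 ((F.mem_Zc.1 hx).2 y hy).eq]; exact one_mem _⟩

theorem Z2_le : F.Z2 ≤ F.O := fun _ hx => hx.1

theorem exists_Z2 (h : F.Zc ≠ F.O) : ∃ y ∈ F.Z2, y ∉ F.Zc := by
  haveI : Fact (Nat.Prime 3) := ⟨Nat.prime_three⟩
  have hne : Subgroup.center ↥F.O ≠ ⊤ := by
    intro ht
    refine h (le_antisymm inf_le_left fun x hx => F.mem_Zc.2 ⟨hx, fun y hy => ?_⟩)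
    have hm : (⟨x, hx⟩ : ↥F.O) ∈ Subgroup.center ↥F.O := by rw [ht]; trivial
    exact (congrArg Subtype.val (Subgroup.mem_center_iff.1 hm ⟨y, hy⟩)).symm
  haveI : Nontrivial (↥F.O ⧸ Subgroup.center ↥F.O) := by
    by_contra hn
    rw [not_nontrivial_iff_subsingleton] at hn
    exact hne (eq_top_iff.2 fun x _ => (QuotientGroup.eq_one_iff x).1 (Subsingleton.elim _ _))
  have hp := F.O_pGroup.to_quotient (Subgroup.center ↥F.O)
  haveI := hp.center_nontrivial
  obtain ⟨⟨q, hq⟩, hq1⟩ := exists_ne (1 : Subgroup.center (↥F.O ⧸ Subgroup.center ↥F.O))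
  obtain ⟨y, rfl⟩ := QuotientGroup.mk_surjective q
  refine ⟨y, ⟨y.2, fun w hw => ?_⟩, fun hz => hq1 (Subtype.ext ((QuotientGroup.eq_one_iff y).2
    (Subgroup.mem_center_iff.2 fun w => Subtype.ext ((F.mem_Zc.1 hz).2 w w.2).symm.eq)))⟩
  have hc := Subgroup.mem_center_iff.1 hq (QuotientGroup.mk (⟨w, hw⟩ : ↥F.O))
  have h1 : ⁅y, (⟨w, hw⟩ : ↥F.O)⁆ ∈ Subgroup.center ↥F.O := by
    refine (QuotientGroup.eq_one_iff _).1 ?_
    show QuotientGroup.mk' (Subgroup.center ↥F.O) ⁅y, ⟨w, hw⟩⁆ = 1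
    rw [map_commutatorElement]
    exact commutatorElement_eq_one_iff_mul_comm.2 hc.symm
  exact F.mem_Zc.2 ⟨(⁅y, (⟨w, hw⟩ : ↥F.O)⁆).2, fun v hv =>
    (congrArg Subtype.val (Subgroup.mem_center_iff.1 h1 ⟨v, hv⟩)).symm⟩

theorem Zc_conj {u : G} (hu : ∀ x, x ∈ F.O ↔ u * x * u⁻¹ ∈ F.O) {x : G} (hx : x ∈ F.Zc) :
    u * x * u⁻¹ ∈ F.Zc := by
  refine F.mem_Zc.2 ⟨(hu x).1 (F.mem_Zc.1 hx).1, fun y hy => ?_⟩
  have hy' : u⁻¹ * y * u ∈ F.O := (hu _).2 (by rw [show u * (u⁻¹ * y * u) * u⁻¹ = y by group]; exact hy)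
  rw [show y = u * (u⁻¹ * y * u) * u⁻¹ by group]
  exact (Commute.conj_iff u).2 ((F.mem_Zc.1 hx).2 _ hy')

theorem Z2_conj {u : G} (hu : ∀ x, x ∈ F.O ↔ u * x * u⁻¹ ∈ F.O) {x : G} (hx : x ∈ F.Z2) :
    u * x * u⁻¹ ∈ F.Z2 := by
  refine ⟨(hu x).1 hx.1, fun y hy => ?_⟩
  have hy' : u⁻¹ * y * u ∈ F.O := (hu _).2 (by rw [show u * (u⁻¹ * y * u) * u⁻¹ = y by group]; exact hy)
  have h := F.Zc_conj hu (hx.2 _ hy')
  rwa [show u * ⁅x, u⁻¹ * y * u⁆ * u⁻¹ = ⁅u * x * u⁻¹, y⁆ by simp only [commutatorElement_def]; group] at h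

/-- An invariant subgroup of the core: its order from its fixed points of `z`. -/
theorem card_inv {Y : Subgroup G} (hY : Y ≤ F.O) (hab : F.a * F.b ∈ Y)
    (hinv : ∀ u, (∀ x, x ∈ F.O ↔ u * x * u⁻¹ ∈ F.O) → ∀ x ∈ Y, u * x * u⁻¹ ∈ Y) :
    9 * Nat.card Y = Nat.card ↥(Y ⊓ Subgroup.centralizer ({K.z} : Set G)) ^ 3 := by
  obtain ⟨ρ, hρ, r1, r2, r3⟩ := F.exists_rot (by norm_num)
  have hc : ρ * (F.a * F.b) * ρ⁻¹ = F.a * F.b := by rw [hρ.eq, mul_inv_cancel_right]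
  have hρO := F.O_conj_iff (Or.inl hc)
  have hρY : ∀ x, x ∈ Y ↔ ρ * x * ρ⁻¹ ∈ Y := by
    refine fun x => ⟨hinv ρ hρO x, fun h => ?_⟩
    have hsurj := hinv ρ⁻¹ (fun y => ?_) _ h
    · rwa [show ρ⁻¹ * (ρ * x * ρ⁻¹) * ρ⁻¹⁻¹ = x by group] at hsurj
    · rw [hρO (ρ⁻¹ * y * ρ⁻¹⁻¹), show ρ * (ρ⁻¹ * y * ρ⁻¹⁻¹) * ρ⁻¹ = y by group]
  have move : ∀ {v w}, ρ * v * ρ⁻¹ = w → Nat.card ↥(Y ⊓ Subgroup.centralizer ({w} : Set G)) =
      Nat.card ↥(Y ⊓ Subgroup.centralizer ({v} : Set G)) := by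
    intro v w h
    rw [← Subgroup.card_map_of_injective (f := (MulAut.conj ρ).toMonoidHom) (MulEquiv.injective _)
      (K := Y ⊓ Subgroup.centralizer ({v} : Set G))]
    refine congrArg (fun H : Subgroup G => Nat.card H) ?_
    ext x
    rw [Subgroup.mem_map_equiv, Subgroup.mem_inf, Subgroup.mem_inf, Subgroup.mem_centralizer_singleton_iff,
      Subgroup.mem_centralizer_singleton_iff, hρY ((MulAut.conj ρ).symm x),
      show ρ * (MulAut.conj ρ).symm x * ρ⁻¹ = x from (MulAut.conj ρ).apply_symm_apply x]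
    refine and_congr_right fun _ => ?_
    show Commute x w ↔ Commute ((MulAut.conj ρ).symm x) v
    rw [← Commute.conj_iff (a := (MulAut.conj ρ).symm x) ρ, h,
      show ρ * (MulAut.conj ρ).symm x * ρ⁻¹ = x from (MulAut.conj ρ).apply_symm_apply x]
  have hzT : K.z * F.T = F.T * K.z := F.Tz.eq.symm
  have h := SmallCent.card_four_fixed Y (F.O_odd.of_dvd_nat (Subgroup.card_dvd_of_le hY)) z_mul_z F.sq hzT
    (hinv _ (F.O_conj_iff (Or.inl (F.W_conj F.z_mem.1)))) (hinv _ (F.O_conj_iff (Or.inl (F.W_conj F.T_mem.1))))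
  have e : Y ⊓ Subgroup.centralizer ({K.z} : Set G) ⊓ Subgroup.centralizer ({F.T} : Set G) =
      Subgroup.zpowers (F.a * F.b) := by
    refine le_antisymm ?_ (Subgroup.zpowers_le.2 ⟨⟨hab,
      Subgroup.mem_centralizer_singleton_iff.2 (F.az.mul_left F.bz)⟩,
      Subgroup.mem_centralizer_singleton_iff.2 F.T_ab.symm⟩)
    rw [← F.O_z_T]
    exact inf_le_inf_right _ (inf_le_inf_right _ hY)
  rw [e, Nat.card_zpowers, F.ab_ord, hzT, move r2, move r1] at h
  rw [show 9 * Nat.card Y = Nat.card Y * 3 ^ 2 by ring, h]; ring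

theorem ab_Zc : F.a * F.b ∈ F.Zc :=
  F.mem_Zc.2 ⟨F.ab_mem_O, fun _ hy => (F.mem_W.1 (F.O_le hy)).symm⟩

theorem g_O : ∀ x, x ∈ F.O ↔ F.g * x * F.g⁻¹ ∈ F.O := F.O_conj_iff (Or.inr F.g_ab)

/-- `a` or `c` is central in the core. -/
theorem central_cases : F.a ∈ F.Zc ∨ F.c ∈ F.Zc := by
  obtain ⟨ρ, hρ, r1, r2, r3⟩ := F.exists_rot (by norm_num)
  by_contra hno
  push_neg at hno
  obtain ⟨ha, hc⟩ := hno
  have hsmall : F.Zc ⊓ Subgroup.centralizer ({K.z} : Set G) ≤ Subgroup.zpowers (F.a * F.b) := by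
    intro y hy
    obtain ⟨i, j, k, hy'⟩ := F.inter_z_le ⟨(F.mem_Zc.1 hy.1).1, hy.2⟩
    have hab := F.ab_Zc
    set ab := F.a * F.b with habd
    have h1 : F.g * y * F.g⁻¹ ∈ F.Zc := F.Zc_conj F.g_O hy.1
    rw [← hy', show F.g * (F.a ^ i * F.b ^ j * F.c ^ k) * F.g⁻¹ =
      F.g * F.a ^ i * F.g⁻¹ * (F.g * F.b ^ j * F.g⁻¹) * (F.g * F.c ^ k * F.g⁻¹) by group, ← conj_pow,
      ← conj_pow, ← conj_pow, F.g_a, F.g_b, F.g_c] at h1
    have hy1 : F.a ^ i * F.b ^ j * F.c ^ k ∈ F.Zc := hy'.symm ▸ hy.1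
    have c1 : F.c ^ (2 * k) ∈ F.Zc := by
      have := mul_mem hy1 h1
      have e : F.a ^ i * F.b ^ j * F.c ^ k * (F.a⁻¹ ^ i * F.b⁻¹ ^ j * F.c ^ k) = F.c ^ (2 * k) := by
        have h1 : Commute (F.c ^ k) ((F.a ^ i)⁻¹ * (F.b ^ j)⁻¹) :=
          ((F.ac.pow_pow i k).symm.inv_right).mul_right ((F.bc.pow_pow j k).symm.inv_right)
        rw [inv_pow, inv_pow, show F.a ^ i * F.b ^ j * F.c ^ k * ((F.a ^ i)⁻¹ * (F.b ^ j)⁻¹ * F.c ^ k) =
          F.a ^ i * F.b ^ j * (F.c ^ k * ((F.a ^ i)⁻¹ * (F.b ^ j)⁻¹)) * F.c ^ k by group, h1.eq,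
          (F.ab.pow_pow i j).eq, two_mul, pow_add]
        group
      rwa [e] at this
    have hk : k % 3 = 0 := by
      by_contra hk
      refine hc ?_
      have h2 := pow_mem c1 (2 * k)
      rwa [← pow_mul, pow_one_of F.c3 (show (2 * k * (2 * k)) % 3 = 1 by
        rcases (show k % 3 = 1 ∨ k % 3 = 2 by omega) with e | e <;> rw [Nat.mul_mod, Nat.mul_mod 2 k, e])] at h2
    have hck : F.c ^ k = 1 := by rw [← Nat.mod_add_div k 3, hk, zero_add, pow_mul, F.c3, one_pow]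
    rw [hck, mul_one] at hy1 hy'
    have a1 : F.a ^ (i + 2 * j) ∈ F.Zc := by
      have := mul_mem hy1 (pow_mem hab (2 * j))
      have e : F.a ^ i * F.b ^ j * (F.a * F.b) ^ (2 * j) = F.a ^ (i + 2 * j) := by
        rw [F.ab.mul_pow, show F.a ^ i * F.b ^ j * (F.a ^ (2 * j) * F.b ^ (2 * j)) =
          F.a ^ i * (F.b ^ j * F.a ^ (2 * j)) * F.b ^ (2 * j) by group, (F.ab.symm.pow_pow j (2 * j)).eq,
          show F.a ^ i * (F.a ^ (2 * j) * F.b ^ j) * F.b ^ (2 * j) =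
          F.a ^ i * F.a ^ (2 * j) * (F.b ^ j * F.b ^ (2 * j)) by group, ← pow_add, ← pow_add,
          show j + 2 * j = 3 * j by ring, pow_mul, F.b3, one_pow, mul_one]
      rwa [e] at this
    have hij : (i + 2 * j) % 3 = 0 := by
      by_contra hk'
      refine ha ?_
      have h2 := pow_mem a1 (i + 2 * j)
      rwa [← pow_mul, pow_one_of F.a3 (show ((i + 2 * j) * (i + 2 * j)) % 3 = 1 by
        rcases (show (i + 2 * j) % 3 = 1 ∨ (i + 2 * j) % 3 = 2 by omega) with e | e <;> rw [Nat.mul_mod, e])] at h2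
    rw [← hy', show F.b ^ j = F.b ^ i by
      conv_lhs => rw [← Nat.mod_add_div j 3, pow_add, pow_mul, F.b3, one_pow, mul_one]
      conv_rhs => rw [← Nat.mod_add_div i 3, pow_add, pow_mul, F.b3, one_pow, mul_one]
      congr 1; omega, ← F.ab.mul_pow]
    exact Subgroup.pow_mem _ (Subgroup.mem_zpowers _) _
  have hinvZ := fun u hu x hx => F.Zc_conj (u := u) hu (x := x) hx
  have hz3 : Nat.card ↥(F.Zc ⊓ Subgroup.centralizer ({K.z} : Set G)) = 3 := by
    rw [← F.ab_ord, ← Nat.card_zpowers, le_antisymm hsmall (Subgroup.zpowers_le.2 ⟨F.ab_Zc,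
      Subgroup.mem_centralizer_singleton_iff.2 (F.az.mul_left F.bz)⟩)]
  have hZ : Nat.card F.Zc = 3 := by
    have := F.card_inv (Y := F.Zc) inf_le_left F.ab_Zc hinvZ
    rw [hz3] at this; omega
  obtain ⟨y, hy, hyn⟩ := F.exists_Z2 (fun e => by rw [e, F.card_O] at hZ; omega)
  have h2 : ¬ F.Z2 ⊓ Subgroup.centralizer ({K.z} : Set G) ≤ Subgroup.zpowers (F.a * F.b) := by
    intro hle
    have := F.card_inv (Y := F.Z2) F.Z2_le (F.Zc_le_Z2 F.ab_Zc) fun u hu x hx => F.Z2_conj hu hx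
    have hc : Nat.card ↥(F.Z2 ⊓ Subgroup.centralizer ({K.z} : Set G)) ≤ 3 :=
      (Subgroup.card_le_of_le hle).trans (le_of_eq (by rw [Nat.card_zpowers, F.ab_ord]))
    have h27 := Nat.pow_le_pow_left hc 3
    have heq : F.Zc = F.Z2 := Subgroup.eq_of_le_of_card_ge F.Zc_le_Z2 (by omega)
    exact hyn (heq ▸ hy)
  obtain ⟨y, ⟨hy, hyz⟩, hyn⟩ := SetLike.not_le_iff_exists.1 h2
  have hyA : y ∈ F.A := F.inter_z_le ⟨hy.1, hyz⟩
  have hyz' : Commute y K.z := Subgroup.mem_centralizer_singleton_iff.1 hyz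
  have fixedT : ∀ v, (v = F.T ∨ v = F.T * K.z) → ∀ x ∈ F.O ⊓ Subgroup.centralizer ({v} : Set G), Commute y x := by
    intro v hv x hx
    have hvz : Commute K.z v := by
      rcases hv with rfl | rfl
      · exact F.Tz.symm
      · exact F.Tz.symm.mul_right (Commute.refl _)
    set x' := K.z * x * K.z⁻¹
    have hxv : Commute x v := Subgroup.mem_centralizer_singleton_iff.1 hx.2
    have hx' : x' ∈ F.O ⊓ Subgroup.centralizer ({v} : Set G) :=
      ⟨F.conjO F.z_mem.1 hx.1, Subgroup.mem_centralizer_singleton_iff.2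
        ((hvz.mul_left hxv).mul_left hvz.inv_left)⟩
    have hcm := ((F.fixed_data (Or.inr hv)).2 x hx).2 x' hx'
    have hfix : Commute (x * x') K.z := by
      have e : K.z * (x * x') * K.z⁻¹ = x * x' := by
        calc K.z * (x * x') * K.z⁻¹ = x' * ((K.z * K.z) * x * (K.z * K.z)⁻¹) := by simp only [x']; group
          _ = x' * x := by rw [z_mul_z]; group
          _ = x * x' := hcm.eq.symm
      exact (mul_inv_eq_iff_eq_mul.1 e).symm
    have hT : Commute (x * x') F.T := by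
      have h1 := hxv.mul_left (Subgroup.mem_centralizer_singleton_iff.1 hx'.2)
      rcases hv with rfl | rfl
      · exact h1
      · have := h1.mul_right hfix
        rwa [mul_assoc, z_mul_z, mul_one] at this
    have hin : x * x' ∈ Subgroup.zpowers (F.a * F.b) := by
      rw [← F.O_z_T]
      exact ⟨⟨mul_mem hx.1 hx'.1, Subgroup.mem_centralizer_singleton_iff.2 hfix⟩,
        Subgroup.mem_centralizer_singleton_iff.2 hT⟩
    have hc0 : Commute y (x * x') := ((F.mem_Zc.1 ((Subgroup.zpowers_le.2 F.ab_Zc) hin)).2 y hy.1).symm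
    set w := ⁅y, x⁆ with hw
    have hwZ : w ∈ F.Zc := hy.2 x hx.1
    have hwab : w ∈ Subgroup.zpowers (F.a * F.b) :=
      (Subgroup.eq_of_le_of_card_ge (Subgroup.zpowers_le.2 F.ab_Zc)
        (by rw [Nat.card_zpowers, F.ab_ord, hZ])) ▸ hwZ
    have hwz : K.z * w * K.z⁻¹ = w := by
      obtain ⟨k, hk⟩ := hwab
      rw [← hk]
      show K.z * (F.a * F.b) ^ k * K.z⁻¹ = _
      rw [((F.az.mul_left F.bz).symm.zpow_right k).eq, mul_inv_cancel_right]
    have hw' : ⁅y, x'⁆ = w := by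
      rw [← hwz, hw, show K.z * ⁅y, x⁆ * K.z⁻¹ = ⁅K.z * y * K.z⁻¹, x'⁆ by
        simp only [commutatorElement_def, x']; group, hyz'.symm.eq, mul_inv_cancel_right]
    have h2 : w * w = 1 := by
      have h := commutatorElement_eq_one_iff_mul_comm.2 hc0.eq
      rw [show ⁅y, x * x'⁆ = ⁅y, x⁆ * (x * ⁅y, x'⁆ * x⁻¹) by simp only [commutatorElement_def]; group, hw',
        ← ((F.mem_Zc.1 hwZ).2 x hx.1).eq, mul_inv_cancel_right] at h
      exact h
    exact commutatorElement_eq_one_iff_mul_comm.1 (eq_one_of_odd_sq F.O_odd (F.mem_Zc.1 hwZ).1 h2)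
  refine hyn (hsmall ⟨F.mem_Zc.2 ⟨hy.1, fun x hx => ?_⟩, hyz⟩)
  have hle : F.O ≤ Subgroup.centralizer ({y} : Set G) := by
    rw [F.O_closure]
    refine sup_le (sup_le ?_ ?_) ?_
    · intro x hx
      exact Subgroup.mem_centralizer_singleton_iff.2 (F.A_comm (F.inter_z_le hx) hyA)
    · intro x hx
      exact Subgroup.mem_centralizer_singleton_iff.2 (fixedT _ (Or.inl rfl) x hx).symm
    · intro x hx
      exact Subgroup.mem_centralizer_singleton_iff.2 (fixedT _ (Or.inr rfl) x hx).symm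
  exact (Subgroup.mem_centralizer_singleton_iff.1 (hle hx) : x * y = y * x).symm

/-- The core has class at most two and exponent three. -/
theorem class_two : (∀ x ∈ F.O, ∀ y ∈ F.O, ⁅x, y⁆ ∈ F.Zc) ∧ ∀ x ∈ F.O, x ^ 3 = 1 := by
  have hcl : F.Z2 = F.O := by
    by_cases h : F.Zc = F.O
    · exact le_antisymm F.Z2_le (h.symm.le.trans F.Zc_le_Z2)
    obtain ⟨y, hy, hyn⟩ := F.exists_Z2 h
    have hz := F.card_inv (Y := F.Zc) inf_le_left F.ab_Zc fun u hu x hx => F.Zc_conj hu hx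
    have h2 := F.card_inv (Y := F.Z2) F.Z2_le (F.Zc_le_Z2 F.ab_Zc) fun u hu x hx => F.Z2_conj hu hx
    set p := Nat.card ↥(F.Zc ⊓ Subgroup.centralizer ({K.z} : Set G))
    set q := Nat.card ↥(F.Z2 ⊓ Subgroup.centralizer ({K.z} : Set G))
    have hp9 : 9 ≤ p := by
      obtain ⟨e, heA, heZ, hen⟩ : ∃ e ∈ F.A, e ∈ F.Zc ∧ e ∉ Subgroup.zpowers (F.a * F.b) := by
        have notab : ∀ e, e = F.a ∨ e = F.c → e ∉ Subgroup.zpowers (F.a * F.b) := by
          rintro e he ⟨i, hi⟩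
          have hTe : F.T * e * F.T⁻¹ = e := by
            rw [← hi]
            show F.T * (F.a * F.b) ^ i * F.T⁻¹ = _
            rw [(F.T_ab.zpow_right i).eq, mul_inv_cancel_right]
          rcases he with rfl | rfl
          · rw [F.T_a] at hTe
            have h' := F.img_b
            rw [hTe] at h'
            exact absurd (emb_injective h9 (h'.unique F.img_a)) (by decide +kernel)
          · rw [F.T_c] at hTe
            have h' := F.img_c.inv
            rw [hTe, ← map_inv] at h'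
            exact absurd (emb_injective h9 (h'.unique F.img_c)) (by decide +kernel)
        rcases F.central_cases with h | h
        · exact ⟨F.a, F.a_A, h, notab _ (Or.inl rfl)⟩
        · exact ⟨F.c, F.c_A, h, notab _ (Or.inr rfl)⟩
      have hlt : Subgroup.zpowers (F.a * F.b) < F.Zc ⊓ Subgroup.centralizer ({K.z} : Set G) :=
        lt_of_le_of_ne (Subgroup.zpowers_le.2 ⟨F.ab_Zc,
          Subgroup.mem_centralizer_singleton_iff.2 (F.az.mul_left F.bz)⟩)
          fun h => hen (h ▸ ⟨heZ, (F.A_le_Wz heA).2⟩)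
      have hdvd : p ∣ 3 ^ 3 := by
        rw [show (3 : ℕ) ^ 3 = 27 by norm_num, ← F.card_A]
        exact Subgroup.card_dvd_of_le fun x hx => F.inter_z_le ⟨(F.mem_Zc.1 hx.1).1, hx.2⟩
      have hgt : 3 < p := by
        have hle := Subgroup.card_le_of_le hlt.le
        rw [Nat.card_zpowers, F.ab_ord] at hle
        exact lt_of_le_of_ne hle fun h => hlt.ne (Subgroup.eq_of_le_of_card_ge hlt.le (by
          rw [Nat.card_zpowers, F.ab_ord]; omega))
      obtain ⟨m, hm, hpm⟩ := (Nat.dvd_prime_pow Nat.prime_three).1 hdvd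
      rw [hpm] at hgt ⊢
      interval_cases m <;> omega
    have hpq : p < q := by
      refine lt_of_le_of_ne (Subgroup.card_le_of_le (inf_le_inf_right _ F.Zc_le_Z2)) fun e => ?_
      have : F.Zc = F.Z2 := Subgroup.eq_of_le_of_card_ge F.Zc_le_Z2 (by rw [← e] at h2; omega)
      exact hyn (this ▸ hy)
    have hq : q ∣ 3 ^ 3 := by
      rw [show (3 : ℕ) ^ 3 = 27 by norm_num, ← F.card_A]
      exact Subgroup.card_dvd_of_le fun x hx => F.inter_z_le ⟨hx.1.1, hx.2⟩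
    obtain ⟨m, hm, hqm⟩ := (Nat.dvd_prime_pow Nat.prime_three).1 hq
    have hq27 : q = 27 := by interval_cases m <;> omega
    refine Subgroup.eq_of_le_of_card_ge F.Z2_le ?_
    rw [hq27] at h2
    rw [F.card_O]; omega
  have hcomm : ∀ x ∈ F.O, ∀ y ∈ F.O, ⁅x, y⁆ ∈ F.Zc := fun x hx y hy =>
    (show x ∈ F.Z2 from hcl.symm ▸ hx).2 y hy
  refine ⟨hcomm, fun x hx => ?_⟩
  let E : Subgroup G :=
    { carrier := {x | x ∈ F.O ∧ x ^ 3 = 1}
      one_mem' := ⟨one_mem _, one_pow 3⟩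
      mul_mem' := by
        rintro x y ⟨hx, hx3⟩ ⟨hy, hy3⟩
        refine ⟨mul_mem hx hy, ?_⟩
        set k := ⁅y, x⁆ with hk
        have hkx : Commute k x := (F.mem_Zc.1 (hcomm y hy x hx)).2 x hx
        have hky : Commute k y := (F.mem_Zc.1 (hcomm y hy x hx)).2 y hy
        have e : y * x = k * x * y := by rw [hk, commutatorElement_def]; group
        have hk3 : k ^ 3 = 1 := by
          have e1 : y * x * y⁻¹ = k * x := by rw [e]; group
          have e2 := congrArg (fun w => w ^ 3) e1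
          simp only [conj_pow, hkx.mul_pow, hx3, mul_one, mul_inv_cancel] at e2
          exact e2.symm
        calc (x * y) ^ 3 = x * (y * x) * (y * x) * y := by
              rw [pow_succ, pow_succ, pow_one]; group
          _ = x * (k * x * y) * (k * x * y) * y := by rw [e]
          _ = k * k * (x * x * (y * x) * y * y) := by
              rw [show x * (k * x * y) * (k * x * y) * y = x * k * x * y * k * x * y * y by group,
                ← hkx.eq, show k * x * x * y * k * x * y * y = k * x * x * (y * k) * x * y * y by group,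
                ← hky.eq, show k * x * x * (k * y) * x * y * y = k * ((x * x) * k) * y * x * y * y by group,
                ← (hkx.mul_right hkx).eq]
              group
          _ = k * k * (x * x * (k * x * y) * y * y) := by rw [e]
          _ = k ^ 3 * (x ^ 3 * y ^ 3) := by
              rw [show x * x * (k * x * y) * y * y = ((x * x) * k) * x * y * y * y by group,
                ← (hkx.mul_right hkx).eq]
              simp [pow_succ, mul_assoc]
          _ = 1 := by rw [hk3, hx3, hy3]; simp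
      inv_mem' := fun ⟨hx, hx3⟩ => ⟨inv_mem hx, by rw [inv_pow, hx3, inv_one]⟩ }
  have hle : F.O ≤ E := by
    rw [F.O_closure]
    exact sup_le (sup_le (fun w hw => ⟨hw.1, ((F.fixed_data (Or.inl rfl)).2 w hw).1⟩)
      fun w hw => ⟨hw.1, ((F.fixed_data (Or.inr (Or.inl rfl))).2 w hw).1⟩)
      fun w hw => ⟨hw.1, ((F.fixed_data (Or.inr (Or.inr rfl))).2 w hw).1⟩
  exact (hle hx).2

/-- If `a` is central then the core is abelian. -/
theorem abelian_of_a (ha : F.a ∈ F.Zc) : ∀ x ∈ F.O, ∀ y ∈ F.O, Commute x y := by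
  obtain ⟨hcomm, -⟩ := F.class_two
  obtain ⟨ρ, hρ, r1, r2, r3⟩ := F.exists_rot (by norm_num)
  have hρO := F.O_conj_iff (u := ρ) (Or.inl (by rw [hρ.eq, mul_inv_cancel_right]))
  by_cases hc : F.c ∈ F.Zc
  · -- the fixed points of the three involutions are central
    have hA : F.A ≤ F.Zc := by
      have hb : F.b ∈ F.Zc := by
        have := mul_mem (inv_mem ha) F.ab_Zc
        rwa [inv_mul_cancel_left] at this
      rintro _ ⟨i, j, k, rfl⟩
      exact mul_mem (mul_mem (pow_mem ha i) (pow_mem hb j)) (pow_mem hc k)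
    have step : ∀ {v w}, ρ * v * ρ⁻¹ = w → F.O ⊓ Subgroup.centralizer ({v} : Set G) ≤ F.Zc →
        F.O ⊓ Subgroup.centralizer ({w} : Set G) ≤ F.Zc := by
      intro v w h hle
      rw [← F.rot_maps hρ h]
      rintro _ ⟨x, hx, rfl⟩
      exact F.Zc_conj hρO (hle hx)
    have h1 : F.O ⊓ Subgroup.centralizer ({K.z} : Set G) ≤ F.Zc := F.O_z.le.trans hA
    have hle : F.O ≤ F.Zc := by
      conv_lhs => rw [F.O_closure]
      exact sup_le (sup_le h1 (step r1 h1)) (step r2 (step r1 h1))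
    exact fun x hx y hy => (F.mem_Zc.1 (hle hx)).2 y hy
  -- the fixed points of `T` modulo the centre
  have hcz3 : ∀ w ∈ F.Zc, Commute w K.z → F.g * w * F.g⁻¹ = w → w = 1 := by
    intro w hw hwz hwg
    obtain ⟨i, j, k, rfl⟩ := F.inter_z_le ⟨(F.mem_Zc.1 hw).1, Subgroup.mem_centralizer_singleton_iff.2 hwz⟩
    rw [show F.g * (F.a ^ i * F.b ^ j * F.c ^ k) * F.g⁻¹ =
      F.g * F.a ^ i * F.g⁻¹ * (F.g * F.b ^ j * F.g⁻¹) * (F.g * F.c ^ k * F.g⁻¹) by group, ← conj_pow,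
      ← conj_pow, ← conj_pow, F.g_a, F.g_b, F.g_c, mul_left_inj, inv_pow, inv_pow, ← mul_inv_rev,
      ← (F.ab.pow_pow i j).eq, inv_eq_iff_mul_eq_one] at hwg
    have h1 : F.a ^ i * F.b ^ j = 1 :=
      eq_one_of_odd_sq F.O_odd (F.A_le_O (mul_mem (pow_mem F.a_A i) (pow_mem F.b_A j))) hwg
    rw [h1, one_mul] at hw ⊢
    by_contra hk
    refine hc ?_
    have hk3 : k % 3 ≠ 0 := fun h => hk (by
      rw [← Nat.mod_add_div k 3, h, zero_add, pow_mul, F.c3, one_pow])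
    have h2 := pow_mem hw k
    rw [← pow_mul] at h2
    rcases (show k % 3 = 1 ∨ k % 3 = 2 by omega) with e | e
    all_goals
      have hkk : k * k % 3 = 1 := by rw [Nat.mul_mod, e]
      rwa [← Nat.mod_add_div (k * k) 3, hkk, pow_add, pow_mul, F.c3, one_pow, mul_one, pow_one] at h2
  set PT := F.O ⊓ Subgroup.centralizer ({F.T} : Set G) with hPT
  set QT := F.Zc ⊓ Subgroup.centralizer ({F.T} : Set G)
  have hQP : QT ≤ PT := inf_le_inf_right _ inf_le_left
  -- one element generates modulo the centre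
  obtain ⟨x₀, hx₀, hgen⟩ : ∃ x₀ ∈ PT, PT ≤ QT ⊔ Subgroup.zpowers x₀ := by
    by_cases hall : PT ≤ QT
    · exact ⟨1, one_mem _, hall.trans le_sup_left⟩
    obtain ⟨x, hx, hxn⟩ := SetLike.not_le_iff_exists.1 hall
    refine ⟨x, hx, ?_⟩
    have hlt : QT < QT ⊔ Subgroup.zpowers x :=
      lt_of_le_of_ne le_sup_left fun e => hxn (e.symm ▸ Subgroup.mem_sup_right (Subgroup.mem_zpowers x))
    have hle : QT ⊔ Subgroup.zpowers x ≤ PT := sup_le hQP (Subgroup.zpowers_le.2 hx)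
    have h9le : 9 ≤ Nat.card QT := by
      have hz : Nat.card ↥(F.Zc ⊓ Subgroup.centralizer ({K.z} : Set G)) = Nat.card QT := by
        have e : (F.Zc ⊓ Subgroup.centralizer ({K.z} : Set G)).map (MulAut.conj ρ).toMonoidHom = QT := by
          ext w
          rw [Subgroup.mem_map_equiv, Subgroup.mem_inf, Subgroup.mem_inf,
            Subgroup.mem_centralizer_singleton_iff, Subgroup.mem_centralizer_singleton_iff]
          have hw : ρ * (MulAut.conj ρ).symm w * ρ⁻¹ = w := (MulAut.conj ρ).apply_symm_apply w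
          refine ⟨fun ⟨h1, h2⟩ => ⟨hw ▸ F.Zc_conj hρO h1, ?_⟩, fun ⟨h1, h2⟩ => ⟨?_, ?_⟩⟩
          · show Commute w F.T
            rw [← hw, ← r1]
            exact (Commute.conj_iff ρ).2 h2
          · have hρ' : ∀ y, y ∈ F.O ↔ ρ⁻¹ * y * ρ⁻¹⁻¹ ∈ F.O := fun y => by
              rw [hρO (ρ⁻¹ * y * ρ⁻¹⁻¹), show ρ * (ρ⁻¹ * y * ρ⁻¹⁻¹) * ρ⁻¹ = y by group]
            have := F.Zc_conj hρ' h1
            simpa [MulAut.conj_symm_apply] using this
          · show Commute ((MulAut.conj ρ).symm w) K.z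
            rw [← Commute.conj_iff ρ, hw, r1]
            exact h2
        rw [← e, Subgroup.card_map_of_injective (MulEquiv.injective _)]
      rw [← hz]
      have hdvd : Nat.card ↥(F.Zc ⊓ Subgroup.centralizer ({K.z} : Set G)) ∣ 3 ^ 3 := by
        rw [show (3 : ℕ) ^ 3 = 27 by norm_num, ← F.card_A]
        exact Subgroup.card_dvd_of_le fun x hx => F.inter_z_le ⟨(F.mem_Zc.1 hx.1).1, hx.2⟩
      have haz : F.a ∈ F.Zc ⊓ Subgroup.centralizer ({K.z} : Set G) :=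
        ⟨ha, Subgroup.mem_centralizer_singleton_iff.2 F.az⟩
      have hab : F.a * F.b ∈ F.Zc ⊓ Subgroup.centralizer ({K.z} : Set G) :=
        ⟨F.ab_Zc, Subgroup.mem_centralizer_singleton_iff.2 (F.az.mul_left F.bz)⟩
      obtain ⟨m, hm, hc'⟩ := (Nat.dvd_prime_pow Nat.prime_three).1 hdvd
      by_contra hlt9
      have : Nat.card ↥(F.Zc ⊓ Subgroup.centralizer ({K.z} : Set G)) ≤ 3 := by
        interval_cases m <;> omega
      have heq := Subgroup.eq_of_le_of_card_ge (Subgroup.zpowers_le.2 hab)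
        (by rw [Nat.card_zpowers, F.ab_ord]; exact this)
      rw [← heq] at haz
      obtain ⟨i, hi⟩ := haz
      have hTe : F.T * F.a * F.T⁻¹ = F.a := by
        conv_lhs => rw [← hi]
        show F.T * (F.a * F.b) ^ i * F.T⁻¹ = _
        rw [(F.T_ab.zpow_right i).eq, mul_inv_cancel_right]
        exact hi
      rw [F.T_a] at hTe
      have h' := F.img_b
      rw [hTe] at h'
      exact absurd (emb_injective h9 (h'.unique F.img_a)) (by decide +kernel)
    have h27 : Nat.card PT = 27 := (F.fixed_data (Or.inr (Or.inl rfl))).1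
    have hd : Nat.card ↥(QT ⊔ Subgroup.zpowers x) ∣ 3 ^ 3 := by
      rw [show (3 : ℕ) ^ 3 = 27 by norm_num, ← h27]; exact Subgroup.card_dvd_of_le hle
    have hgt : Nat.card QT < Nat.card ↥(QT ⊔ Subgroup.zpowers x) :=
      lt_of_le_of_ne (Subgroup.card_le_of_le le_sup_left)
        fun e => hlt.ne (Subgroup.eq_of_le_of_card_ge le_sup_left e.ge)
    obtain ⟨m, hm, hc'⟩ := (Nat.dvd_prime_pow Nat.prime_three).1 hd
    exact (Subgroup.eq_of_le_of_card_ge hle (by rw [h27, hc']; interval_cases m <;> omega)).ge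
  set y₀ := F.g * x₀ * F.g⁻¹ with hy₀
  have hgg : F.g * F.g = K.z :=
    F.img_g.sq (emb_quad h9 ⟨by decide +kernel, by decide +kernel⟩)
  have hy₀O : y₀ ∈ F.O := (F.g_O _).1 hx₀.1
  have hx0T : Commute x₀ F.T := Subgroup.mem_centralizer_singleton_iff.1 hx₀.2
  -- the image under `z` is the inverse up to a central element
  have hzx : ∀ x ∈ PT, x * (K.z * x * K.z⁻¹) ∈ F.Zc := by
    intro x hx
    have hxT : Commute x F.T := Subgroup.mem_centralizer_singleton_iff.1 hx.2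
    set x' := K.z * x * K.z⁻¹
    have hx' : x' ∈ PT :=
      ⟨F.conjO F.z_mem.1 hx.1, Subgroup.mem_centralizer_singleton_iff.2
        ((F.Tz.symm.mul_left hxT).mul_left F.Tz.symm.inv_left)⟩
    refine (Subgroup.zpowers_le.2 F.ab_Zc) ?_
    rw [← F.O_z_T]
    refine ⟨⟨mul_mem hx.1 hx'.1, Subgroup.mem_centralizer_singleton_iff.2 ?_⟩,
      Subgroup.mem_centralizer_singleton_iff.2 (hxT.mul_left (Subgroup.mem_centralizer_singleton_iff.1 hx'.2))⟩
    have e : K.z * (x * x') * K.z⁻¹ = x * x' := by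
      calc K.z * (x * x') * K.z⁻¹ = x' * ((K.z * K.z) * x * (K.z * K.z)⁻¹) := by simp only [x']; group
        _ = x' * x := by rw [z_mul_z]; group
        _ = x * x' := (((F.fixed_data (Or.inr (Or.inl rfl))).2 x hx).2 x' hx').eq.symm
    exact (mul_inv_eq_iff_eq_mul.1 e).symm
  -- commutators are bimultiplicative
  have bil : ∀ p ∈ F.O, ∀ q ∈ F.O, ∀ ζ ∈ F.Zc, ⁅p * ζ, q⁆ = ⁅p, q⁆ ∧ ⁅p, q * ζ⁆ = ⁅p, q⁆ ∧ ⁅p⁻¹, q⁆ = ⁅p, q⁆⁻¹ ∧
      ⁅p, q⁻¹⁆ = ⁅p, q⁆⁻¹ := by
    intro p hp q hq ζ hζ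
    have c1 : ∀ w ∈ F.O, Commute ζ w := (F.mem_Zc.1 hζ).2
    have c2 : ∀ w ∈ F.O, Commute ⁅p, q⁆ w := (F.mem_Zc.1 (hcomm p hp q hq)).2
    refine ⟨?_, ?_, ?_, ?_⟩
    · rw [show ⁅p * ζ, q⁆ = p * ⁅ζ, q⁆ * p⁻¹ * ⁅p, q⁆ by simp only [commutatorElement_def]; group,
        commutatorElement_eq_one_iff_mul_comm.2 (c1 q hq).eq]
      group
    · rw [show ⁅p, q * ζ⁆ = ⁅p, q⁆ * (q * ⁅p, ζ⁆ * q⁻¹) by simp only [commutatorElement_def]; group,
        commutatorElement_eq_one_iff_mul_comm.2 (c1 p hp).symm.eq]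
      group
    · rw [show ⁅p⁻¹, q⁆ = p⁻¹ * ⁅p, q⁆⁻¹ * p⁻¹⁻¹ by simp only [commutatorElement_def]; group,
        ← ((c2 p⁻¹ (inv_mem hp)).inv_left).eq, mul_inv_cancel_right]
    · rw [show ⁅p, q⁻¹⁆ = q⁻¹ * ⁅p, q⁆⁻¹ * q⁻¹⁻¹ by simp only [commutatorElement_def]; group,
        ← ((c2 q⁻¹ (inv_mem hq)).inv_left).eq, mul_inv_cancel_right]
  have hzx₀ : ∃ ζ ∈ F.Zc, K.z * x₀ * K.z⁻¹ = x₀⁻¹ * ζ := ⟨_, hzx x₀ hx₀, by group⟩
  set w := ⁅x₀, y₀⁆ with hw
  have hwZ : w ∈ F.Zc := hcomm _ hx₀.1 _ hy₀O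
  have hwg : F.g * w * F.g⁻¹ = w := by
    obtain ⟨ζ, hζ, e⟩ := hzx₀
    calc F.g * w * F.g⁻¹ = ⁅y₀, (F.g * F.g) * x₀ * (F.g * F.g)⁻¹⁆ := by
          simp only [hw, hy₀, commutatorElement_def]; group
      _ = ⁅y₀, x₀⁻¹ * ζ⁆ := by rw [hgg, e]
      _ = ⁅y₀, x₀⁻¹⁆ := (bil _ hy₀O _ (inv_mem hx₀.1) ζ hζ).2.1
      _ = ⁅y₀, x₀⁆⁻¹ := (bil _ hy₀O _ hx₀.1 ζ hζ).2.2.2
      _ = w := by rw [commutatorElement_inv]
  have hwz : Commute w K.z := by
    refine (mul_inv_eq_iff_eq_mul.1 (?_ : K.z * w * K.z⁻¹ = w)).symm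
    obtain ⟨ζ, hζ, e⟩ := hzx₀
    obtain ⟨ζ', hζ', e'⟩ : ∃ ζ ∈ F.Zc, K.z * y₀ * K.z⁻¹ = y₀⁻¹ * ζ := by
      refine ⟨F.g * ζ * F.g⁻¹, F.Zc_conj F.g_O hζ, ?_⟩
      calc K.z * y₀ * K.z⁻¹ = F.g * (K.z * x₀ * K.z⁻¹) * F.g⁻¹ := by
            rw [hy₀, show F.g * (K.z * x₀ * K.z⁻¹) * F.g⁻¹ = (F.g * K.z) * x₀ * (F.g * K.z)⁻¹ by group, F.gz.eq]
            group
        _ = _ := by rw [e, hy₀]; group
    calc K.z * w * K.z⁻¹ = ⁅K.z * x₀ * K.z⁻¹, K.z * y₀ * K.z⁻¹⁆ := by simp only [hw, commutatorElement_def]; group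
      _ = ⁅x₀⁻¹ * ζ, y₀⁻¹ * ζ'⁆ := by rw [e, e']
      _ = ⁅x₀⁻¹, y₀⁻¹⁆ := by
        rw [(bil _ (inv_mem hx₀.1) _ (mul_mem (inv_mem hy₀O) (F.mem_Zc.1 hζ').1) ζ hζ).1,
          (bil _ (inv_mem hx₀.1) _ (inv_mem hy₀O) ζ' hζ').2.1]
      _ = w := by
        rw [(bil _ hx₀.1 _ (inv_mem hy₀O) ζ hζ).2.2.1, (bil _ hx₀.1 _ hy₀O ζ hζ).2.2.2, inv_inv]
  have hw1 : w = 1 := hcz3 w hwZ hwz hwg
  set QTz := F.O ⊓ Subgroup.centralizer ({F.T * K.z} : Set G)
  have cross : ∀ x ∈ PT, ∀ y ∈ QTz, Commute x y := by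
    have hmap : ∀ y ∈ QTz, ∃ x ∈ PT, F.g * x * F.g⁻¹ = y := by
      intro y hy
      refine ⟨F.g⁻¹ * y * F.g, ⟨(F.g_O _).2 ?_, Subgroup.mem_centralizer_singleton_iff.2 ?_⟩, by group⟩
      · rw [show F.g * (F.g⁻¹ * y * F.g) * F.g⁻¹ = y by group]; exact hy.1
      · show Commute (F.g⁻¹ * y * F.g) F.T
        rw [← Commute.conj_iff F.g, F.g_T, show F.g * (F.g⁻¹ * y * F.g) * F.g⁻¹ = y by group]
        exact Subgroup.mem_centralizer_singleton_iff.1 hy.2
    have inC : ∀ v, Commute x₀ v → (∀ ζ ∈ F.Zc, Commute ζ v) → PT ≤ Subgroup.centralizer ({v} : Set G) :=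
      fun v h h' => hgen.trans (sup_le (fun ζ hζ => Subgroup.mem_centralizer_singleton_iff.2 (h' ζ hζ.1))
        (Subgroup.zpowers_le.2 (Subgroup.mem_centralizer_singleton_iff.2 h)))
    intro x hx y hy
    obtain ⟨x₁, hx₁, rfl⟩ := hmap y hy
    have h1 : Commute x₀ (F.g * x₁ * F.g⁻¹) := by
      have : PT.map (MulAut.conj F.g).toMonoidHom ≤ Subgroup.centralizer ({x₀} : Set G) := by
        refine (Subgroup.map_mono hgen).trans ?_
        rw [Subgroup.map_sup, MonoidHom.map_zpowers]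
        refine sup_le ?_ (Subgroup.zpowers_le.2 (Subgroup.mem_centralizer_singleton_iff.2 ?_))
        · rintro _ ⟨ζ, hζ, rfl⟩
          exact Subgroup.mem_centralizer_singleton_iff.2 ((F.mem_Zc.1 (F.Zc_conj F.g_O hζ.1)).2 _ hx₀.1)
        · exact (commutatorElement_eq_one_iff_mul_comm.1 hw1).symm
      exact (show Commute (F.g * x₁ * F.g⁻¹) x₀ from
        Subgroup.mem_centralizer_singleton_iff.1 (this (Subgroup.mem_map_of_mem _ hx₁))).symm
    exact Subgroup.mem_centralizer_singleton_iff.1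
      (inC _ h1 (fun ζ hζ => (F.mem_Zc.1 hζ).2 _ hy.1) hx)
  -- spread by the rotation
  have cross' : ∀ {v v' w w'}, ρ * v * ρ⁻¹ = w → ρ * v' * ρ⁻¹ = w' →
      (∀ x ∈ F.O ⊓ Subgroup.centralizer ({v} : Set G), ∀ y ∈ F.O ⊓ Subgroup.centralizer ({v'} : Set G),
        Commute x y) →
      ∀ x ∈ F.O ⊓ Subgroup.centralizer ({w} : Set G), ∀ y ∈ F.O ⊓ Subgroup.centralizer ({w'} : Set G),
        Commute x y := by
    intro v v' w w' h h' hh
    rw [← F.rot_maps hρ h, ← F.rot_maps hρ h']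
    rintro _ ⟨x, hx, rfl⟩ _ ⟨y, hy, rfl⟩
    exact (hh x hx y hy).map _
  have c12 := cross
  have c20 := cross' r2 r3 c12
  have c01 := cross' r3 r1 c20
  intro x hx y hy
  have key : ∀ v ∈ [K.z, F.T, F.T * K.z], ∀ x ∈ F.O ⊓ Subgroup.centralizer ({v} : Set G),
      F.O ≤ Subgroup.centralizer ({x} : Set G) := by
    intro v hv x hx
    rw [F.O_closure]
    have c : ∀ {y}, Commute x y → y ∈ Subgroup.centralizer ({x} : Set G) := fun h =>
      Subgroup.mem_centralizer_singleton_iff.2 h.symm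
    simp only [List.mem_cons, List.not_mem_nil, or_false] at hv
    rcases hv with rfl | rfl | rfl
    · exact sup_le (sup_le (fun y hy => c (((F.fixed_data (Or.inl rfl)).2 x hx).2 y hy))
        fun y hy => c (c01 x hx y hy)) fun y hy => c ((c20 y hy x hx).symm)
    · exact sup_le (sup_le (fun y hy => c ((c01 y hy x hx).symm))
        fun y hy => c (((F.fixed_data (Or.inr (Or.inl rfl))).2 x hx).2 y hy)) fun y hy => c (c12 x hx y hy)
    · exact sup_le (sup_le (fun y hy => c (c20 x hx y hy)) fun y hy => c ((c12 y hy x hx).symm))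
        fun y hy => c (((F.fixed_data (Or.inr (Or.inr rfl))).2 x hx).2 y hy)
  have hle : F.O ≤ Subgroup.centralizer ({y} : Set G) := by
    conv_lhs => rw [F.O_closure]
    refine sup_le (sup_le ?_ ?_) ?_ <;>
      intro x hx <;> refine Subgroup.mem_centralizer_singleton_iff.2 ?_
    · exact (Subgroup.mem_centralizer_singleton_iff.1 (key K.z (by simp) x hx hy) : Commute y x).symm
    · exact (Subgroup.mem_centralizer_singleton_iff.1 (key F.T (by simp) x hx hy) : Commute y x).symm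
    · exact (Subgroup.mem_centralizer_singleton_iff.1 (key (F.T * K.z) (by simp) x hx hy) : Commute y x).symm
  exact Subgroup.mem_centralizer_singleton_iff.1 (hle hx)

end Cfg.Triple

end Cfsg.Agent.Invol.TwoAn
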