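import Mathlib
import Cfsg.Agent.Lib.Invol.TwoAn.NineO
import Cfsg.Agent.Lib.Invol.TwoAn.IsolatedCore

/-!
# Degree nine: odd subgroups of the centralizer of `a b` and one of the generators
-/

set_option autoImplicit false
set_option linter.unusedSectionVars false
set_option maxRecDepth 100000

namespace Cfsg.Agent.Invol.TwoAn

open Equiv Equiv.Perm

universe u

variable {G : Type u} [Group G] [Finite G]

/-- The cycle of the three blocks. -/
def D0 : Perm (Fin 9) := swap 0 3 * swap 3 6 * (swap 1 4 * swap 4 7) * (swap 2 5 * swap 5 8)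
/-- An element of order eight exchanging the last two blocks. -/
def H0 : Perm (Fin 9) := swap 3 6 * (swap 4 7 * swap 7 5 * swap 5 8)

theorem emb_self (h : 9 ≤ 9) (σ : Perm (Fin 9)) : emb h σ = σ := Equiv.ext fun i => emb_lt h σ i

theorem D0_facts : D0 ^ 3 = 1 ∧ D0 * A0 * D0⁻¹ = B0 ∧ D0 * B0 * D0⁻¹ = C0 ∧ D0 * C0 * D0⁻¹ = A0 := by
  decide +kernel

theorem H0_facts : sign H0 = 1 ∧ H0 * A0 * H0⁻¹ = A0 ∧ H0 * B0 * H0⁻¹ = C0 ∧ H0 * C0 * H0⁻¹ = B0⁻¹ ∧
    IsQuad (H0 * H0) := by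
  refine ⟨?_, ?_, ?_, ?_, ?_, ?_⟩ <;> decide +kernel

/-- An involution commuting with a 3-cycle fixes its points. -/
theorem fix_of_comm {x : Perm (Fin 9)} (hx : x * x = 1) (hc : Commute x A0) {i : Fin 9} (hi : (i : ℕ) < 3) :
    x i = i := by
  have hA : ∀ i : Fin 9, (i : ℕ) < 3 → A0 i ≠ i ∧ A0 (A0 i) ≠ i := by decide +kernel
  have hB : ∀ i j : Fin 9, (i : ℕ) < 3 → A0 j ≠ j → j = i ∨ j = A0 i ∨ j = A0 (A0 i) := by decide +kernel
  have app : ∀ j, x (x j) = j := fun j => by rw [← Perm.mul_apply, hx, Perm.one_apply]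
  have com : ∀ j, x (A0 j) = A0 (x j) := fun j => by rw [← Perm.mul_apply, hc.eq, Perm.mul_apply]
  have hm : A0 (x i) ≠ x i := by rw [← com]; exact fun e => (hA i hi).1 (x.injective e)
  rcases hB i (x i) hi hm with e | e | e
  · exact e
  · exfalso
    have h2 := app i
    rw [e, com, e] at h2
    exact (hA i hi).2 h2
  · exfalso
    have h2 := app i
    rw [e, com, com, e] at h2
    have h3 : A0 (A0 (A0 i)) = i := by
      rw [← Perm.mul_apply, ← Perm.mul_apply,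
        show A0 * A0 * A0 = 1 by decide +kernel, Perm.one_apply]
    rw [h3] at h2
    exact (hA i hi).1 h2

namespace Cfg.Triple

variable {K : Cfg G 9} {h9 : 9 ≤ 9} (F : Triple K h9)

theorem ia : K.Img F.a A0 := emb_self h9 A0 ▸ F.img_a
theorem ib : K.Img F.b B0 := emb_self h9 B0 ▸ F.img_b
theorem ic : K.Img F.c C0 := emb_self h9 C0 ▸ F.img_c
theorem ig : K.Img F.g G0 := emb_self h9 G0 ▸ F.img_g
theorem iT : K.Img F.T X0 := emb_self h9 X0 ▸ F.img

theorem conj_img {u x y : G} {σ α β : Perm (Fin 9)} (hu : K.Img u σ) (hx : K.Img x α)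
    (hy : K.Img y β) (hx3 : x ^ 3 = 1) (hy3 : y ^ 3 = 1) (e : σ * α * σ⁻¹ = β) :
    u * x * u⁻¹ = y :=
  Img.eq_odd (by rw [← e]; exact hu.conj hx) hy (by decide : Odd 3)
    (by rw [conj_pow, hx3, mul_one, mul_inv_cancel]) hy3

theorem exists_d : ∃ d, K.Img d D0 ∧ d ^ 3 = 1 ∧ d * F.a * d⁻¹ = F.b ∧ d * F.b * d⁻¹ = F.c ∧
    d * F.c * d⁻¹ = F.a := by
  obtain ⟨d, hd, hd3⟩ := exists_img_odd (K := K) (by decide : Odd 3) D0_facts.1
  exact ⟨d, hd, hd3, conj_img hd F.ia F.ib F.a3 F.b3 D0_facts.2.1,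
    conj_img hd F.ib F.ic F.b3 F.c3 D0_facts.2.2.1, conj_img hd F.ic F.ia F.c3 F.a3 D0_facts.2.2.2⟩

theorem exists_h : ∃ h, K.Img h H0 ∧ h * F.a * h⁻¹ = F.a ∧ h * F.b * h⁻¹ = F.c ∧ h * F.c * h⁻¹ = F.b⁻¹ ∧
    h * h * (h * h) = K.z := by
  obtain ⟨hs, e1, e2, e3, hq⟩ := H0_facts
  obtain ⟨h, hh⟩ := exists_img (K := K) hs
  exact ⟨h, hh, conj_img hh F.ia F.ia F.a3 F.a3 e1, conj_img hh F.ib F.ic F.b3 F.c3 e2,
    conj_img hh F.ic F.ib.inv F.c3 (inv3 F.b3) e3, (hh.mul hh).sq hq⟩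

/-- An odd subgroup centralizing `a b` and `f` normalized by `z` lies in the core. -/
theorem odd_le_O {f : G} (hf : f ∈ F.A) (hTf : ¬ Commute F.T f)
    (hT : ∀ x ∈ F.W, Commute x f → Commute (F.T * x * F.T⁻¹) f)
    {R : Subgroup G} (hR : Odd (Nat.card R)) (hRW : ∀ x ∈ R, Commute x (F.a * F.b) ∧ Commute x f)
    (hz : ∀ x ∈ R, K.z * x * K.z⁻¹ ∈ R) : R ≤ F.O := by
  set H := F.W ⊓ Subgroup.centralizer ({f} : Set G) with hH
  have memH : ∀ {x}, x ∈ H ↔ x ∈ F.W ∧ Commute x f := fun {x} => by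
    rw [hH, Subgroup.mem_inf, Subgroup.mem_centralizer_singleton_iff]; exact Iff.rfl
  have hfz : Commute f K.z := (F.mem_Wz.1 (F.A_le_Wz hf)).2
  have zH : K.z ∈ H := memH.2 ⟨F.z_mem.1, hfz.symm⟩
  have hiso : ∀ v ∈ H, v * v = 1 → v ≠ 1 → Commute v K.z → v = K.z := by
    intro v hv h2 h1 hvz
    obtain ⟨y, hy, e⟩ := F.Wz_cases (F.mem_Wz.2 ⟨F.mem_W.1 (memH.1 hv).1, hvz⟩)
    have hyf : Commute y f := F.A_comm hy hf
    rcases e with e | e | e | e
    · exact absurd (e ▸ F.invol_mem_A hy (e ▸ h2) : v = 1) h1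
    · have hy1 : y = 1 := F.invol_mem_A hy (by
        have := h2
        rw [e, show y * K.z * (y * K.z) = y * (K.z * y) * K.z by group,
          ← ((F.mem_Wz.1 (F.A_le_Wz hy)).2).eq, ← mul_assoc, mul_assoc (y * y), z_mul_z, mul_one] at this
        exact this)
      rw [e, hy1, one_mul]
    · refine absurd ?_ hTf
      have := hyf.inv_left.mul_left (memH.1 hv).2
      rwa [e, inv_mul_cancel_left] at this
    · refine absurd ?_ hTf
      have := (hyf.inv_left.mul_left (memH.1 hv).2).mul_left hfz.symm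
      rwa [e, inv_mul_cancel_left, mul_assoc, z_mul_z, mul_one] at this
  have conjH : ∀ u ∈ [K.z, F.T], ∀ x, x ∈ H ↔ u * x * u⁻¹ ∈ H := by
    have one : ∀ u ∈ [K.z, F.T], ∀ x ∈ H, u * x * u⁻¹ ∈ H := by
      intro u hu x hx
      simp only [List.mem_cons, List.not_mem_nil, or_false] at hu
      rcases hu with rfl | rfl
      · exact mul_mem (mul_mem zH hx) (inv_mem zH)
      · exact memH.2 ⟨mul_mem (mul_mem F.T_mem.1 (memH.1 hx).1) (inv_mem F.T_mem.1),
          hT x (memH.1 hx).1 (memH.1 hx).2⟩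
    intro u hu x
    refine ⟨one u hu x, fun h => ?_⟩
    have huu : u * u = 1 := by
      simp only [List.mem_cons, List.not_mem_nil, or_false] at hu
      rcases hu with rfl | rfl
      exacts [z_mul_z, F.sq]
    have := one u hu _ h
    rwa [SmallCent.conj_conj huu] at this
  have hCO : coreIn H ≤ F.O := by
    obtain ⟨ρ, hρ, r1, r2, r3⟩ := F.exists_rot (by norm_num)
    have hcW : coreIn H ≤ F.W := (coreIn_le H).trans inf_le_left
    have fz : ∀ x ∈ F.W, Odd (orderOf x) → Commute x K.z → x ∈ F.O := fun x hx ho hxz =>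
      F.A_le_O (F.odd_mem_A (F.mem_Wz.2 ⟨F.mem_W.1 hx, hxz⟩) ho)
    have back : ∀ {v w}, ρ * v * ρ⁻¹ = w → (∀ x ∈ F.W, Odd (orderOf x) → Commute x v → x ∈ F.O) →
        (∀ x ∈ F.W, Odd (orderOf x) → Commute x w → x ∈ F.O) := by
      intro v w h hv x hx ho hxw
      have hρW : ρ ∈ F.W := F.mem_W.2 hρ
      have e : ρ * (ρ⁻¹ * x * ρ) * ρ⁻¹ = x := by group
      rw [← e]
      refine F.conjO hρW (hv _ (mul_mem (mul_mem (inv_mem hρW) hx) hρW) ?_ ?_)
      · rw [show orderOf (ρ⁻¹ * x * ρ) = orderOf x by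
          have := MulEquiv.orderOf_eq (MulAut.conj ρ⁻¹) x
          rwa [MulAut.conj_apply, inv_inv] at this]
        exact ho
      · rw [← Commute.conj_iff ρ, e, h]; exact hxw
    have fT := back r1 fz
    have fTz := back r2 fT
    conv_lhs => rw [eq_sup_fixed (coreIn H) (coreIn_odd H) z_mul_z F.sq F.Tz.symm.eq
      (fun _ => coreIn_conj (conjH K.z (by simp))) (fun _ => coreIn_conj (conjH F.T (by simp)))]
    refine sup_le (sup_le ?_ ?_) ?_ <;> intro x hx
    · exact fz x (hcW hx.1) (odd_order_of_mem (coreIn_odd H) hx.1) (Subgroup.mem_centralizer_singleton_iff.1 hx.2)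
    · exact fT x (hcW hx.1) (odd_order_of_mem (coreIn_odd H) hx.1) (Subgroup.mem_centralizer_singleton_iff.1 hx.2)
    · refine fTz x (hcW hx.1) (odd_order_of_mem (coreIn_odd H) hx.1) ?_
      rw [show F.T * K.z = K.z * F.T from F.Tz.eq]
      exact Subgroup.mem_centralizer_singleton_iff.1 hx.2
  refine le_of_parts hR z_mul_z hz (fun x hx hxz => ?_) fun x hx hxi => ?_
  · exact F.A_le_O (F.odd_mem_A (F.mem_Wz.2 ⟨(hRW x hx).1, hxz⟩) (odd_order_of_mem hR hx))
  · exact hCO (inverted_mem_coreIn K.hz zH hiso (memH.2 ⟨F.mem_W.2 (hRW x hx).1, (hRW x hx).2⟩) hxi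
      (odd_order_of_mem hR hx))

theorem a_ne_b : F.a ≠ F.b := fun e =>
  absurd (F.ia.unique (e ▸ F.ib)) (by decide +kernel)

theorem not_T_a : ¬ Commute F.T F.a := fun h => F.a_ne_b (by
  have e := F.T_a
  rwa [h.eq, mul_inv_cancel_right] at e)

theorem not_T_c : ¬ Commute F.T F.c := fun h => by
  have e := F.T_c
  rw [h.eq, mul_inv_cancel_right] at e
  exact absurd (F.ic.unique (e.symm ▸ F.ic.inv)) (by decide +kernel)

theorem T_keeps_a : ∀ x ∈ F.W, Commute x F.a → Commute (F.T * x * F.T⁻¹) F.a := by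
  intro x hx hxa
  have hxb : Commute x F.b := by
    have := hxa.inv_right.mul_right (F.mem_W.1 hx)
    rwa [inv_mul_cancel_left] at this
  have := (Commute.conj_iff F.T).2 hxb
  rwa [F.T_b] at this

theorem T_keeps_c : ∀ x ∈ F.W, Commute x F.c → Commute (F.T * x * F.T⁻¹) F.c := by
  intro x _ hxc
  have := (Commute.conj_iff F.T).2 hxc
  rw [F.T_c] at this
  exact Commute.inv_right_iff.1 this

end Cfg.Triple

end Cfsg.Agent.Invol.TwoAn
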