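import Mathlib
import Cfsg.Agent.Lib.Invol.TwoAn.NineH

/-!
# Degree nine: the core of the centralizer of a 3-cycle lift and its 3-part
-/

set_option autoImplicit false
set_option linter.unusedSectionVars false
set_option maxRecDepth 100000

namespace Cfsg.Agent.Invol.TwoAn

open Equiv Equiv.Perm
open scoped commutatorElement

universe u

variable {G : Type u} [Group G] [Finite G]

/-- The last six points. -/
def tail6 : Fin 6 ↪ Fin 9 := ⟨fun i => ⟨i + 3, by omega⟩, fun i j h => Fin.ext (by simpa using congrArg Fin.val h)⟩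

namespace Cfg.Triple

variable {K : Cfg G 9} {h9 : 9 ≤ 9} (F : Triple K h9)

/-- The centralizer of `a`. -/
def Ca : Subgroup G := Subgroup.centralizer ({F.a} : Set G)

theorem mem_Ca {x : G} : x ∈ F.Ca ↔ Commute x F.a := Subgroup.mem_centralizer_singleton_iff

/-- The odd core of the centralizer of `a`. -/
def Oa : Subgroup G := coreIn F.Ca

theorem Oa_comm {x : G} (hx : x ∈ F.Oa) : Commute x F.a := F.mem_Ca.1 (coreIn_le _ hx)

theorem Ca_iff {u : G} (hu : Commute u F.a) (x : G) : x ∈ F.Ca ↔ u * x * u⁻¹ ∈ F.Ca := by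
  rw [F.mem_Ca, F.mem_Ca]
  conv_lhs => rw [← Commute.conj_iff u, hu.eq, mul_inv_cancel_right]

theorem Oa_conj {u : G} (hu : Commute u F.a) {x : G} (hx : x ∈ F.Oa) : u * x * u⁻¹ ∈ F.Oa :=
  coreIn_conj (F.Ca_iff hu) hx

theorem Ca_invol : ∀ v ∈ F.Ca, v * v = 1 → v ≠ 1 → Commute v K.z → v = K.z := by
  intro v hv h2 h1 hvz
  by_contra hne
  obtain ⟨σ, hσ⟩ := exists_of_mem (K := K) (mem_C.2 hvz.eq)
  obtain ⟨hσ2, m, hm, hc⟩ := exists_support hσ h2 h1 hne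
  have hcA : Commute σ A0 := (hσ.mul F.ia).unique ((F.mem_Ca.1 hv).eq.symm ▸ F.ia.mul hσ)
  have hsub : σ.support ⊆ Finset.univ.filter (fun i : Fin 9 => 3 ≤ (i : ℕ)) := fun i hi => by
    refine Finset.mem_filter.2 ⟨Finset.mem_univ _, ?_⟩
    by_contra h3
    exact mem_support.1 hi (fix_of_comm hσ2 hcA (by omega))
  have := Finset.card_le_card hsub
  rw [show (Finset.univ.filter (fun i : Fin 9 => 3 ≤ (i : ℕ))).card = 6 by decide] at this
  omega

theorem inverted_mem {j : G} (hj : Commute j F.a) (hji : K.z * j * K.z⁻¹ = j⁻¹) (ho : Odd (orderOf j)) :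
    j ∈ F.Oa :=
  inverted_mem_coreIn K.hz (F.mem_Ca.2 F.az.symm) F.Ca_invol (F.mem_Ca.2 hj) hji ho

theorem a_mem_Oa : F.a ∈ F.Oa := by
  refine le_coreIn (H := F.Ca) (N := Subgroup.zpowers F.a)
    (Subgroup.zpowers_le.2 (F.mem_Ca.2 (Commute.refl _))) ?_ ?_ (Subgroup.mem_zpowers _)
  · rintro w hw x ⟨k, rfl⟩
    rw [((F.mem_Ca.1 hw).zpow_right k).eq, mul_inv_cancel_right]
    exact ⟨k, rfl⟩
  · rw [Nat.card_zpowers]
    exact (show Odd 3 by decide).of_dvd_nat (orderOf_dvd_of_pow_eq_one F.a3)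

theorem card_za : Nat.card (Subgroup.zpowers F.a) = 3 := by
  haveI := Fact.mk Nat.prime_three
  rw [Nat.card_zpowers]
  refine orderOf_eq_prime F.a3 fun e => absurd (F.ia.unique (e ▸ Img.one)) (by decide +kernel)

theorem Oa_z {x : G} (hx : x ∈ F.Oa) (hxz : Commute x K.z) : x ∈ Subgroup.zpowers F.a := by
  obtain ⟨σ, hσ⟩ := exists_of_mem (K := K) (mem_C.2 hxz.eq)
  have hcA : Commute σ A0 := (hσ.mul F.ia).unique ((F.Oa_comm hx).eq.symm ▸ F.ia.mul hσ)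
  have com : ∀ j, σ (A0 j) = A0 (σ j) := fun j => by rw [← Perm.mul_apply, hcA.eq, Perm.mul_apply]
  obtain ⟨k, hk⟩ : ∃ k : Fin 3, σ 0 = (A0 ^ (k : ℕ)) 0 := by
    have h1 : ∀ j : Fin 9, A0 j ≠ j → ∃ k : Fin 3, j = (A0 ^ (k : ℕ)) 0 := by decide +kernel
    refine h1 _ ?_
    rw [← com]
    exact fun e => absurd (σ.injective e) (by decide +kernel)
  set x' := x * (F.a ^ (k : ℕ))⁻¹ with hx'
  set π := σ * (A0 ^ (k : ℕ))⁻¹ with hπ
  have hix : K.Img x' π := hσ.mul (F.ia.pow _).inv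
  have hx'O : x' ∈ F.Oa := mul_mem hx (inv_mem (pow_mem F.a_mem_Oa _))
  have hcA' : Commute π A0 := hcA.mul_left ((Commute.refl A0).pow_left _).inv_left
  have π0 : π 0 = 0 := by
    rw [hπ, (hcA.pow_right (k : ℕ)).inv_right.eq, Perm.mul_apply, hk, Perm.inv_def, Equiv.symm_apply_apply]
  have com' : ∀ j, π (A0 j) = A0 (π j) := fun j => by rw [← Perm.mul_apply, hcA'.eq, Perm.mul_apply]
  have π1 : π 1 = 1 := by
    rw [show (1 : Fin 9) = A0 0 by decide +kernel, com', π0]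
  have π2 : π 2 = 2 := by
    rw [show (2 : Fin 9) = A0 1 by decide +kernel, com', π1]
  have hfix : ∀ i : Fin 9, (i : ℕ) < 3 → π i = i := fun i hi => by
    rcases (by decide : ∀ i : Fin 9, (i : ℕ) < 3 → i = 0 ∨ i = 1 ∨ i = 2) i hi with rfl | rfl | rfl <;> assumption
  have mem_range : ∀ i : Fin 9, i ∈ Set.range tail6 ↔ 3 ≤ (i : ℕ) := fun i =>
    ⟨fun ⟨j, hj⟩ => by rw [← hj]; exact Nat.le_add_left 3 j,
      fun h => ⟨⟨i - 3, by omega⟩, Fin.ext (show (i : ℕ) - 3 + 3 = i by omega)⟩⟩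
  have hpres : π ∈ presRange tail6 := by
    intro i
    rw [mem_range, mem_range]
    refine ⟨fun h => ?_, fun h => ?_⟩ <;> by_contra hlt
    · rw [hfix i (by omega)] at h; omega
    · have := π.injective (hfix (π i) (by omega)); rw [this] at hlt; omega
  set π' := resHom tail6 ⟨π, hpres⟩ with hπ'
  have hvia : π = Perm.viaEmbeddingHom tail6 π' := by
    refine Equiv.ext fun i => ?_
    rw [Perm.viaEmbeddingHom_apply]
    by_cases hi : i ∈ Set.range tail6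
    · obtain ⟨j, rfl⟩ := hi
      rw [Perm.viaEmbedding_apply, hπ', resHom_apply]
    · rw [Perm.viaEmbedding_apply_of_notMem _ _ _ hi]
      exact hfix i (by by_contra h3; exact hi ((mem_range i).2 (by omega)))
  have hsgn : ∀ τ' : Perm (Fin 6), sign (Perm.viaEmbeddingHom tail6 τ') = sign τ' := fun τ' => by
    rw [Perm.viaEmbeddingHom_apply, Lie.Carmichael.sign_viaEmbedding]
  -- the permutations of the last six points coming from the core
  let R : Subgroup (Perm (Fin 6)) :=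
    { carrier := {τ' | ∃ y ∈ F.Oa, K.Img y (Perm.viaEmbeddingHom tail6 τ')}
      one_mem' := ⟨1, one_mem _, by rw [map_one]; exact Img.one⟩
      mul_mem' := fun ⟨y, hy, h⟩ ⟨w, hw, h'⟩ => ⟨y * w, mul_mem hy hw, by rw [map_mul]; exact h.mul h'⟩
      inv_mem' := fun ⟨y, hy, h⟩ => ⟨y⁻¹, inv_mem hy, by rw [map_inv]; exact h.inv⟩ }
  have hA : ∀ j : Fin 9, 3 ≤ (j : ℕ) → A0 j = j := by decide +kernel
  have hA' : ∀ j : Fin 9, ¬ 3 ≤ (j : ℕ) → ¬ 3 ≤ (A0 j : ℕ) := by decide +kernel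
  haveI hN : (R.subgroupOf (alternatingGroup (Fin 6))).Normal := by
    refine ⟨?_⟩
    rintro τ' ⟨y, hy, hiy⟩ w
    obtain ⟨u, hu⟩ := exists_img (K := K) (σ := Perm.viaEmbeddingHom tail6 (w : Perm (Fin 6)))
      (by rw [hsgn]; exact Perm.mem_alternatingGroup.1 w.2)
    have hua : Commute u F.a := by
      refine (F.ia.commute_odd hu ?_ (by decide : Odd 3) F.a3).symm
      refine Equiv.ext fun j => ?_
      rw [Perm.mul_apply, Perm.mul_apply, Perm.viaEmbeddingHom_apply]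
      by_cases hj : j ∈ Set.range tail6
      · obtain ⟨j, rfl⟩ := hj
        rw [Perm.viaEmbedding_apply, hA _ (Nat.le_add_left 3 _), hA _ (Nat.le_add_left 3 _),
          Perm.viaEmbedding_apply]
      · rw [mem_range] at hj
        rw [Perm.viaEmbedding_apply_of_notMem _ _ _ (by rw [mem_range]; exact hj),
          Perm.viaEmbedding_apply_of_notMem _ _ _ (by rw [mem_range]; exact hA' j hj)]
    refine ⟨u * y * u⁻¹, F.Oa_conj hua hy, ?_⟩
    simp only [Subgroup.coe_subtype, Subgroup.coe_mul, InvMemClass.coe_inv, map_mul, map_inv]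
    exact hu.conj hiy
  haveI : IsSimpleGroup (alternatingGroup (Fin 6)) := alternatingGroup.isSimpleGroup (by simp)
  have hπA : π' ∈ alternatingGroup (Fin 6) := by
    rw [Perm.mem_alternatingGroup, ← hsgn, ← hvia]; exact hix.sign_eq
  have hπR : π' ∈ R := ⟨x', hx'O, hvia ▸ hix⟩
  have hπ1 : π' = 1 := by
    rcases IsSimpleGroup.eq_bot_or_eq_top_of_normal _ hN with h | h
    · have h1 : (⟨π', hπA⟩ : alternatingGroup (Fin 6)) ∈ R.subgroupOf _ := hπR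
      rw [h, Subgroup.mem_bot] at h1
      exact congrArg Subtype.val h1
    · exfalso
      have hq : (swap (0 : Fin 6) 1 * swap 2 3) ∈ alternatingGroup (Fin 6) := by
        rw [Perm.mem_alternatingGroup]; decide +kernel
      obtain ⟨y, hy, hiy⟩ : (⟨_, hq⟩ : alternatingGroup (Fin 6)) ∈ R.subgroupOf (alternatingGroup (Fin 6)) :=
        h ▸ Subgroup.mem_top _
      have hquad : IsQuad (Perm.viaEmbeddingHom tail6 (swap (0 : Fin 6) 1 * swap 2 3)) := by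
        have e : Perm.viaEmbeddingHom tail6 (swap (0 : Fin 6) 1 * swap 2 3) = swap (3 : Fin 9) 4 * swap 5 6 := by
          rw [map_mul, Perm.viaEmbeddingHom_apply, Perm.viaEmbeddingHom_apply, Lie.Carmichael.via_swap,
            Lie.Carmichael.via_swap]
          rfl
        rw [e]; exact ⟨by decide +kernel, by decide +kernel⟩
      have h2 := hiy.sq hquad
      have ho := odd_order_of_mem (coreIn_odd F.Ca) (mul_mem hy hy)
      rw [h2, K.hz] at ho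
      exact absurd ho (by decide)
  rw [hπ1, map_one] at hvia
  rw [hvia] at hix
  rcases hix.eq_or with e | e
  · rw [hx', mul_inv_eq_one] at e
    rw [e]; exact Subgroup.pow_mem _ (Subgroup.mem_zpowers _) _
  · exfalso
    have := odd_order_of_mem (coreIn_odd F.Ca) hx'O
    rw [e, K.hz] at this
    exact absurd this (by decide)

theorem za_comm {x d : G} (hx : Commute x F.a) (hd : d ∈ Subgroup.zpowers F.a) : Commute x d := by
  obtain ⟨k, rfl⟩ := hd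
  exact hx.zpow_right k

theorem za_z {d : G} (hd : d ∈ Subgroup.zpowers F.a) : K.z * d * K.z⁻¹ = d := by
  rw [(F.za_comm F.az.symm hd).eq, mul_inv_cancel_right]

theorem psi {x : G} (hx : x ∈ F.Oa) : x * (K.z * x * K.z⁻¹) ∈ Subgroup.zpowers F.a := by
  let L : Subgroup G := F.Oa
  have key : ∀ y ∈ F.Oa, Commute y K.z → y * (K.z * y * K.z⁻¹) ∈ Subgroup.zpowers F.a := fun y hy hyz => by
    rw [← hyz.eq, mul_inv_cancel_right]
    exact mul_mem (F.Oa_z hy hyz) (F.Oa_z hy hyz)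
  set x' := K.z * x * K.z⁻¹ with hx'
  set y := x'⁻¹ * x with hy'
  have hyO : y ∈ F.Oa := mul_mem (inv_mem (F.Oa_conj F.az.symm hx)) hx
  have hR := coreIn_odd F.Ca
  set i := SmallCent.sqr F.Oa y with hi
  have hiO : i ∈ F.Oa := SmallCent.sqr_mem hyO
  have hii : i * i = x'⁻¹ * x := SmallCent.sqr_mul_self hR hyO
  have hxx : K.z * x' * K.z⁻¹ = x := SmallCent.conj_conj z_mul_z x
  have hzi : K.z * i * K.z⁻¹ = i⁻¹ := by
    rw [hi, SmallCent.conj_sqr]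
    refine (SmallCent.eq_sqr hR (inv_mem hiO) ?_).symm
    calc i⁻¹ * i⁻¹ = (i * i)⁻¹ := (mul_inv_rev i i).symm
      _ = x⁻¹ * x' := by rw [hii, mul_inv_rev, inv_inv]
      _ = (K.z * x' * K.z⁻¹)⁻¹ * (K.z * x * K.z⁻¹) := by rw [hxx]
      _ = K.z * y * K.z⁻¹ := by rw [hy']; group
  have hc : Commute (x * i⁻¹) K.z := by
    refine (mul_inv_eq_iff_eq_mul.1 (?_ : K.z * (x * i⁻¹) * K.z⁻¹ = x * i⁻¹)).symm
    calc K.z * (x * i⁻¹) * K.z⁻¹ = x' * (K.z * i * K.z⁻¹)⁻¹ := by rw [hx']; group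
      _ = x' * (i * i) * i⁻¹ := by rw [hzi]; group
      _ = x * i⁻¹ := by rw [hii]; group
  set c := x * i⁻¹ with hc'
  have hcO : c ∈ F.Oa := mul_mem hx (inv_mem hiO)
  have hca := F.Oa_z hcO hc
  have e : x * x' = c * c := by
    have hx1 : x = c * i := by rw [hc', inv_mul_cancel_right]
    have hx2 : x' = c * i⁻¹ := by
      rw [hx', hx1, show K.z * (c * i) * K.z⁻¹ = K.z * c * K.z⁻¹ * (K.z * i * K.z⁻¹) by group, hzi, F.za_z hca]
    rw [hx2]
    conv_lhs => rw [hx1]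
    rw [show c * i * (c * i⁻¹) = c * (i * c) * i⁻¹ by group, (F.za_comm (F.Oa_comm hiO) hca).eq]
    group
  rw [e]; exact mul_mem hca hca

theorem z_inverts {x : G} (hx : x ∈ F.Oa) :
    ∃ d ∈ Subgroup.zpowers F.a, K.z * x * K.z⁻¹ = x⁻¹ * d :=
  ⟨_, F.psi hx, (inv_mul_cancel_left x _).symm⟩

theorem comm_Oa {x y : G} (hx : x ∈ F.Oa) (hy : y ∈ F.Oa) : ⁅x, y⁆ ∈ Subgroup.zpowers F.a := by
  obtain ⟨d, hd, ed⟩ := F.z_inverts hx
  obtain ⟨d', hd', ed'⟩ := F.z_inverts hy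
  obtain ⟨d'', hd'', ed''⟩ := F.z_inverts (mul_mem hx hy)
  have e : y⁻¹ * x⁻¹ * d'' = x⁻¹ * y⁻¹ * (d * d') := by
    calc y⁻¹ * x⁻¹ * d'' = K.z * (x * y) * K.z⁻¹ := by rw [ed'']; group
      _ = (K.z * x * K.z⁻¹) * (K.z * y * K.z⁻¹) := by group
      _ = x⁻¹ * (d * y⁻¹) * d' := by rw [ed, ed']; group
      _ = _ := by rw [← (F.za_comm (F.Oa_comm hy).inv_left hd).eq]; group
  have e' : ⁅y⁻¹, x⁻¹⁆ = d * d' * d''⁻¹ := by
    calc ⁅y⁻¹, x⁻¹⁆ = y⁻¹ * x⁻¹ * d'' * d''⁻¹ * y * x := by rw [commutatorElement_def]; group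
      _ = x⁻¹ * y⁻¹ * (d * d' * d''⁻¹) * (y * x) := by rw [e]; group
      _ = _ := by
        rw [mul_assoc (x⁻¹ * y⁻¹), ← (F.za_comm ((F.Oa_comm hy).mul_left (F.Oa_comm hx))
          (mul_mem (mul_mem hd hd') (inv_mem hd''))).eq]
        group
  have hmem : d * d' * d''⁻¹ ∈ Subgroup.zpowers F.a := mul_mem (mul_mem hd hd') (inv_mem hd'')
  have e2 : ⁅x, y⁆ = (x * y) * ⁅y⁻¹, x⁻¹⁆⁻¹ * (x * y)⁻¹ := by simp only [commutatorElement_def]; group
  rw [e2, e', (F.za_comm ((F.Oa_comm hx).mul_left (F.Oa_comm hy)) (inv_mem hmem)).eq, mul_inv_cancel_right]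
  exact inv_mem hmem

theorem za_cube {d : G} (hd : d ∈ Subgroup.zpowers F.a) : d ^ 3 = 1 := by
  obtain ⟨k, rfl⟩ := hd
  show (F.a ^ k) ^ 3 = 1
  rw [← zpow_natCast, ← zpow_mul, mul_comm, zpow_mul, zpow_natCast, F.a3, one_zpow]

/-- The elements of the core whose cube is a power of `a`. -/
def Om : Subgroup G where
  carrier := {m | m ∈ F.Oa ∧ m ^ 3 ∈ Subgroup.zpowers F.a}
  one_mem' := ⟨one_mem _, by rw [one_pow]; exact one_mem _⟩
  mul_mem' := fun {x y} ⟨hx, hx3⟩ ⟨hy, hy3⟩ => ⟨mul_mem hx hy, by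
    have hk := F.comm_Oa hy hx
    rw [cube_mul (F.za_comm (F.Oa_comm hx) hk).symm (F.za_comm (F.Oa_comm hy) hk).symm, F.za_cube hk, one_mul]
    exact mul_mem hx3 hy3⟩
  inv_mem' := fun {x} ⟨hx, hx3⟩ => ⟨inv_mem hx, by rw [inv_pow]; exact inv_mem hx3⟩

theorem mem_Om {x : G} : x ∈ F.Om ↔ x ∈ F.Oa ∧ x ^ 3 ∈ Subgroup.zpowers F.a := Iff.rfl

theorem Om_le : F.Om ≤ F.Oa := fun _ h => h.1

theorem za_le_Om : Subgroup.zpowers F.a ≤ F.Om := fun d hd =>
  ⟨(Subgroup.zpowers_le.2 F.a_mem_Oa) hd, by rw [F.za_cube hd]; exact one_mem _⟩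

theorem Om_odd : Odd (Nat.card F.Om) := (coreIn_odd F.Ca).of_dvd_nat (Subgroup.card_dvd_of_le F.Om_le)

theorem Om_conj {u : G} (hu : Commute u F.a) {x : G} (hx : x ∈ F.Om) : u * x * u⁻¹ ∈ F.Om := by
  refine ⟨F.Oa_conj hu hx.1, ?_⟩
  rw [conj_pow, (F.za_comm hu hx.2).eq, mul_inv_cancel_right]
  exact hx.2

theorem Om_conj_iff {u : G} (hu : Commute u F.a) (x : G) : x ∈ F.Om ↔ u * x * u⁻¹ ∈ F.Om :=
  ⟨F.Om_conj hu, fun h => by
    have := F.Om_conj hu.inv_left h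
    rwa [show u⁻¹ * (u * x * u⁻¹) * u⁻¹⁻¹ = x by group] at this⟩

/-- Fixed modulo `a` is fixed. -/
theorem fixed_of_mod {m u : G} (hm : m ∈ F.Oa) (huz : Commute u K.z) (hua : Commute u F.a)
    (h : ⁅m, u⁆ ∈ Subgroup.zpowers F.a) : Commute m u := by
  obtain ⟨d, hd, ed⟩ := F.z_inverts hm
  set c := ⁅m, u⁆ with hc
  have hcm : Commute m c := F.za_comm (F.Oa_comm hm) h
  have hdu : Commute u d := F.za_comm hua hd
  have e : c = c⁻¹ := by
    calc c = K.z * c * K.z⁻¹ := (F.za_z h).symm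
      _ = ⁅K.z * m * K.z⁻¹, K.z * u * K.z⁻¹⁆ := by simp only [hc, commutatorElement_def]; group
      _ = m⁻¹ * (d * u) * d⁻¹ * m * u⁻¹ := by
        rw [ed, ← huz.eq, mul_inv_cancel_right, commutatorElement_def]; group
      _ = m⁻¹ * c⁻¹ * m := by rw [← hdu.eq, hc, commutatorElement_def]; group
      _ = c⁻¹ := by rw [mul_assoc, ← (hcm.inv_right).eq, inv_mul_cancel_left]
  refine commutatorElement_eq_one_iff_mul_comm.1 (eq_one_of_odd_sq (H := Subgroup.zpowers F.a)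
    (by rw [F.card_za]; decide) h ?_)
  show c * c = 1
  nth_rw 1 [e]; exact inv_mul_cancel c

theorem delta_mem {u x : G} (hua : Commute u F.a) (hx : x ∈ F.Om) : ⁅x, u⁆ ∈ F.Om := by
  rw [show ⁅x, u⁆ = x * (u * x⁻¹ * u⁻¹) by simp only [commutatorElement_def]; group]
  exact mul_mem hx (F.Om_conj hua (inv_mem hx))

/-- Three steps of commutators with `b` reach the powers of `a`. -/
theorem delta_three {m : G} (hm : m ∈ F.Om) : ⁅⁅⁅m, F.b⁆, F.b⁆, F.b⁆ ∈ Subgroup.zpowers F.a := by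
  haveI hN : ((Subgroup.zpowers F.a).subgroupOf F.Om).Normal := ⟨fun x hx g => by
    show ((g : G) * x * (g : G)⁻¹) ∈ Subgroup.zpowers F.a
    rw [(F.za_comm (x := (g : G)) (d := (x : G)) (F.Oa_comm g.2.1) hx).eq, mul_inv_cancel_right]; exact hx⟩
  let Q := ↥F.Om ⧸ (Subgroup.zpowers F.a).subgroupOf F.Om
  have hb : Commute F.b F.a := F.ab.symm
  let q : ↥F.Om →* Q := QuotientGroup.mk' _
  let p : ↥F.Om → ↥F.Om := fun x => ⟨F.b * x * F.b⁻¹, F.Om_conj hb x.2⟩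
  let δ : ↥F.Om → ↥F.Om := fun x => ⟨⁅(x : G), F.b⁆, F.delta_mem hb x.2⟩
  have one : ∀ {x : ↥F.Om}, q x = 1 ↔ (x : G) ∈ Subgroup.zpowers F.a := fun {x} => QuotientGroup.eq_one_iff x
  have comm : ∀ x y : ↥F.Om, Commute (q x) (q y) := fun x y => by
    refine commutatorElement_eq_one_iff_mul_comm.1 ?_
    rw [← map_commutatorElement]
    exact one.2 (F.comm_Oa x.2.1 y.2.1)
  have cube : ∀ x : ↥F.Om, q x ^ 3 = 1 := fun x => by rw [← map_pow]; exact one.2 x.2.2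
  have hδ : ∀ x, q (δ x) = q x * (q (p x))⁻¹ := fun x => by
    rw [← map_inv, ← map_mul]
    refine congrArg q (Subtype.ext ?_)
    show ⁅(x : G), F.b⁆ = x * (F.b * x * F.b⁻¹)⁻¹
    rw [commutatorElement_def]; group
  have hpδ : ∀ x, q (p (δ x)) = q (p x) * (q (p (p x)))⁻¹ := fun x => by
    rw [← hδ]
    refine congrArg q (Subtype.ext ?_)
    show F.b * ⁅(x : G), F.b⁆ * F.b⁻¹ = ⁅F.b * x * F.b⁻¹, F.b⁆
    simp only [commutatorElement_def]; group
  have hp3 : ∀ x, q (p (p (p x))) = q x := fun x => congrArg q (Subtype.ext (by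
    show F.b * (F.b * (F.b * x * F.b⁻¹) * F.b⁻¹) * F.b⁻¹ = x
    calc _ = F.b ^ 3 * x * (F.b ^ 3)⁻¹ := by simp [pow_succ, mul_assoc]
      _ = x := by rw [F.b3]; group))
  set x : ↥F.Om := ⟨m, hm⟩
  refine one.1 (show q (δ (δ (δ x))) = 1 from ?_)
  have e3 : q (p (p (δ x))) = q (p (p x)) * (q x)⁻¹ := by
    have h := hpδ x
    calc q (p (p (δ x))) = q (p (δ (p x))) := congrArg (fun w => q (p w)) (Subtype.ext (by
          show F.b * ⁅(x : G), F.b⁆ * F.b⁻¹ = ⁅F.b * x * F.b⁻¹, F.b⁆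
          simp only [commutatorElement_def]; group))
      _ = q (p (p x)) * (q (p (p (p x))))⁻¹ := hpδ _
      _ = _ := by rw [hp3]
  rw [hδ (δ (δ x)), hpδ (δ x), hδ (δ x), hpδ x, e3, hδ x]
  set A := q x
  set B := q (p x)
  set C := q (p (p x))
  have hAB : Commute A B := comm _ _
  have hAC : Commute A C := comm _ _
  have hBC : Commute B C := comm _ _
  have hC3 : C ^ 3 = 1 := cube _
  have hB3 : B ^ 3 = 1 := cube _
  calc A * B⁻¹ * (B * C⁻¹)⁻¹ * (B * C⁻¹ * (C * A⁻¹)⁻¹)⁻¹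
      = A * (B⁻¹ * C) * B⁻¹ * C * A⁻¹ * (C * B⁻¹) := by group
    _ = A * (C * B⁻¹) * B⁻¹ * C * A⁻¹ * (C * B⁻¹) := by rw [(hBC.inv_left).eq]
    _ = A * C * (B⁻¹ * B⁻¹) * C * A⁻¹ * C * B⁻¹ := by group
    _ = A * C * (C * (B⁻¹ * B⁻¹)) * A⁻¹ * C * B⁻¹ := by rw [mul_assoc (A * C), (hBC.inv_left.mul_left hBC.inv_left).eq]
    _ = A * (C * C) * (B⁻¹ * B⁻¹) * A⁻¹ * C * B⁻¹ := by group
    _ = A * (C * C) * (A⁻¹ * (B⁻¹ * B⁻¹)) * C * B⁻¹ := by
        rw [mul_assoc (A * (C * C)), ((hAB.symm.inv_left.mul_left hAB.symm.inv_left).inv_right).eq]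
    _ = A * (A⁻¹ * (C * C)) * ((B⁻¹ * B⁻¹) * C) * B⁻¹ := by
        rw [show A * (C * C) * (A⁻¹ * (B⁻¹ * B⁻¹)) = A * ((C * C) * A⁻¹) * (B⁻¹ * B⁻¹) by group,
          ((hAC.symm.mul_left hAC.symm).inv_right).eq]
        group
    _ = (C * C) * (C * (B⁻¹ * B⁻¹)) * B⁻¹ := by rw [(hBC.inv_left.mul_left hBC.inv_left).eq]; group
    _ = C ^ 3 * (B ^ 3)⁻¹ := by simp [pow_succ, mul_assoc]
    _ = 1 := by rw [hC3, hB3, inv_one, one_mul]

/-- One step of the chain. -/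
theorem card_step {P Q : Subgroup G} (hP : P ≤ F.Om) (hQ : Q ≤ F.Om) (ha : Subgroup.zpowers F.a ≤ Q)
    (h : ∀ m ∈ P, ⁅m, F.b⁆ ∈ Q) :
    3 * Nat.card P ≤ Nat.card ↥(F.Om ⊓ Subgroup.centralizer ({F.b} : Set G)) * Nat.card Q := by
  haveI hN : ((Subgroup.zpowers F.a).subgroupOf Q).Normal := ⟨fun x hx g => by
    show ((g : G) * x * (g : G)⁻¹) ∈ Subgroup.zpowers F.a
    rw [(F.za_comm (x := (g : G)) (d := (x : G)) (F.Oa_comm (hQ g.2).1) hx).eq, mul_inv_cancel_right]; exact hx⟩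
  have hb : Commute F.b F.a := F.ab.symm
  let q := QuotientGroup.mk' ((Subgroup.zpowers F.a).subgroupOf Q)
  let φ : ↥P →* ↥Q ⧸ (Subgroup.zpowers F.a).subgroupOf Q :=
    MonoidHom.mk' (fun m => q ⟨⁅(m : G), F.b⁆, h m m.2⟩) fun m m' => by
      rw [← map_mul]
      refine (QuotientGroup.eq).2 ?_
      show (⁅((m * m' : ↥P) : G), F.b⁆)⁻¹ * (⁅(m : G), F.b⁆ * ⁅(m' : G), F.b⁆) ∈ Subgroup.zpowers F.a
      have e : ⁅((m * m' : ↥P) : G), F.b⁆ = ⁅(m : G), ⁅(m' : G), F.b⁆⁆ * ⁅(m' : G), F.b⁆ * ⁅(m : G), F.b⁆ := by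
        simp only [Subgroup.coe_mul, commutatorElement_def]; group
      set u := ⁅(m : G), F.b⁆
      set v := ⁅(m' : G), F.b⁆
      have hu := F.delta_mem hb (hP m.2)
      have hv := F.delta_mem hb (hP m'.2)
      have hk := F.comm_Oa (hP m.2).1 hv.1
      rw [e, show (⁅(m : G), v⁆ * v * u)⁻¹ * (u * v) = u⁻¹ * v⁻¹ * ⁅(m : G), v⁆⁻¹ * v⁻¹⁻¹ * u⁻¹⁻¹ * ⁅u⁻¹, v⁻¹⁆ by
        simp only [commutatorElement_def]; group]
      refine mul_mem ?_ (F.comm_Oa (inv_mem hu.1) (inv_mem hv.1))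
      rw [show u⁻¹ * v⁻¹ * ⁅(m : G), v⁆⁻¹ * v⁻¹⁻¹ * u⁻¹⁻¹ = (u⁻¹ * v⁻¹) * ⁅(m : G), v⁆⁻¹ * (u⁻¹ * v⁻¹)⁻¹ by group,
        (F.za_comm ((F.Oa_comm hu.1).inv_left.mul_left (F.Oa_comm hv.1).inv_left) (inv_mem hk)).eq,
        mul_inv_cancel_right]
      exact inv_mem hk
  have hker : Nat.card φ.ker ≤ Nat.card ↥(F.Om ⊓ Subgroup.centralizer ({F.b} : Set G)) := by
    have hm : ∀ x : ↥φ.ker, ⁅((x : ↥P) : G), F.b⁆ ∈ Subgroup.zpowers F.a := fun x =>
      (QuotientGroup.eq_one_iff (⟨⁅((x : ↥P) : G), F.b⁆, h _ x.1.2⟩ : ↥Q)).1 (MonoidHom.mem_ker.1 x.2)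
    refine Nat.card_le_card_of_injective (fun x : ↥φ.ker => (⟨((x : ↥P) : G), hP x.1.2,
      Subgroup.mem_centralizer_singleton_iff.2
      (F.fixed_of_mod (hP x.1.2).1 F.bz hb (hm x))⟩ : ↥(F.Om ⊓ Subgroup.centralizer ({F.b} : Set G))))
      fun x y e => Subtype.ext (Subtype.ext (congrArg Subtype.val e :))
  have hrange : 3 * Nat.card φ.range ≤ Nat.card Q := by
    have h1 := Subgroup.card_eq_card_quotient_mul_card_subgroup ((Subgroup.zpowers F.a).subgroupOf Q)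
    rw [Nat.card_congr (Subgroup.subgroupOfEquivOfLe ha).toEquiv, F.card_za] at h1
    have h2 := Subgroup.card_le_card_group φ.range
    omega
  have h3 := φ.ker.card_mul_index
  rw [Subgroup.index_ker] at h3
  calc 3 * Nat.card P = Nat.card φ.ker * (3 * Nat.card φ.range) := by rw [← h3]; ring
    _ ≤ _ := Nat.mul_le_mul hker hrange

/-- The preimage of a subgroup under the commutator with `b`. -/
def pre (Q : Subgroup G) (hQ : Subgroup.zpowers F.a ≤ Q) : Subgroup G where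
  carrier := {m | m ∈ F.Om ∧ ⁅m, F.b⁆ ∈ Q}
  one_mem' := ⟨one_mem _, by rw [commutatorElement_one_left]; exact one_mem _⟩
  mul_mem' := fun {x y} ⟨hx, hx'⟩ ⟨hy, hy'⟩ => ⟨mul_mem hx hy, by
    rw [show ⁅x * y, F.b⁆ = ⁅x, ⁅y, F.b⁆⁆ * ⁅y, F.b⁆ * ⁅x, F.b⁆ by simp only [commutatorElement_def]; group]
    exact mul_mem (mul_mem (hQ (F.comm_Oa hx.1 (F.delta_mem F.ab.symm hy).1)) hy') hx'⟩
  inv_mem' := fun {x} ⟨hx, hx'⟩ => ⟨inv_mem hx, by
    rw [show ⁅x⁻¹, F.b⁆ = ⁅x⁻¹, ⁅x, F.b⁆⁻¹⁆ * ⁅x, F.b⁆⁻¹ by simp only [commutatorElement_def]; group]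
    exact mul_mem (hQ (F.comm_Oa (inv_mem hx.1) (inv_mem (F.delta_mem F.ab.symm hx).1))) (inv_mem hx')⟩

theorem za_le_Cb : Subgroup.zpowers F.a ≤ F.Om ⊓ Subgroup.centralizer ({F.b} : Set G) := fun _ hd =>
  ⟨F.za_le_Om hd, Subgroup.mem_centralizer_singleton_iff.2 (F.za_comm F.ab.symm hd).symm⟩

/-- The first preimage. -/
def P1 : Subgroup G := F.pre (F.Om ⊓ Subgroup.centralizer ({F.b} : Set G)) F.za_le_Cb

theorem mem_P1 {m : G} : m ∈ F.P1 ↔ m ∈ F.Om ∧ ⁅m, F.b⁆ ∈ F.Om ⊓ Subgroup.centralizer ({F.b} : Set G) := Iff.rfl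

theorem za_le_P1 : Subgroup.zpowers F.a ≤ F.P1 := fun d hd => F.mem_P1.2 ⟨F.za_le_Om hd, by
  rw [commutatorElement_eq_one_iff_mul_comm.2 (F.za_comm F.ab.symm hd).eq.symm]; exact one_mem _⟩

theorem P1_chain {m : G} (hm : m ∈ F.Om) : ⁅m, F.b⁆ ∈ F.P1 := by
  have h := F.delta_mem F.ab.symm hm
  have h2 := F.delta_mem F.ab.symm h
  exact F.mem_P1.2 ⟨h, h2, Subgroup.mem_centralizer_singleton_iff.2
    (F.fixed_of_mod h2.1 F.bz F.ab.symm (F.delta_three hm)).eq⟩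

/-- The upper bound. -/
theorem card_Om_le : 9 * Nat.card F.Om ≤
    Nat.card ↥(F.Om ⊓ Subgroup.centralizer ({F.b} : Set G)) ^ 3 := by
  have h1 := F.card_step le_rfl (fun x h => (F.mem_P1.1 h).1) F.za_le_P1 fun m hm => F.P1_chain hm
  have h2 := F.card_step (P := F.P1) (fun x h => (F.mem_P1.1 h).1) inf_le_left F.za_le_Cb fun m hm => (F.mem_P1.1 hm).2
  set X := Nat.card ↥(F.Om ⊓ Subgroup.centralizer ({F.b} : Set G))
  calc 9 * Nat.card F.Om = 3 * (3 * Nat.card F.Om) := by ring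
    _ ≤ X * (3 * Nat.card F.P1) := by
        rw [show X * (3 * Nat.card F.P1) = 3 * (X * Nat.card F.P1) by ring]; exact Nat.mul_le_mul_left 3 h1
    _ ≤ X * (X * X) := Nat.mul_le_mul_left X h2
    _ = X ^ 3 := by ring

/-- The lower bound. -/
theorem card_Om_ge {u w : G} (hwz : Commute w K.z) (hwa : Commute w F.a)
    (hq : ∃ v ∈ Subgroup.closure ({u, w * u * w⁻¹} : Set G), v * v = K.z) :
    Nat.card ↥(F.Om ⊓ Subgroup.centralizer ({u} : Set G)) ^ 2 ≤ 3 * Nat.card F.Om := by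
  set X := F.Om ⊓ Subgroup.centralizer ({u} : Set G)
  set Y := F.Om ⊓ Subgroup.centralizer ({w * u * w⁻¹} : Set G)
  have hXY : Nat.card X = Nat.card Y := card_conj_eq w fun x => by
    rw [Subgroup.mem_inf, Subgroup.mem_inf, ← F.Om_conj_iff hwa, Subgroup.mem_centralizer_singleton_iff,
      Subgroup.mem_centralizer_singleton_iff]
    exact and_congr_right fun _ => (Commute.conj_iff w).symm
  have hinf : X ⊓ Y ≤ Subgroup.zpowers F.a := by
    intro x hx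
    have hc : Subgroup.closure ({u, w * u * w⁻¹} : Set G) ≤ Subgroup.centralizer ({x} : Set G) := by
      rw [Subgroup.closure_le]
      rintro y (rfl | rfl)
      · exact Subgroup.mem_centralizer_singleton_iff.2 (Subgroup.mem_centralizer_singleton_iff.1 hx.1.2).symm
      · exact Subgroup.mem_centralizer_singleton_iff.2 (Subgroup.mem_centralizer_singleton_iff.1 hx.2.2).symm
    obtain ⟨v, hv, hvv⟩ := hq
    have hz : Commute K.z x := hvv ▸
      (show Commute (v * v) x from Subgroup.mem_centralizer_singleton_iff.1 (mul_mem (hc hv) (hc hv)))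
    exact F.Oa_z hx.1.1.1 hz.symm
  have h := card_mul_le (L := F.Om) (X := X) (Y := Y) inf_le_left inf_le_left
  rw [← hXY] at h
  have h3 : Nat.card ↥(X ⊓ Y) ≤ 3 := F.card_za ▸ Subgroup.card_le_of_le hinf
  calc Nat.card X ^ 2 = Nat.card X * Nat.card X := pow_two _
    _ ≤ Nat.card F.Om * Nat.card ↥(X ⊓ Y) := h
    _ ≤ 3 * Nat.card F.Om := by rw [mul_comm 3]; exact Nat.mul_le_mul_left _ h3

end Cfg.Triple

end Cfsg.Agent.Invol.TwoAn
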