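import Mathlib
import Cfsg.Agent.Lib.Invol.TwoAn.NineM

/-!
# Degree nine: the first case excluded, the second bounded
-/

set_option autoImplicit false
set_option linter.unusedSectionVars false
set_option maxRecDepth 100000

namespace Cfsg.Agent.Invol.TwoAn

open Equiv Equiv.Perm
open scoped commutatorElement

universe u

variable {G : Type u} [Group G] [Finite G]

/-- Moves the first of two double 3-cycles. -/
def W1 : Perm (Fin 9) := swap 4 6 * swap 5 7
/-- Moves one 3-cycle. -/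
def W2 : Perm (Fin 9) := swap 5 6 * swap 7 8

theorem W1_facts : sign W1 = 1 ∧ Commute W1 A0 ∧ IsQuad (W1 * (B0 * C0) * W1⁻¹ * (B0 * C0)⁻¹) :=
  ⟨by decide +kernel, (show W1 * A0 = A0 * W1 by decide +kernel), by decide +kernel, by decide +kernel⟩

theorem W2_facts : sign W2 = 1 ∧ Commute W2 A0 ∧ IsQuad (W2 * B0 * W2⁻¹ * B0) :=
  ⟨by decide +kernel, (show W2 * A0 = A0 * W2 by decide +kernel), by decide +kernel, by decide +kernel⟩

namespace Cfg.Triple

variable {K : Cfg G 9} {h9 : 9 ≤ 9} (F : Triple K h9)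

theorem zO {x : G} (hx : x ∈ F.O) : K.z * x * K.z⁻¹ ∈ F.O := F.conjO F.z_mem.1 hx

theorem card_inverted_O : Nat.card (SmallCent.inverted F.O K.z) = 81 := by
  have h := SmallCent.card_eq_fixed_mul_inverted F.O F.O_odd z_mul_z (fun _ => F.zO)
  rw [F.O_z, F.card_A, F.card_O] at h
  omega

theorem inverted_Om {j : G} (hj3 : j ^ 3 = 1) (hja : Commute j F.a) (hji : K.z * j * K.z⁻¹ = j⁻¹) : j ∈ F.Om :=
  ⟨F.inverted_mem hja hji ((show Odd 3 by decide).of_dvd_nat (orderOf_dvd_of_pow_eq_one hj3)),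
    by rw [hj3]; exact one_mem _⟩

/-- At most a multiple of three times the inverted elements. -/
theorem card_le_of_inv {R : Subgroup G} (hR : R ≤ F.Oa) (hz : ∀ x ∈ R, K.z * x * K.z⁻¹ ∈ R) {u : G}
    (hu : Commute u K.z) (hO : ∀ x ∈ R, u * x * u⁻¹ ∈ F.O) :
    Nat.card R ≤ 3 * Nat.card (SmallCent.inverted F.O K.z) := by
  rw [SmallCent.card_eq_fixed_mul_inverted R ((coreIn_odd F.Ca).of_dvd_nat (Subgroup.card_dvd_of_le hR)) z_mul_z hz]
  refine Nat.mul_le_mul ?_ ?_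
  · refine (Subgroup.card_le_of_le (K := Subgroup.zpowers F.a) (H := R ⊓ Subgroup.centralizer ({K.z} : Set G))
      fun x hx => F.Oa_z (hR hx.1) (Subgroup.mem_centralizer_singleton_iff.1 hx.2)).trans (le_of_eq F.card_za)
  · refine Nat.card_le_card_of_injective (fun j => ⟨u * j * u⁻¹, hO _ j.2.1, ?_⟩)
      fun x y e => Subtype.ext (mul_left_cancel (mul_right_cancel (congrArg Subtype.val e :)))
    calc K.z * (u * j * u⁻¹) * K.z⁻¹ = (K.z * u) * j * (K.z * u)⁻¹ := by group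
      _ = u * (K.z * j * K.z⁻¹) * u⁻¹ := by rw [← hu.eq]; group
      _ = _ := by rw [j.2.2]; group

/-- At least three times the inverted elements. -/
theorem card_ge_of_inv {R : Subgroup G} (hR : R ≤ F.Oa) (hz : ∀ x ∈ R, K.z * x * K.z⁻¹ ∈ R) {u : G}
    (hu : Commute u K.z) (ha : F.a ∈ R)
    (hj : ∀ j ∈ F.O, K.z * j * K.z⁻¹ = j⁻¹ → u * j * u⁻¹ ∈ R) :
    243 ≤ Nat.card R := by
  rw [SmallCent.card_eq_fixed_mul_inverted R ((coreIn_odd F.Ca).of_dvd_nat (Subgroup.card_dvd_of_le hR)) z_mul_z hz,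
    show 243 = 3 * 81 by rfl]
  refine Nat.mul_le_mul ?_ ?_
  · refine F.card_za.symm.le.trans (Subgroup.card_le_of_le (Subgroup.zpowers_le.2 ⟨ha, ?_⟩))
    exact Subgroup.mem_centralizer_singleton_iff.2 F.az
  · rw [← F.card_inverted_O]
    refine Nat.card_le_card_of_injective (fun j => ⟨u * j * u⁻¹, hj _ j.2.1 j.2.2, ?_⟩)
      fun x y e => Subtype.ext (mul_left_cancel (mul_right_cancel (congrArg Subtype.val e :)))
    calc K.z * (u * j * u⁻¹) * K.z⁻¹ = (K.z * u) * j * (K.z * u)⁻¹ := by group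
      _ = u * (K.z * j * K.z⁻¹) * u⁻¹ := by rw [← hu.eq]; group
      _ = _ := by rw [j.2.2]; group

theorem cent_z {R : Subgroup G} {f : G} (hR : ∀ x ∈ R, K.z * x * K.z⁻¹ ∈ R) (hf : Commute f K.z) :
    ∀ x ∈ R ⊓ Subgroup.centralizer ({f} : Set G),
      K.z * x * K.z⁻¹ ∈ R ⊓ Subgroup.centralizer ({f} : Set G) := fun x hx =>
  ⟨hR x hx.1, Subgroup.mem_centralizer_singleton_iff.2
    ((hf.symm.mul_left (Subgroup.mem_centralizer_singleton_iff.1 hx.2)).mul_left hf.symm.inv_left)⟩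

theorem zOm {x : G} (hx : x ∈ F.Om) : K.z * x * K.z⁻¹ ∈ F.Om := F.Om_conj F.az.symm hx

/-- The fixed points of `b` lie in the core of `C(a b)`. -/
theorem fix_b_le_O : F.Oa ⊓ Subgroup.centralizer ({F.b} : Set G) ≤ F.O := by
  refine F.odd_le_O F.a_A F.not_T_a F.T_keeps_a
    ((coreIn_odd F.Ca).of_dvd_nat (Subgroup.card_dvd_of_le inf_le_left)) (fun x hx => ?_)
    (cent_z (fun _ => F.Oa_conj F.az.symm) F.bz)
  have hxb : Commute x F.b := Subgroup.mem_centralizer_singleton_iff.1 hx.2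
  exact ⟨(F.Oa_comm hx.1).mul_right hxb, F.Oa_comm hx.1⟩

theorem fix_b_le : F.Oa ⊓ Subgroup.centralizer ({F.b} : Set G) ≤ F.O ⊓ Subgroup.centralizer ({F.a} : Set G) :=
  fun _ hx => ⟨F.fix_b_le_O hx, Subgroup.mem_centralizer_singleton_iff.2 (F.Oa_comm hx.1)⟩

/-- In the case `a` noncentral the fixed points of `b` are few. -/
theorem fix_b_small (ha : F.a ∉ F.Zc) : Nat.card ↥(F.Om ⊓ Subgroup.centralizer ({F.b} : Set G)) ≤ 27 := by
  set Y := F.O ⊓ Subgroup.centralizer ({F.a} : Set G) with hY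
  have hYo : Odd (Nat.card Y) := F.O_odd.of_dvd_nat (Subgroup.card_dvd_of_le inf_le_left)
  have hzY : ∀ x ∈ Y, K.z * x * K.z⁻¹ ∈ Y := cent_z (fun _ => F.zO) F.az
  have hTY : ∀ x ∈ Y, F.T * x * F.T⁻¹ ∈ Y := fun x hx => ⟨F.conjO F.T_mem.1 hx.1,
    Subgroup.mem_centralizer_singleton_iff.2 (F.T_keeps_a x (F.O_le hx.1)
      (Subgroup.mem_centralizer_singleton_iff.1 hx.2))⟩
  have hzT : K.z * F.T = F.T * K.z := F.Tz.symm.eq
  have h4 := SmallCent.card_four_fixed Y hYo z_mul_z F.sq hzT hzY hTY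
  have hYz : Y ⊓ Subgroup.centralizer ({K.z} : Set G) = F.A :=
    le_antisymm ((inf_le_inf_right _ inf_le_left).trans F.O_z.le) fun x hx =>
      ⟨⟨F.A_le_O hx, Subgroup.mem_centralizer_singleton_iff.2 (F.A_comm hx F.a_A)⟩, (F.A_le_Wz hx).2⟩
  have hYzT : 3 ≤ Nat.card ↥(Y ⊓ Subgroup.centralizer ({K.z} : Set G) ⊓ Subgroup.centralizer ({F.T} : Set G)) := by
    rw [← F.ab_ord, ← Nat.card_zpowers]
    refine Subgroup.card_le_of_le (Subgroup.zpowers_le.2 ⟨?_, Subgroup.mem_centralizer_singleton_iff.2 F.T_ab.symm⟩)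
    rw [hYz]; exact mul_mem F.a_A F.b_A
  obtain ⟨ρ, hρ, r1, r2, r3⟩ := F.exists_rot (by norm_num)
  have hg : ∀ x, x ∈ Y ⊓ Subgroup.centralizer ({F.T} : Set G) ↔
      F.g * x * F.g⁻¹ ∈ Y ⊓ Subgroup.centralizer ({F.T * K.z} : Set G) := by
    intro x
    simp only [hY, Subgroup.mem_inf, Subgroup.mem_centralizer_singleton_iff]
    rw [← F.g_O]
    refine and_congr (and_congr_right fun _ => ?_) ?_
    · show Commute x F.a ↔ Commute (F.g * x * F.g⁻¹) F.a
      rw [← Commute.conj_iff (a := x) F.g, F.g_a, Commute.inv_right_iff]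
    · show Commute x F.T ↔ Commute (F.g * x * F.g⁻¹) (F.T * K.z)
      rw [← Commute.conj_iff (a := x) F.g, F.g_T]
  have hTT : Nat.card ↥(Y ⊓ Subgroup.centralizer ({F.T} : Set G)) =
      Nat.card ↥(Y ⊓ Subgroup.centralizer ({F.T * K.z} : Set G)) := card_conj_eq F.g hg
  have hT9 : Nat.card ↥(Y ⊓ Subgroup.centralizer ({F.T} : Set G)) ≤ 9 := by
    have hle : Y ⊓ Subgroup.centralizer ({F.T} : Set G) ≤ F.O ⊓ Subgroup.centralizer ({F.T} : Set G) :=
      inf_le_inf_right _ inf_le_left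
    have h27 := (F.fixed_data (Or.inr (Or.inl rfl))).1
    have hd : Nat.card ↥(Y ⊓ Subgroup.centralizer ({F.T} : Set G)) ∣ 3 ^ 3 := by
      rw [show (3 : ℕ) ^ 3 = 27 by norm_num, ← h27]; exact Subgroup.card_dvd_of_le hle
    obtain ⟨m, hm, hc⟩ := (Nat.dvd_prime_pow Nat.prime_three).1 hd
    by_contra h9
    have hall : Nat.card ↥(Y ⊓ Subgroup.centralizer ({F.T} : Set G)) = 27 := by
      rw [hc] at h9 ⊢; interval_cases m <;> omega
    refine ha (F.mem_Zc.2 ⟨F.A_le_O F.a_A, fun y hy => ?_⟩)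
    have e1 := Subgroup.eq_of_le_of_card_ge hle (le_of_eq (h27.trans hall.symm))
    have e2 : Y ⊓ Subgroup.centralizer ({F.T * K.z} : Set G) = F.O ⊓ Subgroup.centralizer ({F.T * K.z} : Set G) :=
      Subgroup.eq_of_le_of_card_ge (inf_le_inf_right _ inf_le_left)
        (le_of_eq ((F.fixed_data (Or.inr (Or.inr rfl))).1.trans (hTT ▸ hall).symm))
    have hle' : F.O ≤ Y := by
      conv_lhs => rw [F.O_closure, F.O_z, ← hYz, ← e1, ← e2]
      exact sup_le (sup_le inf_le_left inf_le_left) inf_le_left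
    exact (show Commute y F.a from Subgroup.mem_centralizer_singleton_iff.1 (hle' hy).2).symm
  have hYc : Nat.card Y ≤ 243 := by
    rw [hYz, F.card_A, hzT, ← hTT] at h4
    rw [hYz] at hYzT
    nlinarith [Nat.mul_le_mul hT9 hT9, Nat.mul_le_mul hYzT hYzT,
      Nat.zero_le (Nat.card Y)]
  -- compare the inverted elements
  set S := F.Om ⊓ Subgroup.centralizer ({F.b} : Set G) with hS
  have hSY : S ≤ Y := (inf_le_inf_right _ F.Om_le).trans F.fix_b_le
  have hSa : S ≤ F.Oa := inf_le_left.trans F.Om_le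
  have hS' := SmallCent.card_eq_fixed_mul_inverted S ((coreIn_odd F.Ca).of_dvd_nat (Subgroup.card_dvd_of_le hSa))
    z_mul_z (cent_z (fun _ => F.zOm) F.bz)
  have hY' := SmallCent.card_eq_fixed_mul_inverted Y hYo z_mul_z hzY
  rw [hYz, F.card_A] at hY'
  have h1 : Nat.card ↥(S ⊓ Subgroup.centralizer ({K.z} : Set G)) ≤ 3 :=
    (Subgroup.card_le_of_le (K := Subgroup.zpowers F.a) (H := S ⊓ Subgroup.centralizer ({K.z} : Set G))
      fun x hx => F.Oa_z (hSa hx.1) (Subgroup.mem_centralizer_singleton_iff.1 hx.2)).trans (le_of_eq F.card_za)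
  have h2 : Nat.card (SmallCent.inverted S K.z) ≤ Nat.card (SmallCent.inverted Y K.z) :=
    Nat.card_le_card_of_injective (fun j => ⟨j, hSY j.2.1, j.2.2⟩) fun x y e =>
      Subtype.ext (congrArg Subtype.val e :)
  have := Nat.mul_le_mul h1 h2
  omega

theorem fix_bc_le {u : G} (hu : Commute u K.z) (ha : u * F.a * u⁻¹ = F.b) (hb : u * F.b * u⁻¹ = F.c)
    (hc : u * F.c * u⁻¹ = F.a) : Nat.card ↥(F.Om ⊓ Subgroup.centralizer ({F.b * F.c} : Set G)) ≤ 243 := by
  set R := F.Om ⊓ Subgroup.centralizer ({F.b * F.c} : Set G) with hR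
  have hRa : R ≤ F.Oa := inf_le_left.trans F.Om_le
  have hzR := cent_z (R := F.Om) (fun _ => F.zOm) (F.bz.mul_left F.cz)
  set R' := R.map (MulAut.conj u⁻¹).toMonoidHom with hR'
  have hmem : ∀ {x}, x ∈ R' ↔ u * x * u⁻¹ ∈ R := fun {x} => by
    rw [hR', Subgroup.mem_map_equiv]
    show (MulAut.conj u⁻¹).symm x ∈ R ↔ _
    rw [MulAut.conj_symm_apply, inv_inv]
  have hle : R' ≤ F.O := by
    refine F.odd_le_O F.c_A F.not_T_c F.T_keeps_c ?_ ?_ ?_
    · rw [hR', Subgroup.card_map_of_injective (MulEquiv.injective _)]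
      exact (coreIn_odd F.Ca).of_dvd_nat (Subgroup.card_dvd_of_le hRa)
    · intro x hx
      rw [hmem] at hx
      constructor
      · rw [← Commute.conj_iff u, show u * (F.a * F.b) * u⁻¹ = u * F.a * u⁻¹ * (u * F.b * u⁻¹) by group, ha, hb]
        exact Subgroup.mem_centralizer_singleton_iff.1 hx.2
      · rw [← Commute.conj_iff u, hc]
        exact F.Oa_comm (hRa hx)
    · intro x hx
      rw [hmem] at hx ⊢
      have := hzR _ hx
      rwa [show K.z * (u * x * u⁻¹) * K.z⁻¹ = (K.z * u) * x * (K.z * u)⁻¹ by group, ← hu.eq,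
        show u * K.z * x * (u * K.z)⁻¹ = u * (K.z * x * K.z⁻¹) * u⁻¹ by group] at this
  refine (F.card_le_of_inv hRa hzR (u := u⁻¹) hu.inv_left fun x hx => hle ?_).trans
    (by rw [F.card_inverted_O])
  rw [hmem, show u * (u⁻¹ * x * u⁻¹⁻¹) * u⁻¹ = x by group]
  exact hx

/-- The case `c` central and `a` not is impossible. -/
theorem a_central : F.a ∈ F.Zc := by
  by_contra ha
  have hcZ : F.c ∈ F.Zc := F.central_cases.resolve_left ha
  obtain ⟨d, hd, -, da, db, dc⟩ := F.exists_d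
  have hzd : Commute d K.z := comm_z hd
  set R := F.Om ⊓ Subgroup.centralizer ({F.b * F.c} : Set G) with hR
  have h243 : 243 ≤ Nat.card R := by
    refine F.card_ge_of_inv (inf_le_left.trans F.Om_le) (cent_z (fun _ => F.zOm) (F.bz.mul_left F.cz)) hzd
      ⟨F.za_le_Om (Subgroup.mem_zpowers _), Subgroup.mem_centralizer_singleton_iff.2 (F.ab.mul_right F.ac)⟩ ?_
    intro j hj hji
    refine ⟨F.inverted_Om ?_ ?_ ?_, Subgroup.mem_centralizer_singleton_iff.2 ?_⟩
    · rw [conj_pow, F.class_two.2 j hj, mul_one, mul_inv_cancel]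
    · rw [← dc, Commute.conj_iff]
      exact ((F.mem_Zc.1 hcZ).2 j hj).symm
    · calc K.z * (d * j * d⁻¹) * K.z⁻¹ = (K.z * d) * j * (K.z * d)⁻¹ := by group
        _ = d * (K.z * j * K.z⁻¹) * d⁻¹ := by rw [← hzd.eq]; group
        _ = _ := by rw [hji]; group
    · show Commute (d * j * d⁻¹) (F.b * F.c)
      rw [show F.b * F.c = d * (F.a * F.b) * d⁻¹ by
        rw [show d * (F.a * F.b) * d⁻¹ = d * F.a * d⁻¹ * (d * F.b * d⁻¹) by group, da, db], Commute.conj_iff]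
      exact F.mem_W.1 (F.O_le hj)
  obtain ⟨hs, hA, hq⟩ := W1_facts
  obtain ⟨w, hw⟩ := exists_img (K := K) hs
  have hwa : Commute w F.a := (F.ia.commute_odd hw hA.symm (by decide : Odd 3) F.a3).symm
  have hge := F.card_Om_ge (u := F.b * F.c) (comm_z hw) hwa
    ⟨w * (F.b * F.c) * w⁻¹ * (F.b * F.c)⁻¹, mul_mem (Subgroup.subset_closure (Or.inr rfl))
      (inv_mem (Subgroup.subset_closure (Or.inl rfl))), ((hw.conj (F.ib.mul F.ic)).mul (F.ib.mul F.ic).inv).sq hq⟩
  have h1 := Nat.pow_le_pow_left h243 2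
  have h2 := Nat.pow_le_pow_left (F.fix_b_small ha) 3
  have h3 := F.card_Om_le
  rw [← hR] at hge
  omega

theorem O_comm {x y : G} (hx : x ∈ F.O) (hy : y ∈ F.O) : Commute x y :=
  F.abelian_of_a F.a_central x hx y hy

theorem O_le_Ca {x : G} (hx : x ∈ F.O) : Commute x F.a := F.O_comm hx (F.A_le_O F.a_A)

theorem inverted_mem_fix {j : G} (hj : j ∈ F.O) (hji : K.z * j * K.z⁻¹ = j⁻¹) :
    j ∈ F.Om ⊓ Subgroup.centralizer ({F.b} : Set G) :=
  ⟨F.inverted_Om (F.class_two.2 j hj) (F.O_le_Ca hj) hji,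
    Subgroup.mem_centralizer_singleton_iff.2 (F.O_comm hj (F.A_le_O F.b_A))⟩

theorem fix_b_O : F.Om ⊓ Subgroup.centralizer ({F.b} : Set G) ≤ F.O :=
  (inf_le_inf_right _ F.Om_le).trans F.fix_b_le_O

theorem card_fix_b : Nat.card ↥(F.Om ⊓ Subgroup.centralizer ({F.b} : Set G)) = 243 := by
  have hz := cent_z (R := F.Om) (fun _ => F.zOm) F.bz
  refine le_antisymm ?_ (F.card_ge_of_inv (inf_le_left.trans F.Om_le) hz (u := 1) (Commute.one_left _)
    (F.za_le_Cb (Subgroup.mem_zpowers _)) fun j hj hji => by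
      rw [one_mul, inv_one, mul_one]; exact F.inverted_mem_fix hj hji)
  refine (F.card_le_of_inv (inf_le_left.trans F.Om_le) hz (u := 1) (Commute.one_left _) fun x hx => ?_).trans
    (by rw [F.card_inverted_O])
  rw [one_mul, inv_one, mul_one]; exact F.fix_b_O hx

theorem fix_c : F.Om ⊓ Subgroup.centralizer ({F.c} : Set G) = F.Om ⊓ Subgroup.centralizer ({F.b} : Set G) := by
  obtain ⟨h, hh, ha, hb, -, -⟩ := F.exists_h
  have hle : F.Om ⊓ Subgroup.centralizer ({F.b} : Set G) ≤ F.Om ⊓ Subgroup.centralizer ({F.c} : Set G) :=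
    fun x hx => ⟨hx.1, Subgroup.mem_centralizer_singleton_iff.2 (F.O_comm (F.fix_b_O hx) (F.A_le_O F.c_A))⟩
  refine (Subgroup.eq_of_le_of_card_ge hle (le_of_eq ?_)).symm
  refine (card_conj_eq h fun x => ?_).symm
  rw [Subgroup.mem_inf, Subgroup.mem_inf, Subgroup.mem_centralizer_singleton_iff,
    Subgroup.mem_centralizer_singleton_iff, ← F.Om_conj_iff (mul_inv_eq_iff_eq_mul.1 ha)]
  refine and_congr_right fun _ => ?_
  show Commute x F.b ↔ Commute (h * x * h⁻¹) F.c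
  rw [← hb, Commute.conj_iff]

theorem card_Om_big : 243 * 243 ≤ 3 * Nat.card F.Om := by
  obtain ⟨hs, hA, hq⟩ := W2_facts
  obtain ⟨w, hw⟩ := exists_img (K := K) hs
  have hwa : Commute w F.a := (F.ia.commute_odd hw hA.symm (by decide : Odd 3) F.a3).symm
  have hge := F.card_Om_ge (u := F.b) (comm_z hw) hwa
    ⟨w * F.b * w⁻¹ * F.b, mul_mem (Subgroup.subset_closure (Or.inr rfl))
      (Subgroup.subset_closure (Or.inl rfl)), ((hw.conj F.ib).mul F.ib).sq hq⟩
  rwa [F.card_fix_b, pow_two] at hge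

/-- The preimage is larger than the fixed points. -/
theorem P1_gt : 243 < Nat.card F.P1 := by
  have hle : F.Om ⊓ Subgroup.centralizer ({F.b} : Set G) ≤ F.P1 := fun x hx => F.mem_P1.2 ⟨hx.1, by
    rw [commutatorElement_eq_one_iff_mul_comm.2 (Subgroup.mem_centralizer_singleton_iff.1 hx.2)]
    exact one_mem _⟩
  rw [← F.card_fix_b]
  refine lt_of_le_of_ne (Subgroup.card_le_of_le hle) fun e => ?_
  have hP : F.Om ⊓ Subgroup.centralizer ({F.b} : Set G) = F.P1 := Subgroup.eq_of_le_of_card_ge hle e.ge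
  have hall : F.Om ≤ F.P1 := fun m hm => F.mem_P1.2 ⟨hm, by rw [hP]; exact F.P1_chain hm⟩
  have h := Subgroup.card_le_of_le hall
  have hb := F.card_Om_big
  rw [← e, F.card_fix_b] at h
  omega

end Cfg.Triple

end Cfsg.Agent.Invol.TwoAn
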