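import Mathlib
import Cfsg.Agent.Lib.Invol.TwoAn.NineH

/-!
# The normalizer of three disjoint 3-cycles in the alternating group of degree nine
-/

set_option autoImplicit false
set_option linter.unusedSectionVars false
set_option maxRecDepth 100000

namespace Cfsg.Agent.Invol.TwoAn.P9

open Equiv Equiv.Perm

/-- The product of powers of the three cycles. -/
def word (p : Fin 3 × Fin 3 × Fin 3) : Perm (Fin 9) := A0 ^ (p.1 : ℕ) * B0 ^ (p.2.1 : ℕ) * C0 ^ (p.2.2 : ℕ)

/-- The cycles and their inverses. -/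
def six : Fin 6 → Perm (Fin 9) := ![A0, B0, C0, A0⁻¹, B0⁻¹, C0⁻¹]

/-- Representatives for the permutations of the blocks. -/
def blockEl : Fin 6 → Perm (Fin 9) := ![1, D0, D0⁻¹, X0, D0 * X0 * D0⁻¹, D0⁻¹ * X0 * D0]

/-- The second quad inverting two cycles. -/
def G1 : Perm (Fin 9) := swap 1 2 * swap 7 8
/-- The third quad inverting two cycles. -/
def G2 : Perm (Fin 9) := swap 4 5 * swap 7 8

/-- Representatives for the even choices of inversions. -/
def invEl : Fin 4 → Perm (Fin 9) := ![1, G0, G1, G2]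

/-- Representatives for the even normalizer modulo the cycles. -/
def rep (o : Fin 6 × Fin 4) : Perm (Fin 9) := blockEl o.1 * invEl o.2

theorem rep_sign : ∀ o, sign (rep o) = 1 := by decide +kernel

theorem rep_six : ∀ o i, ∃ j, rep o * six i * (rep o)⁻¹ = six j := by decide +kernel

theorem options : ∀ x y z : Fin 6, (x : ℕ) % 3 ≠ (y : ℕ) % 3 → (x : ℕ) % 3 ≠ (z : ℕ) % 3 →
    (y : ℕ) % 3 ≠ (z : ℕ) % 3 → ∃ o, ∃ e : Bool, let r := if e then rep o * swap 1 2 else rep o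
      r * A0 * r⁻¹ = six x ∧ r * B0 * r⁻¹ = six y ∧ r * C0 * r⁻¹ = six z := by decide +kernel

theorem word_six : ∀ p, (word p).support.card = 3 → ∃ x, six x = word p := by decide +kernel

theorem six_class : ∀ x y : Fin 6, (x : ℕ) % 3 = (y : ℕ) % 3 → six y = six x ∨ six y = (six x)⁻¹ := by
  decide +kernel

theorem rep_inj : ∀ o o', rep o * A0 * (rep o)⁻¹ = rep o' * A0 * (rep o')⁻¹ →
    rep o * B0 * (rep o)⁻¹ = rep o' * B0 * (rep o')⁻¹ → rep o * C0 * (rep o)⁻¹ = rep o' * C0 * (rep o')⁻¹ →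
      o = o' := by decide +kernel

theorem rep_mixed : ∀ o, o.1 ≠ 0 → ∃ e i, rep o * invEl e * (rep o)⁻¹ * (invEl e)⁻¹ * six i *
    (rep o * invEl e * (rep o)⁻¹ * (invEl e)⁻¹)⁻¹ ≠ six i := by decide +kernel

theorem word_comm_six : ∀ p i, word p * six i = six i * word p := by decide +kernel

theorem invEl_quad : ∀ e : Fin 4, e ≠ 0 → IsQuad (invEl e) := fun e he =>
  ⟨(by decide +kernel : ∀ e : Fin 4, e ≠ 0 → invEl e * invEl e = 1) e he,
    (by decide +kernel : ∀ e : Fin 4, e ≠ 0 → (invEl e).support.card = 4) e he⟩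

/-- The permutations fixing every block. -/
def blocks : Subgroup (Perm (Fin 9)) where
  carrier := {σ | ∀ i, (σ i : ℕ) / 3 = (i : ℕ) / 3}
  one_mem' _ := rfl
  mul_mem' {σ τ} h h' i := by rw [Perm.mul_apply, h, h']
  inv_mem' {σ} h i := by
    conv_rhs => rw [← Equiv.apply_symm_apply σ i]
    exact (h (σ.symm i)).symm

theorem mem_blocks {σ : Perm (Fin 9)} : σ ∈ blocks ↔ ∀ i, (σ i : ℕ) / 3 = (i : ℕ) / 3 := Iff.rfl

theorem word_blocks (p : Fin 3 × Fin 3 × Fin 3) : word p ∈ blocks :=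
  mem_blocks.2 ((by decide +kernel : ∀ p i, (word p i : ℕ) / 3 = (i : ℕ) / 3) p)

theorem rep_blocks (o : Fin 6 × Fin 4) : rep o ∈ blocks ↔ o.1 = 0 :=
  mem_blocks.trans ((by decide +kernel : ∀ o, (∀ i, (rep o i : ℕ) / 3 = (i : ℕ) / 3) ↔ o.1 = 0) o)

theorem rep_conj_blocks (o : Fin 6 × Fin 4) {σ : Perm (Fin 9)} (h : σ ∈ blocks) :
    rep o * σ * (rep o)⁻¹ ∈ blocks := by
  have key : ∀ o, ∀ i j : Fin 9, (i : ℕ) / 3 = (j : ℕ) / 3 → (rep o i : ℕ) / 3 = (rep o j : ℕ) / 3 := by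
    decide +kernel
  intro i
  have h1 := key o _ _ (h ((rep o).symm i))
  rw [Equiv.apply_symm_apply] at h1
  exact h1

/-- The centralizer of the three cycles. -/
theorem cent_abc {τ : Perm (Fin 9)} (ha : Commute τ A0) (hb : Commute τ B0) (hc : Commute τ C0) :
    ∃ p, τ = word p := by
  have pick : ∀ {c : Perm (Fin 9)} {b : Fin 9}, Commute τ c → c b ≠ b →
      (∀ j, c j ≠ j → ∃ k : Fin 3, j = (c ^ (k : ℕ)) b) → ∃ k : Fin 3, τ b = (c ^ (k : ℕ)) b := by
    intro c b h hb hall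
    refine hall _ ?_
    rw [← Perm.mul_apply, ← h.eq, Perm.mul_apply]
    exact fun e => hb (τ.injective e)
  obtain ⟨i, hi⟩ := pick (b := 0) ha (by decide +kernel) (by decide +kernel)
  obtain ⟨j, hj⟩ := pick (b := 3) hb (by decide +kernel) (by decide +kernel)
  obtain ⟨k, hk⟩ := pick (b := 6) hc (by decide +kernel) (by decide +kernel)
  refine ⟨(i, j, k), Equiv.ext fun m => ?_⟩
  obtain ⟨e0, e3, e6⟩ := (by decide +kernel : ∀ i j k : Fin 3, word (i, j, k) 0 = (A0 ^ (i : ℕ)) 0 ∧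
    word (i, j, k) 3 = (B0 ^ (j : ℕ)) 3 ∧ word (i, j, k) 6 = (C0 ^ (k : ℕ)) 6) i j k
  have wc : ∀ t : Fin 6, Commute (word (i, j, k)) (six t) := fun t => word_comm_six _ t
  have step : ∀ (c : Perm (Fin 9)) (b : Fin 9) (t : ℕ), Commute τ c → Commute (word (i, j, k)) c →
      τ b = word (i, j, k) b → τ ((c ^ t) b) = word (i, j, k) ((c ^ t) b) := by
    intro c b t h h' e
    rw [← Perm.mul_apply, (h.pow_right t).eq, Perm.mul_apply, e, ← Perm.mul_apply, ← (h'.pow_right t).eq,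
      Perm.mul_apply]
  obtain ⟨t, rfl | rfl | rfl⟩ := (by decide +kernel : ∀ m : Fin 9, ∃ t : Fin 3,
    m = (A0 ^ (t : ℕ)) 0 ∨ m = (B0 ^ (t : ℕ)) 3 ∨ m = (C0 ^ (t : ℕ)) 6) m
  · exact step A0 0 t ha (wc 0) (hi.trans e0.symm)
  · exact step B0 3 t hb (wc 1) (hj.trans e3.symm)
  · exact step C0 6 t hc (wc 2) (hk.trans e6.symm)

/-- The even normalizer of the group of the three cycles. -/
theorem norm_cases {σ : Perm (Fin 9)} (hs : sign σ = 1) (ha : ∃ p, σ * A0 * σ⁻¹ = word p)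
    (hb : ∃ p, σ * B0 * σ⁻¹ = word p) (hc : ∃ p, σ * C0 * σ⁻¹ = word p) : ∃ o p, σ = rep o * word p := by
  have toSix : ∀ {c : Perm (Fin 9)}, c.support.card = 3 → (∃ p, σ * c * σ⁻¹ = word p) →
      ∃ x, σ * c * σ⁻¹ = six x := by
    rintro c hc ⟨p, hp⟩
    obtain ⟨x, hx⟩ := word_six p (by rw [← hp, card_support_conj]; exact hc)
    exact ⟨x, hp.trans hx.symm⟩
  obtain ⟨x, hx⟩ := toSix (by decide +kernel) ha
  obtain ⟨y, hy⟩ := toSix (by decide +kernel) hb
  obtain ⟨z, hz⟩ := toSix (by decide +kernel) hc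
  have diff : ∀ {c c' : Perm (Fin 9)} {u v : Fin 6}, σ * c * σ⁻¹ = six u → σ * c' * σ⁻¹ = six v →
      c' ≠ c → c' ≠ c⁻¹ → (u : ℕ) % 3 ≠ (v : ℕ) % 3 := by
    intro c c' u v h h' n1 n2 e
    rcases six_class u v e with e' | e'
    · exact n1 (mul_left_cancel (mul_right_cancel (h'.trans (e'.trans h.symm))))
    · refine n2 (mul_left_cancel (a := σ) (mul_right_cancel (b := σ⁻¹) ?_))
      rw [h', e', ← h]; group
  obtain ⟨o, e, hr⟩ := options x y z (diff hx hy (by decide +kernel) (by decide +kernel))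
    (diff hx hz (by decide +kernel) (by decide +kernel)) (diff hy hz (by decide +kernel) (by decide +kernel))
  set r := if e then rep o * swap 1 2 else rep o with hr'
  obtain ⟨h1, h2, h3⟩ := hr
  have cm : ∀ {c u : Perm (Fin 9)}, r * c * r⁻¹ = u → σ * c * σ⁻¹ = u → Commute (r⁻¹ * σ) c := by
    intro c u e1 e2
    show r⁻¹ * σ * c = c * (r⁻¹ * σ)
    calc r⁻¹ * σ * c = r⁻¹ * (σ * c * σ⁻¹) * σ := by group
      _ = r⁻¹ * (r * c * r⁻¹) * σ := by rw [e1, e2]
      _ = _ := by group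
  obtain ⟨p, hp⟩ := cent_abc (cm h1 hx) (cm h2 hy) (cm h3 hz)
  have hσ : σ = r * word p := by rw [← hp, mul_inv_cancel_left]
  refine ⟨o, p, ?_⟩
  cases e with
  | false => exact hσ
  | true =>
    exfalso
    have hsr : sign r = -1 := by
      rw [hr']; simp only [if_true, map_mul, rep_sign, one_mul]
      exact sign_swap (by decide)
    have hw : sign (word p) = 1 := (by decide +kernel : ∀ p, sign (word p) = 1) p
    rw [hσ, map_mul, hsr, hw] at hs
    exact absurd hs (by decide)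

end Cfsg.Agent.Invol.TwoAn.P9
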