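import Mathlib
import Cfsg.Agent.Lib.Invol.TwoAn.NineCases
import Cfsg.Agent.Lib.Invol.TwoAn.NinePerm
import Cfsg.Agent.Lib.Invol.CentSix.Gl23
import Cfsg.Agent.Lib.Invol.GLTwoThreeCount
import Cfsg.Agent.Lib.Invol.PResidual

/-!
# Degree nine: the normalizer of the core modulo the core
-/

set_option autoImplicit false
set_option linter.unusedSectionVars false
set_option maxRecDepth 100000

namespace Cfsg.Agent.Invol.TwoAn

open Equiv Equiv.Perm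
open scoped commutatorElement

universe u

variable {G : Type u} [Group G] [Finite G]

/-- A conjugation mapping a finite subgroup into itself maps it onto itself. -/
theorem mem_normalizer_of_le {H : Subgroup G} {u : G} (h : ∀ x ∈ H, u * x * u⁻¹ ∈ H) :
    u ∈ Subgroup.normalizer (H : Set G) := by
  have e : H.map (MulAut.conj u).toMonoidHom = H := by
    refine Subgroup.eq_of_le_of_card_ge ?_ (by rw [Subgroup.card_map_of_injective (MulEquiv.injective _)])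
    rintro _ ⟨x, hx, rfl⟩
    exact h x hx
  refine Subgroup.mem_normalizer_iff.2 fun x => ⟨h x, fun hx => ?_⟩
  rw [← e] at hx
  obtain ⟨y, hy, hyx⟩ := hx
  have : y = x := mul_left_cancel (mul_right_cancel hyx)
  exact this ▸ hy

namespace Cfg.Triple

variable {K : Cfg G 9} {h9 : 9 ≤ 9} (F : Triple K h9)

/-- The element of `A` over a word. -/
def Aw (p : Fin 3 × Fin 3 × Fin 3) : G := F.a ^ (p.1 : ℕ) * F.b ^ (p.2.1 : ℕ) * F.c ^ (p.2.2 : ℕ)

theorem Aw_mem (p : Fin 3 × Fin 3 × Fin 3) : F.Aw p ∈ F.A := ⟨p.1, p.2.1, p.2.2, rfl⟩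

theorem Aw_img (p : Fin 3 × Fin 3 × Fin 3) : K.Img (F.Aw p) (P9.word p) :=
  ((F.ia.pow _).mul (F.ib.pow _)).mul (F.ic.pow _)

theorem exists_Aw {x : G} (hx : x ∈ F.A) : ∃ p, x = F.Aw p := by
  obtain ⟨i, j, k, rfl⟩ := hx
  have hmod : ∀ {y : G}, y ^ 3 = 1 → ∀ i : ℕ, y ^ (i % 3) = y ^ i := fun {y} hy i => by
    conv_rhs => rw [← Nat.mod_add_div i 3, pow_add, pow_mul, hy, one_pow, mul_one]
  refine ⟨(⟨i % 3, Nat.mod_lt _ (by norm_num)⟩, ⟨j % 3, Nat.mod_lt _ (by norm_num)⟩,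
    ⟨k % 3, Nat.mod_lt _ (by norm_num)⟩), ?_⟩
  rw [Aw, hmod F.a3, hmod F.b3, hmod F.c3]

theorem mem_A_of_img {x : G} {p : Fin 3 × Fin 3 × Fin 3} (hi : K.Img x (P9.word p)) (h3 : x ^ 3 = 1) :
    x ∈ F.A :=
  (Img.eq_odd hi (F.Aw_img p) (by decide : Odd 3) h3 (F.A_cube (F.Aw_mem p))).symm ▸ F.Aw_mem p

/-- The normalizer of the core. -/
abbrev NO : Subgroup G := Subgroup.normalizer (F.O : Set G)

/-- The quotient of the normalizer by the core. -/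
abbrev Quo : Type u := ↥F.NO ⧸ F.O.subgroupOf F.NO

theorem mem_NO_conj {u : G} (hu : u ∈ F.NO) {x : G} (hx : x ∈ F.O) : u * x * u⁻¹ ∈ F.O :=
  (Subgroup.mem_normalizer_iff.1 hu x).1 hx

theorem mem_NO_of_W {u : G} (hu : u ∈ F.W) : u ∈ F.NO := mem_normalizer_of_le fun _ => F.conjO hu

theorem O_le_NO : F.O ≤ F.NO := fun _ hx => F.mem_NO_of_W (F.O_le hx)

/-- The normalizer of `A` in the centralizer of `z` normalizes the core. -/
theorem mem_NO_of_A {w : G} (hwz : Commute w K.z) (hw : ∀ x ∈ F.A, w * x * w⁻¹ ∈ F.A) : w ∈ F.NO := by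
  set R := F.O.map (MulAut.conj w).toMonoidHom with hR
  have hwA : w ∈ Subgroup.normalizer (F.A : Set G) := mem_normalizer_of_le hw
  have hcomm : ∀ x ∈ R, ∀ t ∈ F.A, Commute x t := by
    rintro _ ⟨y, hy, rfl⟩ t ht
    have ht' : w⁻¹ * t * w⁻¹⁻¹ ∈ F.A := (Subgroup.mem_normalizer_iff.1 (inv_mem hwA) t).1 ht
    have := (Commute.conj_iff w).2 (F.O_comm hy (F.A_le_O ht'))
    rwa [show w * (w⁻¹ * t * w⁻¹⁻¹) * w⁻¹ = t by group] at this
  have hle : R ≤ F.O := by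
    refine F.odd_le_O F.a_A F.not_T_a F.T_keeps_a ?_ (fun x hx => ?_) ?_
    · rw [hR, Subgroup.card_map_of_injective (MulEquiv.injective _)]; exact F.O_odd
    · exact ⟨hcomm x hx _ (mul_mem F.a_A F.b_A), hcomm x hx _ F.a_A⟩
    · rintro _ ⟨y, hy, rfl⟩
      refine ⟨_, F.zO hy, ?_⟩
      show w * (K.z * y * K.z⁻¹) * w⁻¹ = K.z * (w * y * w⁻¹) * K.z⁻¹
      rw [show w * (K.z * y * K.z⁻¹) * w⁻¹ = (w * K.z) * y * (w * K.z)⁻¹ by group, hwz.eq]
      group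
  exact mem_normalizer_of_le fun x hx => hle ⟨x, hx, rfl⟩

theorem conj_A_of_img {w : G} {σ : Perm (Fin 9)} (hw : K.Img w σ)
    (h : ∀ p, ∃ p', σ * P9.word p * σ⁻¹ = P9.word p') : ∀ x ∈ F.A, w * x * w⁻¹ ∈ F.A := by
  intro x hx
  obtain ⟨p, rfl⟩ := F.exists_Aw hx
  obtain ⟨p', hp'⟩ := h p
  exact F.mem_A_of_img (hp' ▸ hw.conj (F.Aw_img p))
    (by rw [conj_pow, F.A_cube (F.Aw_mem p), mul_one, mul_inv_cancel])

theorem mem_NO_of_rep {w : G} {o : Fin 6 × Fin 4} {p : Fin 3 × Fin 3 × Fin 3}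
    (hw : K.Img w (P9.rep o * P9.word p)) : w ∈ F.NO := by
  refine F.mem_NO_of_A (comm_z hw) ?_
  intro x hx
  obtain ⟨r, hr⟩ := exists_img (K := K) (P9.rep_sign o)
  have e : K.Img (r * F.Aw p) (P9.rep o * P9.word p) := hr.mul (F.Aw_img p)
  have base : ∀ y ∈ F.A, r * y * r⁻¹ ∈ F.A := by
    have gen : ∀ (y : G) (i : Fin 6), y ^ 3 = 1 → K.Img y (P9.six i) → r * y * r⁻¹ ∈ F.A := by
      intro y i h3 hy
      obtain ⟨j, hj⟩ := P9.rep_six o i
      obtain ⟨p', hp'⟩ := (by decide +kernel : ∀ j, ∃ p, P9.word p = P9.six j) j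
      exact F.mem_A_of_img (hp' ▸ hj ▸ hr.conj hy) (by rw [conj_pow, h3, mul_one, mul_inv_cancel])
    rintro y ⟨i, j, k, rfl⟩
    rw [show r * (F.a ^ i * F.b ^ j * F.c ^ k) * r⁻¹ =
      r * F.a ^ i * r⁻¹ * (r * F.b ^ j * r⁻¹) * (r * F.c ^ k * r⁻¹) by group, ← conj_pow, ← conj_pow, ← conj_pow]
    exact mul_mem (mul_mem (pow_mem (gen _ 0 F.a3 F.ia) _) (pow_mem (gen _ 1 F.b3 F.ib) _))
      (pow_mem (gen _ 2 F.c3 F.ic) _)
  have hx' := base _ (mul_mem (mul_mem (F.Aw_mem p) hx) (inv_mem (F.Aw_mem p)))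
  rw [show r * (F.Aw p * x * (F.Aw p)⁻¹) * r⁻¹ = (r * F.Aw p) * x * (r * F.Aw p)⁻¹ by group] at hx'
  rcases e.lift_eq hw with h | h <;> rw [h]
  · exact hx'
  · rwa [show r * F.Aw p * K.z * x * (r * F.Aw p * K.z)⁻¹ =
      r * F.Aw p * (K.z * x * K.z⁻¹) * (r * F.Aw p)⁻¹ by group,
      ← ((F.mem_Wz.1 (F.A_le_Wz hx)).2).eq, mul_inv_cancel_right]

theorem img_cases {w : G} (hw : w ∈ F.NO) (hwz : Commute w K.z) :
    ∃ o p, K.Img w (P9.rep o * P9.word p) := by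
  obtain ⟨σ, hσ⟩ := exists_of_mem (K := K) (mem_C.2 hwz.eq)
  have hA : ∀ {y : G} {τ}, y ∈ F.A → K.Img y τ → ∃ p, σ * τ * σ⁻¹ = P9.word p := by
    intro y τ hy hiy
    have h1 : w * y * w⁻¹ ∈ F.O ⊓ Subgroup.centralizer ({K.z} : Set G) :=
      ⟨F.mem_NO_conj hw (F.A_le_O hy), Subgroup.mem_centralizer_singleton_iff.2
        ((hwz.mul_left (F.mem_Wz.1 (F.A_le_Wz hy)).2).mul_left hwz.inv_left)⟩
    rw [F.O_z] at h1
    obtain ⟨p, hp⟩ := F.exists_Aw h1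
    exact ⟨p, (hσ.conj hiy).unique (hp ▸ F.Aw_img p)⟩
  obtain ⟨o, p, h⟩ := P9.norm_cases hσ.sign_eq (hA F.a_A F.ia) (hA F.b_A F.ib) (hA F.c_A F.ic)
  exact ⟨o, p, h ▸ hσ⟩

/-- A chosen lift of a representative. -/
noncomputable def lift (_F : Triple K h9) (o : Fin 6 × Fin 4) : G :=
  (exists_img (K := K) (P9.rep_sign o)).choose

theorem lift_img (o : Fin 6 × Fin 4) : K.Img (F.lift o) (P9.rep o) :=
  (exists_img (K := K) (P9.rep_sign o)).choose_spec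

theorem lift_NO (o : Fin 6 × Fin 4) : F.lift o ∈ F.NO :=
  F.mem_NO_of_rep (p := (0, 0, 0)) (by
    rw [show P9.word (0, 0, 0) = 1 by decide +kernel, mul_one]; exact F.lift_img o)

theorem z_NO : K.z ∈ F.NO := F.mem_NO_of_W F.z_mem.1
theorem T_NO : F.T ∈ F.NO := F.mem_NO_of_W F.T_mem.1

/-- The image in the quotient. -/
abbrev q : ↥F.NO →* F.Quo := QuotientGroup.mk' _

theorem q_eq {x y : ↥F.NO} : F.q x = F.q y ↔ (x : G)⁻¹ * y ∈ F.O := by
  rw [show (F.q x = F.q y) = ((x : F.Quo) = (y : F.Quo)) from rfl, QuotientGroup.eq, Subgroup.mem_subgroupOf]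
  exact Iff.rfl

theorem q_one {x : ↥F.NO} : F.q x = 1 ↔ (x : G) ∈ F.O := by
  rw [show (F.q x = 1) = ((x : F.Quo) = 1) from rfl, QuotientGroup.eq_one_iff, Subgroup.mem_subgroupOf]

/-- The image of `z`. -/
def zX : F.Quo := F.q ⟨K.z, F.z_NO⟩

theorem zX_sq : F.zX * F.zX = 1 := by
  rw [zX, ← map_mul]
  exact F.q_one.2 (by show K.z * K.z ∈ F.O; rw [z_mul_z]; exact one_mem _)

theorem z_notO : K.z ∉ F.O := fun h => z_ne_one (eq_one_of_odd_sq F.O_odd h z_mul_z)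

theorem zX_ne : F.zX ≠ 1 := fun h => F.z_notO (F.q_one.1 h)

theorem zX_ord : orderOf F.zX = 2 := orderOf_eq_prime (by rw [pow_two]; exact F.zX_sq) F.zX_ne

/-- Centralizing elements lift. -/
theorem cent_lift {x : F.Quo} (hx : Commute x F.zX) : ∃ w : ↥F.NO, Commute (w : G) K.z ∧ F.q w = x := by
  obtain ⟨g, rfl⟩ := QuotientGroup.mk'_surjective _ x
  set y : G := (g : G) * K.z * (g : G)⁻¹ * K.z with hy
  have hyO : y ∈ F.O := by
    refine (F.q_one (x := g * ⟨K.z, F.z_NO⟩ * g⁻¹ * ⟨K.z, F.z_NO⟩)).1 ?_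
    rw [map_mul, map_mul, map_mul, map_inv]
    show F.q g * F.zX * (F.q g)⁻¹ * F.zX = 1
    rw [hx.eq, mul_inv_cancel_right, F.zX_sq]
  set k := SmallCent.sqr F.O y with hk
  have hkO : k ∈ F.O := SmallCent.sqr_mem hyO
  have hkk : k * k = y := SmallCent.sqr_mul_self F.O_odd hyO
  have hzy : K.z * y * K.z⁻¹ = y⁻¹ := by
    calc K.z * y * K.z⁻¹ = K.z * ((g : G) * K.z * (g : G)⁻¹) * (K.z * K.z⁻¹) := by rw [hy]; group
      _ = K.z⁻¹ * ((g : G) * K.z⁻¹ * (g : G)⁻¹) := by rw [mul_inv_cancel, mul_one, z_inv]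
      _ = y⁻¹ := by rw [hy]; group
  have hzk : K.z * k * K.z⁻¹ = k⁻¹ := by
    rw [hk, SmallCent.conj_sqr, hzy]
    refine (SmallCent.eq_sqr F.O_odd (inv_mem hkO) ?_).symm
    rw [← mul_inv_rev, hkk]
  refine ⟨⟨k⁻¹, F.O_le_NO (inv_mem hkO)⟩ * g, ?_, ?_⟩
  · show k⁻¹ * g * K.z = K.z * (k⁻¹ * g)
    calc k⁻¹ * g * K.z = k⁻¹ * (y * K.z⁻¹) * g := by rw [hy]; group
      _ = k * K.z * g := by rw [← hkk, z_inv]; group
      _ = (K.z * (K.z * k * K.z⁻¹)) * g := by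
        rw [show K.z * (K.z * k * K.z⁻¹) = (K.z * K.z) * k * K.z⁻¹ by group, z_mul_z, z_inv, one_mul]
      _ = _ := by rw [hzk]; group
  · rw [map_mul, F.q_one.2 (show ((⟨k⁻¹, F.O_le_NO (inv_mem hkO)⟩ : ↥F.NO) : G) ∈ F.O from inv_mem hkO), one_mul]

theorem A_q {x : ↥F.NO} (hx : (x : G) ∈ F.A) : F.q x = 1 := F.q_one.2 (F.A_le_O hx)

/-- The centralizer of the image of `z`. -/
abbrev CX : Subgroup F.Quo := Subgroup.centralizer ({F.zX} : Set F.Quo)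

theorem mem_CX_of {w : ↥F.NO} (h : Commute (w : G) K.z) : F.q w ∈ F.CX :=
  Subgroup.mem_centralizer_singleton_iff.2 ((show Commute w ⟨K.z, F.z_NO⟩ from Subtype.ext h.eq).map F.q).eq

/-- The parameters of the centralizer. -/
noncomputable def param (p : (Fin 6 × Fin 4) × Bool) : ↥F.CX :=
  ⟨F.q (⟨F.lift p.1, F.lift_NO p.1⟩ * if p.2 then ⟨K.z, F.z_NO⟩ else 1), F.mem_CX_of (by
    cases p.2
    · simpa using comm_z (F.lift_img p.1)
    · simpa using (comm_z (F.lift_img p.1)).mul_left (Commute.refl K.z))⟩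

theorem cases_img {w : ↥F.NO} {o : Fin 6 × Fin 4} {p : Fin 3 × Fin 3 × Fin 3}
    (hw : K.Img (w : G) (P9.rep o * P9.word p)) (h : Commute (w : G) K.z) :
    ∃ e, (⟨F.q w, F.mem_CX_of h⟩ : ↥F.CX) = F.param (o, e) := by
  rcases ((F.lift_img o).mul (F.Aw_img p)).lift_eq hw with e | e
  · refine ⟨false, Subtype.ext ((F.q_eq).2 ?_)⟩
    show (w : G)⁻¹ * (F.lift o * 1) ∈ F.O
    rw [e, mul_one, mul_inv_rev, inv_mul_cancel_right]
    exact F.A_le_O (inv_mem (F.Aw_mem p))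
  · refine ⟨true, Subtype.ext ((F.q_eq).2 ?_)⟩
    show (w : G)⁻¹ * (F.lift o * K.z) ∈ F.O
    have hA := (F.mem_Wz.1 (F.A_le_Wz (inv_mem (F.Aw_mem p)))).2
    rw [e, show (F.lift o * F.Aw p * K.z)⁻¹ * (F.lift o * K.z) = K.z⁻¹ * (F.Aw p)⁻¹ * K.z by group,
      mul_assoc, hA.eq, inv_mul_cancel_left]
    exact F.A_le_O (inv_mem (F.Aw_mem p))

theorem param_surj (x : ↥F.CX) : ∃ p, F.param p = x := by
  obtain ⟨w, hwz, hw⟩ := F.cent_lift (Subgroup.mem_centralizer_singleton_iff.1 x.2)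
  obtain ⟨o, p, h⟩ := F.img_cases w.2 hwz
  obtain ⟨e, he⟩ := F.cases_img h hwz
  exact ⟨(o, e), he.symm.trans (Subtype.ext hw)⟩

theorem param_inj : Function.Injective F.param := by
  rintro ⟨o, e⟩ ⟨o', e'⟩ h
  have h0 := (F.q_eq).1 (congrArg Subtype.val h)
  set s : G := ((if e then ⟨K.z, F.z_NO⟩ else 1 : ↥F.NO) : G) with hs
  set s' : G := ((if e' then ⟨K.z, F.z_NO⟩ else 1 : ↥F.NO) : G) with hs'
  have hsI : K.Img s 1 := by rw [hs]; cases e <;> simp [Img.one, img_z]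
  have hsI' : K.Img s' 1 := by rw [hs']; cases e' <;> simp [Img.one, img_z]
  have hi := (((F.lift_img o).mul hsI).inv).mul ((F.lift_img o').mul hsI')
  have hz : Commute ((F.lift o * s)⁻¹ * (F.lift o' * s')) K.z := comm_z hi
  have hA : (F.lift o * s)⁻¹ * (F.lift o' * s') ∈ F.A := by
    rw [← F.O_z]; exact ⟨h0, Subgroup.mem_centralizer_singleton_iff.2 hz⟩
  obtain ⟨p, hp⟩ := F.exists_Aw hA
  have e1 := hi.unique (hp ▸ F.Aw_img p)
  rw [mul_one, mul_one, inv_mul_eq_iff_eq_mul] at e1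
  have key : ∀ i, P9.rep o' * P9.six i * (P9.rep o')⁻¹ = P9.rep o * P9.six i * (P9.rep o)⁻¹ := fun i => by
    rw [e1, show P9.rep o * P9.word p * P9.six i * (P9.rep o * P9.word p)⁻¹ =
      P9.rep o * (P9.word p * P9.six i * (P9.word p)⁻¹) * (P9.rep o)⁻¹ by group, P9.word_comm_six,
      mul_inv_cancel_right]
  obtain rfl := P9.rep_inj o o' (key 0).symm (key 1).symm (key 2).symm
  suffices e = e' by rw [this]
  by_contra hne
  refine F.z_notO (F.A_le_O ?_)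
  rw [show (F.lift o * s)⁻¹ * (F.lift o * s') = s⁻¹ * s' by group] at hA
  rcases Bool.eq_false_or_eq_true e with he | he <;> subst he <;>
    rcases Bool.eq_false_or_eq_true e' with he' | he' <;> subst he' <;> simp [hs, hs'] at hA hne ⊢ <;> exact hA

theorem card_CX : Nat.card ↥F.CX = 48 := by
  rw [← Nat.card_eq_of_bijective F.param ⟨F.param_inj, F.param_surj⟩, Nat.card_prod, Nat.card_prod, Nat.card_fin,
    Nat.card_fin]
  simp [Nat.card_eq_fintype_card]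

theorem zX_CX : F.zX ∈ F.CX := F.mem_CX_of (w := ⟨K.z, F.z_NO⟩) (Commute.refl _)

theorem T_CX : F.q ⟨F.T, F.T_NO⟩ ∈ F.CX := F.mem_CX_of (w := ⟨F.T, F.T_NO⟩) F.Tz

/-- The elements fixing all blocks. -/
def LX : Subgroup ↥F.CX where
  carrier := {x | ∃ w : ↥F.NO, F.q w = x ∧ ∃ σ ∈ P9.blocks, K.Img (w : G) σ}
  one_mem' := ⟨1, map_one _, 1, one_mem _, Img.one⟩
  mul_mem' := fun ⟨w, hw, σ, hσ, hi⟩ ⟨w', hw', σ', hσ', hi'⟩ =>
    ⟨w * w', by rw [map_mul, hw, hw']; rfl, σ * σ', mul_mem hσ hσ', hi.mul hi'⟩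
  inv_mem' := fun ⟨w, hw, σ, hσ, hi⟩ => ⟨w⁻¹, by rw [map_inv, hw]; rfl, σ⁻¹, inv_mem hσ, hi.inv⟩

theorem LX_param (o : Fin 6 × Fin 4) (e : Bool) : F.param (o, e) ∈ F.LX ↔ o.1 = 0 := by
  constructor
  · rintro ⟨w, hw, σ, hσ, hi⟩
    obtain ⟨o', p, h⟩ := F.img_cases w.2 (comm_z hi)
    obtain rfl := hi.unique h
    obtain ⟨e', he'⟩ := F.cases_img h (comm_z h)
    have hp : (o', e') = (o, e) := F.param_inj (he'.symm.trans (Subtype.ext hw))
    obtain ⟨rfl, -⟩ := Prod.ext_iff.1 hp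
    have h2 := mul_mem hσ (inv_mem (P9.word_blocks p))
    rw [mul_inv_cancel_right] at h2
    exact (P9.rep_blocks _).1 h2
  · intro ho
    refine ⟨⟨F.lift o, F.lift_NO o⟩ * if e then ⟨K.z, F.z_NO⟩ else 1, rfl, P9.rep o,
      (P9.rep_blocks o).2 ho, ?_⟩
    cases e
    · simpa using F.lift_img o
    · simpa using (F.lift_img o).mul_z

theorem card_LX : Nat.card ↥F.LX = 8 := by
  let f : Fin 4 × Bool → ↥F.LX := fun p => ⟨F.param ((0, p.1), p.2), (F.LX_param _ _).2 rfl⟩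
  have hf : Function.Bijective f := by
    refine ⟨fun p p' h => ?_, fun x => ?_⟩
    · have h' := F.param_inj (congrArg Subtype.val h)
      simp only [Prod.mk.injEq, true_and] at h'
      exact Prod.ext h'.1 h'.2
    · obtain ⟨⟨o, e⟩, hp⟩ := F.param_surj x.1
      have ho : o.1 = 0 := (F.LX_param o e).1 (by rw [hp]; exact x.2)
      refine ⟨(o.2, e), Subtype.ext ?_⟩
      show F.param ((0, o.2), e) = _
      rw [← ho, hp]
  rw [← Nat.card_eq_of_bijective f hf, Nat.card_prod, Nat.card_fin]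
  simp [Nat.card_eq_fintype_card]

theorem LX_normal : F.LX.Normal := by
  refine ⟨?_⟩
  rintro x ⟨w, hw, σ, hσ, hi⟩ y
  obtain ⟨v, hvz, hv⟩ := F.cent_lift (Subgroup.mem_centralizer_singleton_iff.1 y.2)
  obtain ⟨o, p, hvi⟩ := F.img_cases v.2 hvz
  refine ⟨v * w * v⁻¹, by rw [map_mul, map_mul, map_inv, hw, hv]; rfl,
    (P9.rep o * P9.word p) * σ * (P9.rep o * P9.word p)⁻¹, ?_, hvi.conj hi⟩
  rw [show P9.rep o * P9.word p * σ * (P9.rep o * P9.word p)⁻¹ =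
    P9.rep o * (P9.word p * σ * (P9.word p)⁻¹) * (P9.rep o)⁻¹ by group]
  exact P9.rep_conj_blocks o (mul_mem (mul_mem (P9.word_blocks p) hσ) (inv_mem (P9.word_blocks p)))

theorem LX_sq {x : ↥F.CX} (hx : x ∈ F.LX) (hxx : x * x = 1) : x = 1 ∨ x = ⟨F.zX, F.zX_CX⟩ := by
  obtain ⟨⟨o, e⟩, rfl⟩ := F.param_surj x
  have ho := (F.LX_param o e).1 hx
  obtain ⟨o1, o2⟩ := o
  obtain rfl : o1 = 0 := ho
  have hr : P9.rep (0, o2) = P9.invEl o2 := one_mul _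
  by_cases h0 : o2 = 0
  · subst h0
    have hl : K.Img (F.lift (0, 0)) 1 := by
      have := F.lift_img (0, 0)
      rwa [hr, show P9.invEl 0 = 1 from rfl] at this
    have hz : ∀ w : ↥F.NO, ((w : G) = 1 ∨ (w : G) = K.z) → F.q w = 1 ∨ F.q w = F.zX := by
      rintro w (h | h)
      · exact Or.inl (by rw [show w = 1 from Subtype.ext h, map_one])
      · exact Or.inr (congrArg F.q (Subtype.ext h))
    have hi : K.Img ((⟨F.lift (0, 0), F.lift_NO _⟩ * if e then ⟨K.z, F.z_NO⟩ else 1 : ↥F.NO) : G) 1 := by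
      cases e
      · simpa using hl
      · simpa using hl.mul_z
    rcases hz _ hi.eq_or with h | h
    · exact Or.inl (Subtype.ext h)
    · exact Or.inr (Subtype.ext h)
  · exfalso
    have hi : K.Img ((⟨F.lift (0, o2), F.lift_NO _⟩ * if e then ⟨K.z, F.z_NO⟩ else 1 : ↥F.NO) : G)
        (P9.invEl o2) := by
      cases e
      · simpa [hr] using F.lift_img (0, o2)
      · simpa [hr] using (F.lift_img (0, o2)).mul_z
    have h1 : F.q (_ * _) = 1 := (map_mul F.q _ _).trans (congrArg Subtype.val hxx)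
    have h2 := (F.q_one).1 h1
    rw [Subgroup.coe_mul, hi.sq (P9.invEl_quad o2 h0)] at h2
    exact F.z_notO h2

theorem LX_cent : Subgroup.centralizer (F.LX : Set ↥F.CX) ≤ F.LX := by
  intro x hx
  obtain ⟨⟨o, e⟩, rfl⟩ := F.param_surj x
  rw [F.LX_param]
  by_contra ho
  obtain ⟨i, j, hij⟩ := P9.rep_mixed o ho
  have hc : F.param ((0, i), false) * F.param (o, e) = F.param (o, e) * F.param ((0, i), false) :=
    Subgroup.mem_centralizer_iff.1 hx _ ((F.LX_param (0, i) false).2 rfl)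
  have hcx := commutatorElement_eq_one_iff_mul_comm.2 hc.symm
  set u : ↥F.NO := ⟨F.lift o, F.lift_NO o⟩ * if e then ⟨K.z, F.z_NO⟩ else 1
  set v : ↥F.NO := ⟨F.lift (0, i), F.lift_NO _⟩ * 1
  have hu : K.Img (u : G) (P9.rep o) := by
    cases e
    · simpa [u] using F.lift_img o
    · simpa [u] using (F.lift_img o).mul_z
  have hv : K.Img (v : G) (P9.invEl i) := by
    simpa [v, show P9.rep (0, i) = P9.invEl i from one_mul _] using F.lift_img (0, i)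
  have h1 : F.q ⁅u, v⁆ = 1 := (map_commutatorElement F.q u v).trans (congrArg Subtype.val hcx)
  have hI : K.Img ((⁅u, v⁆ : ↥F.NO) : G) (P9.rep o * P9.invEl i * (P9.rep o)⁻¹ * (P9.invEl i)⁻¹) :=
    (hu.conj hv).mul hv.inv
  have hA : ((⁅u, v⁆ : ↥F.NO) : G) ∈ F.A := by
    rw [← F.O_z]; exact ⟨F.q_one.1 h1, Subgroup.mem_centralizer_singleton_iff.2 (comm_z hI)⟩
  obtain ⟨p, hp⟩ := F.exists_Aw hA
  refine hij ?_
  rw [hI.unique (hp ▸ F.Aw_img p), P9.word_comm_six, mul_inv_cancel_right]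

theorem LX_na : ¬ ∀ a b : ↥F.LX, a * b = b * a := by
  intro h
  have hc := commutatorElement_eq_one_iff_mul_comm.2
    (congrArg Subtype.val (h ⟨F.param ((0, 1), false), (F.LX_param _ _).2 rfl⟩
      ⟨F.param ((0, 2), false), (F.LX_param _ _).2 rfl⟩))
  set u : ↥F.NO := ⟨F.lift (0, 1), F.lift_NO _⟩ * 1
  set v : ↥F.NO := ⟨F.lift (0, 2), F.lift_NO _⟩ * 1
  have h1 : F.q ⁅u, v⁆ = 1 := (map_commutatorElement F.q u v).trans (congrArg Subtype.val hc)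
  have hu : K.Img (u : G) (P9.invEl 1) := by
    simpa [u, show P9.rep (0, 1) = P9.invEl 1 from one_mul _] using F.lift_img (0, 1)
  have hv : K.Img (v : G) (P9.invEl 2) := by
    simpa [v, show P9.rep (0, 2) = P9.invEl 2 from one_mul _] using F.lift_img (0, 2)
  have hp : IsQuad (P9.invEl 1 * P9.invEl 2) := ⟨by decide +kernel, by decide +kernel⟩
  have ha := hu.anticomm hv (P9.invEl_quad 1 (by decide)) (P9.invEl_quad 2 (by decide)) hp
  have e : ((⁅u, v⁆ : ↥F.NO) : G) = K.z := by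
    show (u : G) * v * (u : G)⁻¹ * (v : G)⁻¹ = K.z
    rw [ha, show (v : G) * u * K.z * (u : G)⁻¹ * (v : G)⁻¹ = v * (u * K.z * (u : G)⁻¹) * (v : G)⁻¹ by group,
      hu.comm, mul_inv_cancel_right, hv.comm, mul_inv_cancel_right]
  exact F.z_notO (e ▸ F.q_one.1 h1)

theorem T_notLX : (⟨F.q ⟨F.T, F.T_NO⟩, F.T_CX⟩ : ↥F.CX) ∉ F.LX := by
  rintro ⟨w, hw, σ, hσ, hi⟩
  have h1 : (w : G)⁻¹ * F.T ∈ F.O ⊓ Subgroup.centralizer ({K.z} : Set G) :=
    ⟨F.q_eq.1 hw, Subgroup.mem_centralizer_singleton_iff.2 ((comm_z hi).inv_left.mul_left F.Tz)⟩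
  rw [F.O_z] at h1
  obtain ⟨p, hp⟩ := F.exists_Aw h1
  have h2 := (hi.inv.mul F.iT).unique (hp ▸ F.Aw_img p)
  rw [inv_mul_eq_iff_eq_mul] at h2
  have h3 : X0 ∈ P9.blocks := h2 ▸ mul_mem hσ (P9.word_blocks p)
  exact absurd (P9.mem_blocks.1 h3) (by decide +kernel)

theorem exists_iso : Nonempty (↥F.CX ≃* GL23.Q) := by
  haveI := F.LX_normal
  refine CentSix.iso_gl_two_three F.card_CX F.LX F.card_LX ?_ F.LX_na F.LX_cent ⟨_, F.T_CX⟩ ?_ F.T_notLX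
  · refine ⟨⟨F.zX, F.zX_CX⟩, ?_, fun x hx h => F.LX_sq hx h⟩
    exact ⟨⟨K.z, F.z_NO⟩, rfl, 1, one_mem _, img_z⟩
  · refine Subtype.ext ?_
    show F.q ⟨F.T, F.T_NO⟩ * F.q ⟨F.T, F.T_NO⟩ = 1
    rw [← map_mul]
    exact F.q_one.2 (by show F.T * F.T ∈ F.O; rw [F.sq]; exact one_mem _)

end Cfg.Triple

end Cfsg.Agent.Invol.TwoAn
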