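import Mathlib
import Cfsg.Agent.Lib.Invol.TwoAn.NineQ

/-!
# Degree nine: the order of the normalizer quotient
-/

set_option autoImplicit false
set_option linter.unusedSectionVars false
set_option maxRecDepth 100000

namespace Cfsg.Agent.Invol.TwoAn

open Equiv Equiv.Perm

universe u

variable {G : Type u} [Group G] [Finite G]

set_option synthInstance.maxSize 2000 in
set_option synthInstance.maxHeartbeats 400000 in
theorem gl_invol : ∀ u v : GL (Fin 2) (ZMod 3), u * u = 1 → v * v = 1 → ¬ (∀ g, g * u = u * g) →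
    ¬ (∀ g, g * v = v * g) → ∃ g, g * u * g⁻¹ = v := by decide +kernel

set_option synthInstance.maxSize 2000 in
set_option synthInstance.maxHeartbeats 400000 in
theorem gl_three : ∀ u v : GL (Fin 2) (ZMod 3), u * u * u = 1 → v * v * v = 1 → u ≠ 1 → v ≠ 1 →
    ∃ g, g * u * g⁻¹ = v ∨ g * u * g⁻¹ = v⁻¹ := by decide +kernel

namespace Cfg.Triple

variable {K : Cfg G 9} {h9 : 9 ≤ 9} (F : Triple K h9)

theorem sylow_le : ∃ P : Sylow 2 F.Quo, (P : Subgroup F.Quo) ≤ F.CX := by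
  classical
  haveI : Fact (Nat.Prime 2) := ⟨Nat.prime_two⟩
  set L := F.LX.map F.CX.subtype with hL
  have hLp : IsPGroup 2 L := by
    refine IsPGroup.of_card (n := 3) ?_
    rw [hL, Subgroup.card_map_of_injective F.CX.subtype_injective, F.card_LX]; norm_num
  obtain ⟨P, hP⟩ := hLp.exists_le_sylow
  refine ⟨P, ?_⟩
  have hzL : F.zX ∈ L := ⟨⟨F.zX, F.zX_CX⟩, ⟨⟨K.z, F.z_NO⟩, rfl, 1, one_mem _, img_z⟩, rfl⟩
  haveI : Nontrivial ↥(P : Subgroup F.Quo) :=
    ⟨⟨⟨F.zX, hP hzL⟩, 1, fun e => F.zX_ne (congrArg Subtype.val e)⟩⟩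
  haveI := P.isPGroup'.center_nontrivial
  obtain ⟨k, hk⟩ := IsPGroup.iff_card.1 (P.isPGroup'.to_subgroup (Subgroup.center ↥(P : Subgroup F.Quo)))
  have hd : 2 ∣ Nat.card (Subgroup.center ↥(P : Subgroup F.Quo)) := by
    have h1 := Finite.one_lt_card (α := Subgroup.center ↥(P : Subgroup F.Quo))
    rw [hk] at h1 ⊢
    exact dvd_pow_self 2 (by rintro rfl; simp at h1)
  obtain ⟨⟨⟨u, huP⟩, huc⟩, hu⟩ := exists_prime_orderOf_dvd_card' 2 hd
  rw [Subgroup.orderOf_mk, Subgroup.orderOf_mk] at hu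
  have hcomm : ∀ y ∈ (P : Subgroup F.Quo), y * u = u * y := fun y hy =>
    congrArg Subtype.val (Subgroup.mem_center_iff.1 huc ⟨y, hy⟩)
  have huC : u ∈ F.CX := Subgroup.mem_centralizer_singleton_iff.2 (hcomm _ (hP hzL)).symm
  have huL : (⟨u, huC⟩ : ↥F.CX) ∈ F.LX := F.LX_cent (Subgroup.mem_centralizer_iff.2 fun y hy =>
    Subtype.ext (hcomm _ (hP ⟨y, hy, rfl⟩)))
  have h2 : (⟨u, huC⟩ : ↥F.CX) * ⟨u, huC⟩ = 1 := Subtype.ext (by
    show u * u = 1; rw [← pow_two, ← hu, pow_orderOf_eq_one])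
  rcases F.LX_sq huL h2 with e | e
  · rw [show u = 1 from congrArg Subtype.val e, orderOf_one] at hu; omega
  · have e' : u = F.zX := congrArg Subtype.val e
    exact fun y hy => Subgroup.mem_centralizer_singleton_iff.2 (e' ▸ hcomm y hy)

theorem T_not_central : ¬ ∀ y : ↥F.CX, y * ⟨F.q ⟨F.T, F.T_NO⟩, F.T_CX⟩ = ⟨F.q ⟨F.T, F.T_NO⟩, F.T_CX⟩ * y := by
  intro h
  have hg : F.g ∈ F.NO := mem_normalizer_of_le fun x hx => F.O_conj (Or.inr F.g_ab) hx
  have h2 := congrArg Subtype.val (h ⟨F.q ⟨F.g, hg⟩, F.mem_CX_of (w := ⟨F.g, hg⟩) F.gz⟩)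
  have h3 : F.q (⟨F.g, hg⟩ * ⟨F.T, F.T_NO⟩) = F.q (⟨F.T, F.T_NO⟩ * ⟨F.g, hg⟩) := by
    rw [map_mul, map_mul]; exact h2
  have h4 := F.q_eq.1 h3
  refine F.z_notO ?_
  have e : F.g * F.T = F.T * K.z * F.g := by rw [← F.g_T]; group
  rw [show ((⟨F.g, hg⟩ * ⟨F.T, F.T_NO⟩ : ↥F.NO) : G) = F.g * F.T from rfl,
    show ((⟨F.T, F.T_NO⟩ * ⟨F.g, hg⟩ : ↥F.NO) : G) = F.T * F.g from rfl, e,
    show (F.T * K.z * F.g)⁻¹ * (F.T * F.g) = F.g⁻¹ * (K.z⁻¹ * F.g) by group, z_inv, ← F.gz.eq,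
    inv_mul_cancel_left] at h4
  exact h4

theorem rot_NO {ρ : G} (hρ : Commute ρ (F.a * F.b)) : ρ ∈ F.NO := F.mem_NO_of_W (F.mem_W.2 hρ)

theorem T_conj_zX : IsConj F.zX (F.q ⟨F.T, F.T_NO⟩) := by
  obtain ⟨ρ, hρ, r1, -, -⟩ := F.exists_rot (by norm_num)
  refine isConj_iff.2 ⟨F.q ⟨ρ, F.rot_NO hρ⟩, ?_⟩
  rw [zX, ← map_mul, ← map_inv, ← map_mul]
  exact congrArg F.q (Subtype.ext r1)

/-- All involutions of the quotient are conjugate. -/
theorem invol_conj {u : F.Quo} (hu : orderOf u = 2) : IsConj F.zX u := by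
  obtain ⟨e⟩ := F.exists_iso
  haveI : Fact (Nat.Prime 2) := ⟨Nat.prime_two⟩
  obtain ⟨P, hP⟩ := F.sylow_le
  obtain ⟨Q, hQ⟩ := (IsPGroup.of_card (p := 2) (n := 1) (G := Subgroup.zpowers u)
    (by rw [Nat.card_zpowers, hu, pow_one])).exists_le_sylow
  obtain ⟨g, hg⟩ := MulAction.exists_smul_eq F.Quo Q P
  have hu' : g * u * g⁻¹ ∈ F.CX := by
    refine hP ?_
    rw [← hg, Sylow.coe_subgroup_smul, Subgroup.mem_pointwise_smul_iff_inv_smul_mem]
    have e' : (MulAut.conj g)⁻¹ • (g * u * g⁻¹) = u := by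
      show (MulAut.conj g)⁻¹ (g * u * g⁻¹) = u
      rw [MulAut.conj_inv_apply]; group
    rw [e']
    exact hQ (Subgroup.mem_zpowers u)
  refine IsConj.trans ?_ (isConj_iff.2 ⟨g⁻¹, show g⁻¹ * (g * u * g⁻¹) * g⁻¹⁻¹ = u by group⟩)
  set u' : ↥F.CX := ⟨g * u * g⁻¹, hu'⟩
  have h2 : u' * u' = 1 := Subtype.ext (by
    show g * u * g⁻¹ * (g * u * g⁻¹) = 1
    rw [← pow_two, conj_pow, ← hu, pow_orderOf_eq_one, mul_one, mul_inv_cancel])
  have hne : u' ≠ 1 := fun h => by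
    have h' := congrArg Subtype.val h
    rw [show ((u' : ↥F.CX) : F.Quo) = g * u * g⁻¹ from rfl, OneMemClass.coe_one, conj_eq_one_iff] at h'
    rw [h', orderOf_one] at hu; omega
  by_cases hc : ∀ y : ↥F.CX, y * u' = u' * y
  · have hL : u' ∈ F.LX := F.LX_cent (Subgroup.mem_centralizer_iff.2 fun y _ => hc y)
    rcases F.LX_sq hL h2 with h | h
    · exact absurd h hne
    · rw [show g * u * g⁻¹ = F.zX from congrArg Subtype.val h]
  · set t : ↥F.CX := ⟨F.q ⟨F.T, F.T_NO⟩, F.T_CX⟩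
    have ht2 : t * t = 1 := Subtype.ext (by
      show F.q ⟨F.T, F.T_NO⟩ * F.q ⟨F.T, F.T_NO⟩ = 1
      rw [← map_mul]
      exact F.q_one.2 (by show F.T * F.T ∈ F.O; rw [F.sq]; exact one_mem _))
    have nc : ∀ {v : ↥F.CX}, ¬ (∀ y, y * v = v * y) → ¬ ∀ y, y * e v = e v * y := fun {v} h h' =>
      h fun y => e.injective (by rw [map_mul, map_mul, h'])
    obtain ⟨k, hk⟩ := gl_invol (e t) (e u') (by rw [← map_mul, ht2, map_one]) (by rw [← map_mul, h2, map_one])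
      (nc F.T_not_central) (nc hc)
    have hk' : e.symm k * t * (e.symm k)⁻¹ = u' := e.injective (by simp [hk])
    exact F.T_conj_zX.trans (isConj_iff.2 ⟨(e.symm k : ↥F.CX), congrArg Subtype.val hk'⟩)

theorem residual_top : Cfsg.pResidual 2 F.Quo = ⊤ := by
  classical
  haveI : Fact (Nat.Prime 2) := ⟨Nat.prime_two⟩
  set M := Cfsg.pResidual 2 F.Quo with hM
  haveI : M.Normal := by
    haveI : (Cfsg.pResidual 2 F.Quo).Characteristic := Invol.pResidual_characteristic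
    exact inferInstanceAs (Cfsg.pResidual 2 F.Quo).Normal
  by_contra hne
  have hp : IsPGroup 2 (F.Quo ⧸ M) := Invol.isPGroup_quotient_pResidual
  haveI : Nontrivial (F.Quo ⧸ M) := by
    by_contra hn
    rw [not_nontrivial_iff_subsingleton] at hn
    exact hne (eq_top_iff.2 fun x _ => (QuotientGroup.eq_one_iff x).1 (Subsingleton.elim _ _))
  haveI := hp.isNilpotent
  have hlt := Group.IsSolvable.commutator_lt_top_of_nontrivial (F.Quo ⧸ M)
  set φ : F.Quo →* Abelianization (F.Quo ⧸ M) := Abelianization.of.comp (QuotientGroup.mk' M)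
  have hφs : Function.Surjective φ :=
    (QuotientGroup.mk'_surjective (commutator (F.Quo ⧸ M))).comp (QuotientGroup.mk'_surjective M)
  have two : ∀ x : F.Quo, ∃ k, φ x ^ 2 ^ k = 1 := fun x => by
    obtain ⟨k, hk⟩ := hp (QuotientGroup.mk' M x)
    refine ⟨k, ?_⟩
    show Abelianization.of (QuotientGroup.mk' M x) ^ 2 ^ k = 1
    rw [← map_pow, hk, map_one]
  have conj : ∀ {x y : F.Quo}, IsConj x y → φ x = φ y := fun {x y} h => by
    obtain ⟨g, rfl⟩ := isConj_iff.1 h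
    rw [map_mul, map_mul, map_inv, mul_comm (φ g), mul_inv_cancel_right]
  set t := F.q ⟨F.T, F.T_NO⟩
  have htz : φ F.zX = 1 := by
    have h1 := conj F.T_conj_zX
    obtain ⟨ρ, hρ, -, -, r3⟩ := F.exists_rot (by norm_num)
    have h2 : φ (t * F.zX) = φ F.zX := conj (isConj_iff.2 ⟨F.q ⟨ρ, F.rot_NO hρ⟩, by
      simp only [t, zX, ← map_mul, ← map_inv]
      exact congrArg F.q (Subtype.ext r3)⟩)
    rw [map_mul, ← h1, mul_eq_left] at h2
    exact h2
  have htT : φ t = 1 := (conj F.T_conj_zX).symm.trans htz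
  have hlz : ∀ w : ↥F.NO, K.Img (w : G) 1 → φ (F.q w) = 1 := by
    intro w hw
    rcases hw.eq_or with h | h
    · rw [show w = 1 from Subtype.ext h, map_one, map_one]
    · rw [show w = ⟨K.z, F.z_NO⟩ from Subtype.ext h]; exact htz
  have same : ∀ {v w : ↥F.NO} {σ}, K.Img (v : G) σ → K.Img (w : G) σ → φ (F.q v) = φ (F.q w) := by
    intro v w σ hv hw
    have h := hlz (v⁻¹ * w) (by have := hv.inv.mul hw; rwa [inv_mul_cancel] at this)
    rwa [map_mul, map_mul, map_inv, map_inv, inv_mul_eq_one] at h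
  let l : Fin 6 × Fin 4 → Abelianization (F.Quo ⧸ M) := fun o => φ (F.q ⟨F.lift o, F.lift_NO o⟩)
  -- the cycle of the blocks and the quads
  obtain ⟨d, hd, hd3, -, -, -⟩ := F.exists_d
  have hdN : d ∈ F.NO := F.mem_NO_of_rep (o := (1, 0)) (p := (0, 0, 0)) (by
    rw [show P9.rep (1, 0) * P9.word (0, 0, 0) = D0 by decide +kernel]; exact hd)
  have hφd : φ (F.q ⟨d, hdN⟩) = 1 := by
    obtain ⟨k, hk⟩ := two (F.q ⟨d, hdN⟩)
    have h3 : φ (F.q ⟨d, hdN⟩) ^ 3 = 1 := by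
      rw [← map_pow, ← map_pow, show (⟨d, hdN⟩ : ↥F.NO) ^ 3 = 1 from Subtype.ext hd3, map_one, map_one]
    exact orderOf_eq_one_iff.1 (Nat.eq_one_of_dvd_coprimes (Nat.Coprime.pow_right k (by norm_num : Nat.Coprime 3 2))
      (orderOf_dvd_of_pow_eq_one h3) (orderOf_dvd_of_pow_eq_one hk))
  have hquad : ∀ e : Fin 4, l (0, e) = 1 := by
    have r : ∀ e, P9.rep (0, e) = P9.invEl e := fun e => one_mul _
    have i0 := F.lift_img (0, 1)
    rw [r] at i0
    have i2 := F.lift_img (0, 3)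
    rw [r] at i2
    have i1 := F.lift_img (0, 2)
    rw [r] at i1
    have e2 : l (0, 3) = l (0, 1) := by
      have := same (v := ⟨F.lift (0, 3), F.lift_NO _⟩) (w := ⟨d, hdN⟩ * ⟨F.lift (0, 1), F.lift_NO _⟩ * ⟨d, hdN⟩⁻¹) i2
        (by have := hd.conj i0; rwa [show D0 * P9.invEl 1 * D0⁻¹ = P9.invEl 3 by decide +kernel] at this)
      simp only [map_mul, map_inv, hφd, one_mul, inv_one, mul_one] at this
      exact this
    have e1 : l (0, 2) = l (0, 1) := by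
      have := same (v := ⟨F.lift (0, 2), F.lift_NO _⟩) (w := ⟨d, hdN⟩⁻¹ * ⟨F.lift (0, 1), F.lift_NO _⟩ * ⟨d, hdN⟩) i1
        (by have := (hd.inv.mul i0).mul hd
            rwa [show D0⁻¹ * P9.invEl 1 * D0 = P9.invEl 2 by decide +kernel] at this)
      simp only [map_mul, map_inv, hφd, one_mul, inv_one, mul_one] at this
      exact this
    have e3 : l (0, 3) = l (0, 1) * l (0, 2) := by
      have := same (v := ⟨F.lift (0, 3), F.lift_NO _⟩)
        (w := ⟨F.lift (0, 1), F.lift_NO _⟩ * ⟨F.lift (0, 2), F.lift_NO _⟩) i2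
        (by have := i0.mul i1; rwa [show P9.invEl 1 * P9.invEl 2 = P9.invEl 3 by decide +kernel] at this)
      simp only [map_mul] at this
      exact this
    have g1 : l (0, 1) = 1 := by rw [e2, e1] at e3; exact mul_eq_left.1 e3.symm
    have i00 := F.lift_img (0, 0)
    rw [show P9.rep (0, 0) = 1 by decide +kernel] at i00
    intro e; fin_cases e
    · exact hlz _ i00
    · exact g1
    · exact e1.trans g1
    · exact e2.trans g1
  have hall : ∀ o, l o = 1 := by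
    rintro ⟨o1, o2⟩
    have hb : ∀ i : Fin 6, ∀ w : ↥F.NO, K.Img (w : G) (P9.blockEl i) → φ (F.q w) = 1 → l (i, o2) = 1 := by
      intro i w hw h1
      have h0 := F.lift_img (0, o2)
      rw [show P9.rep (0, o2) = P9.invEl o2 from one_mul _] at h0
      have := same (v := ⟨F.lift (i, o2), F.lift_NO _⟩) (w := w * ⟨F.lift (0, o2), F.lift_NO _⟩)
        (F.lift_img (i, o2)) (hw.mul h0)
      rw [map_mul, map_mul, h1, one_mul] at this
      exact this.trans (hquad o2)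
    let Tn : ↥F.NO := ⟨F.T, F.T_NO⟩
    let dn : ↥F.NO := ⟨d, hdN⟩
    have hφT : φ (F.q Tn) = 1 := htT
    fin_cases o1
    · exact hquad o2
    · exact hb 1 dn hd hφd
    · exact hb 2 dn⁻¹ hd.inv (by rw [map_inv, map_inv, hφd, inv_one])
    · exact hb 3 Tn F.iT hφT
    · exact hb 4 (dn * Tn * dn⁻¹) (hd.conj F.iT) (by simp only [map_mul, map_inv, dn, hφd, hφT, one_mul, inv_one, mul_one])
    · exact hb 5 (dn⁻¹ * Tn * dn) ((hd.inv.mul F.iT).mul hd) (by simp only [map_mul, map_inv, dn, hφd, hφT, one_mul, inv_one, mul_one])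
  have hCX : F.CX ≤ φ.ker := by
    intro x hx
    obtain ⟨⟨o, e⟩, hp⟩ := F.param_surj ⟨x, hx⟩
    rw [show x = ((F.param (o, e) : ↥F.CX) : F.Quo) from (congrArg Subtype.val hp).symm, MonoidHom.mem_ker]
    cases e
    · show φ (F.q (⟨F.lift o, F.lift_NO o⟩ * 1)) = 1
      rw [mul_one]; exact hall o
    · show φ (F.q (⟨F.lift o, F.lift_NO o⟩ * ⟨K.z, F.z_NO⟩)) = 1
      rw [map_mul, map_mul, show φ (F.q ⟨F.lift o, F.lift_NO o⟩) = 1 from hall o, one_mul]; exact htz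
  obtain ⟨P, hP⟩ := F.sylow_le
  have hker : φ.ker = ⊤ := by
    refine eq_top_iff.2 ((Invol.pResidual_sup_sylow P).ge.trans (sup_le ?_ (hP.trans hCX)))
    intro x hx
    rw [MonoidHom.mem_ker]
    show Abelianization.of (QuotientGroup.mk' M x) = 1
    rw [show QuotientGroup.mk' M x = 1 from (QuotientGroup.eq_one_iff x).2 hx, map_one]
  refine hlt.ne (eq_top_iff.2 fun y _ => ?_)
  obtain ⟨x, rfl⟩ := QuotientGroup.mk'_surjective M y
  have hx : φ x = 1 := MonoidHom.mem_ker.1 (hker.symm ▸ Subgroup.mem_top x)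
  exact (QuotientGroup.eq_one_iff _).1 hx

theorem card_Quo : Nat.card F.Quo = 5616 ∨ Nat.card F.Quo = 7920 := by
  obtain ⟨e⟩ := F.exists_iso
  exact GL23.natCard_of_centralizer F.residual_top F.zX_ord e

end Cfg.Triple

end Cfsg.Agent.Invol.TwoAn
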