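import Mathlib
import Cfsg.Agent.Lib.Invol.TwoAn.NineR

/-!
# Degree nine: the two groups of fixed points in the core
-/

set_option autoImplicit false
set_option linter.unusedSectionVars false
set_option maxRecDepth 100000

namespace Cfsg.Agent.Invol.TwoAn

open Equiv Equiv.Perm
open scoped commutatorElement Pointwise

universe u

variable {G : Type u} [Group G] [Finite G]

theorem card_sup_le {H K : Subgroup G} (h : H ≤ Subgroup.normalizer (K : Set G)) :
    Nat.card ↥(H ⊔ K) ≤ Nat.card H * Nat.card K := by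
  have e := Subgroup.coe_mul_of_left_le_normalizer_right H K h
  calc Nat.card ↥(H ⊔ K) = Nat.card ↥((H : Set G) * (K : Set G)) :=
        Nat.card_congr (Equiv.setCongr (by rw [← e]))
    _ ≤ Nat.card H * Nat.card K := Set.natCard_mul_le

theorem card_zpowers_le {x : G} (h : x ^ 3 = 1) : Nat.card (Subgroup.zpowers x) ≤ 3 := by
  rw [Nat.card_zpowers]
  exact Nat.le_of_dvd (by norm_num) (orderOf_dvd_of_pow_eq_one h)

/-- A group of odd order with an automorphism of order eight whose fourth power inverts. -/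
theorem card_mod_eight {X : Type u} [Group X] [Finite X] (S : Subgroup X) {η ζ : X} (hη : η ^ 4 = ζ)
    (hζ : ζ ≠ 1) (hζζ : ζ * ζ = 1) (hn : ∀ k ∈ S, η * k * η⁻¹ ∈ S) (hinv : ∀ k ∈ S, ζ * k * ζ⁻¹ = k⁻¹)
    (hodd : Odd (Nat.card S)) : Nat.card S % 8 = 1 := by
  classical
  haveI := Fact.mk Nat.prime_two
  have ho : orderOf η = 2 ^ (2 + 1) := orderOf_eq_prime_pow (by
    show ¬ η ^ 2 ^ 2 = 1
    rw [show (2 : ℕ) ^ 2 = 4 by norm_num, hη]; exact hζ) (by
    show η ^ 2 ^ (2 + 1) = 1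
    rw [show (2 : ℕ) ^ (2 + 1) = 4 * 2 by norm_num, pow_mul, hη, pow_two, hζζ])
  let H := Subgroup.zpowers η
  have hH : H ≤ Subgroup.normalizer (S : Set X) := Subgroup.zpowers_le.2 (mem_normalizer_of_le hn)
  let α := {k : ↥S // k ≠ 1}
  letI : MulAction ↥H α :=
    { smul := fun u k => ⟨⟨(u : X) * (k.1 : X) * (u : X)⁻¹,
        (Subgroup.mem_normalizer_iff.1 (hH u.2) _).1 k.1.2⟩, fun e => k.2 (Subtype.ext
          (conj_eq_one_iff.1 (congrArg Subtype.val e :)))⟩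
      one_smul := fun k => Subtype.ext (Subtype.ext (by
        show ((1 : ↥H) : X) * (k.1 : X) * ((1 : ↥H) : X)⁻¹ = k.1
        simp))
      mul_smul := fun u v k => Subtype.ext (Subtype.ext (by
        show ((u * v : ↥H) : X) * (k.1 : X) * ((u * v : ↥H) : X)⁻¹ =
          (u : X) * ((v : X) * (k.1 : X) * (v : X)⁻¹) * (u : X)⁻¹
        simp [mul_assoc])) }
  have hfree : ∀ k : α, MulAction.stabilizer ↥H k = ⊥ := by
    intro k
    rw [Subgroup.eq_bot_iff_forall]
    rintro ⟨u, hu⟩ hfix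
    have hf : u * (k.1 : X) * u⁻¹ = k.1 := congrArg (fun w : α => ((w.1 : ↥S) : X)) hfix
    obtain ⟨i, hi⟩ := mem_powers_iff_mem_zpowers.2 hu
    have hi : η ^ i = u := hi
    refine Subtype.ext ?_
    show u = 1
    by_contra hne
    have hmod : ∀ m, η ^ m = η ^ (m % 8) := fun m => by
      rw [← pow_mod_orderOf, ho]; norm_num
    obtain ⟨m, hm⟩ : ∃ m, (i % 8) * m % 8 = 4 := by
      have h0 : i % 8 ≠ 0 := fun h => hne (by rw [← hi, hmod, h, pow_zero])
      have h8 : i % 8 < 8 := Nat.mod_lt _ (by norm_num)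
      exact (by decide : ∀ r : Fin 8, (r : ℕ) ≠ 0 → ∃ m : Fin 8, (r : ℕ) * (m : ℕ) % 8 = 4)
        ⟨i % 8, h8⟩ h0 |>.elim fun m hm => ⟨m, hm⟩
    have hum : u ^ m = ζ := by
      have h4 : i * m % 8 = 4 := by
        rw [← hm, Nat.mul_mod i m, Nat.mul_mod (i % 8) m, Nat.mod_mod]
      rw [← hi, ← pow_mul, hmod, h4, hη]
    have hc : Commute ζ (k.1 : X) := hum ▸ (show Commute u (k.1 : X) from mul_inv_eq_iff_eq_mul.1 hf).pow_left m
    have h := hinv _ k.1.2
    rw [hc.eq, mul_inv_cancel_right] at h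
    exact k.2 (Subtype.ext (eq_one_of_odd_sq hodd k.1.2 (by nth_rw 1 [h]; exact inv_mul_cancel _)))
  have hc := Nat.card_congr (MulAction.selfEquivOrbitsQuotientProd hfree)
  rw [Nat.card_prod, Nat.card_zpowers, ho] at hc
  letI := Fintype.ofFinite ↥S
  have hs : Nat.card α = Nat.card ↥S - 1 := by
    simp only [α, Nat.card_eq_fintype_card, Fintype.card_subtype_compl, Fintype.card_subtype_eq]
  have hpos : 0 < Nat.card ↥S := Nat.card_pos
  rw [hs] at hc
  omega

namespace Cfg.Triple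

variable {K : Cfg G 9} {h9 : 9 ≤ 9} (F : Triple K h9)

/-- The fixed points of `b`. -/
abbrev Fb : Subgroup G := F.Om ⊓ Subgroup.centralizer ({F.b} : Set G)

theorem za_le_O : Subgroup.zpowers F.a ≤ F.O := Subgroup.zpowers_le.2 (F.A_le_O F.a_A)

theorem P1_Om {m : G} (hm : m ∈ F.P1) : m ∈ F.Om := (F.mem_P1.1 hm).1

theorem delta_c {m : G} (hm : m ∈ F.P1) : ⁅m, F.c⁆ ∈ F.Fb := by
  obtain ⟨hmO, hf⟩ := F.mem_P1.1 hm
  set f := ⁅m, F.b⁆ with hfd
  set u := ⁅m, F.c⁆ with hud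
  have hu : u ∈ F.Om := F.delta_mem F.ac.symm hmO
  have hfc : Commute f F.c := F.O_comm (F.fix_b_O hf) (F.A_le_O F.c_A)
  have hcomm : ∀ {x y}, x ∈ F.Oa → y ∈ F.Oa → ⁅x, y⁆ ∈ Subgroup.zpowers F.a := fun hx hy => F.comm_Oa hx hy
  refine ⟨hu, Subgroup.mem_centralizer_singleton_iff.2 (F.fixed_of_mod hu.1 F.bz F.ab.symm ?_).eq⟩
  have e1 : F.b * m * F.b⁻¹ = f⁻¹ * m := by
    rw [hfd, commutatorElement_def]; group
  have e2 : F.b * u * F.b⁻¹ = f⁻¹ * u * f := by
    calc F.b * u * F.b⁻¹ = ⁅F.b * m * F.b⁻¹, F.b * F.c * F.b⁻¹⁆ := by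
          rw [hud]; simp only [commutatorElement_def]; group
      _ = f⁻¹ * m * F.c * m⁻¹ * (f * F.c⁻¹) := by
          rw [e1, F.bc.eq, mul_inv_cancel_right, commutatorElement_def]; group
      _ = f⁻¹ * u * f := by rw [hfc.inv_right.eq, hud, commutatorElement_def]; group
  rw [show ⁅u, F.b⁆ = ⁅u, f⁻¹⁆ by
    calc ⁅u, F.b⁆ = u * (F.b * u * F.b⁻¹)⁻¹ := by rw [commutatorElement_def]; group
      _ = ⁅u, f⁻¹⁆ := by rw [e2, commutatorElement_def]; group]
  exact hcomm hu.1 (inv_mem hf.1.1)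

theorem O_gen : F.O ≤ F.Fb ⊔ Subgroup.zpowers F.b ⊔ Subgroup.zpowers F.c := by
  refine le_of_parts F.O_odd z_mul_z (fun _ => F.zO) (fun x hx hxz => ?_)
    fun x hx hxi => Subgroup.mem_sup_left (Subgroup.mem_sup_left (F.inverted_mem_fix hx hxi))
  obtain ⟨i, j, k, rfl⟩ := F.O_z.le ⟨hx, Subgroup.mem_centralizer_singleton_iff.2 hxz⟩
  refine mul_mem (mul_mem ?_ ?_) (Subgroup.mem_sup_right (Subgroup.pow_mem _ (Subgroup.mem_zpowers _) k))
  · exact Subgroup.mem_sup_left (Subgroup.mem_sup_left (pow_mem (F.za_le_Cb (Subgroup.mem_zpowers _)) i))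
  · exact Subgroup.mem_sup_left (Subgroup.mem_sup_right (Subgroup.pow_mem _ (Subgroup.mem_zpowers _) j))

theorem comm_O_P1 {m : G} (hm : m ∈ F.P1) {o : G} (ho : o ∈ F.Fb) : ⁅m, o⁆ ∈ Subgroup.zpowers F.a :=
  F.comm_Oa (F.P1_Om hm).1 ho.1.1

theorem P1_le_NO : F.P1 ≤ F.NO := by
  intro m hm
  refine mem_normalizer_of_le fun x hx => ?_
  have hle : F.O ≤ F.O.comap (MulAut.conj m).toMonoidHom := by
    refine F.O_gen.trans (sup_le (sup_le (fun f hf => ?_) (Subgroup.zpowers_le.2 ?_)) (Subgroup.zpowers_le.2 ?_))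
    all_goals rw [Subgroup.mem_comap, MulEquiv.coe_toMonoidHom, MulAut.conj_apply]
    · rw [show m * f * m⁻¹ = ⁅m, f⁆ * f by rw [commutatorElement_def]; group]
      exact mul_mem (F.za_le_O (F.comm_O_P1 hm hf)) (F.fix_b_O hf)
    · rw [show m * F.b * m⁻¹ = ⁅m, F.b⁆ * F.b by rw [commutatorElement_def]; group]
      exact mul_mem (F.fix_b_O (F.mem_P1.1 hm).2) (F.A_le_O F.b_A)
    · rw [show m * F.c * m⁻¹ = ⁅m, F.c⁆ * F.c by rw [commutatorElement_def]; group]
      exact mul_mem (F.fix_b_O (F.delta_c hm)) (F.A_le_O F.c_A)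
  exact hle hx

/-- The order of the centralizer of an element in the core. -/
noncomputable def cen (x : G) : ℕ := Nat.card ↥(F.O ⊓ Subgroup.centralizer ({x} : Set G))

theorem cen_q {v w : ↥F.NO} (h : F.q v = F.q w) : F.cen v = F.cen w := by
  have ho := F.q_eq.1 h
  refine congrArg (fun H : Subgroup G => Nat.card H) ?_
  ext x
  simp only [Subgroup.mem_inf, Subgroup.mem_centralizer_singleton_iff]
  refine and_congr_right fun hx => ?_
  have hc : Commute x ((v : G)⁻¹ * w) := F.O_comm hx ho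
  constructor
  · intro hv
    have := (show Commute x v from hv).mul_right hc
    rwa [mul_inv_cancel_left] at this
  · intro hw
    have := (show Commute x w from hw).mul_right hc.inv_right
    rwa [mul_inv_rev, inv_inv, mul_inv_cancel_left] at this

theorem cen_inv (x : G) : F.cen x⁻¹ = F.cen x := by
  refine congrArg (fun H : Subgroup G => Nat.card H) ?_
  ext y
  simp only [Subgroup.mem_inf, Subgroup.mem_centralizer_singleton_iff]
  exact and_congr_right fun _ => Commute.inv_right_iff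

theorem cen_conj (u : ↥F.NO) (x : G) : F.cen ((u : G) * x * (u : G)⁻¹) = F.cen x := by
  refine (card_conj_eq (u : G) fun y => ?_).symm
  simp only [Subgroup.mem_inf, Subgroup.mem_centralizer_singleton_iff]
  refine and_congr ?_ ((Commute.conj_iff (u : G)).symm)
  exact Subgroup.mem_normalizer_iff.1 u.2 y

theorem cen_of_conj {v w : ↥F.NO} (h : IsConj (F.q v) (F.q w)) : F.cen v = F.cen w := by
  obtain ⟨x, hx⟩ := isConj_iff.1 h
  obtain ⟨u, rfl⟩ := QuotientGroup.mk'_surjective _ x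
  rw [← map_inv, ← map_mul, ← map_mul] at hx
  rw [← F.cen_q hx]
  exact (F.cen_conj u v).symm

/-- A preimage element centralizes much of the core. -/
theorem cen_P1 {m : G} (hm : m ∈ F.P1) : 81 ≤ F.cen m := by
  have hmN := F.P1_le_NO hm
  have hmem : ∀ o ∈ F.O, ⁅m, o⁆ ∈ F.O := fun o ho => by
    rw [commutatorElement_def]; exact mul_mem (F.mem_NO_conj hmN ho) (inv_mem ho)
  let ψ : ↥F.O →* ↥F.O := MonoidHom.mk' (fun o => ⟨⁅m, (o : G)⁆, hmem o o.2⟩) fun x y => Subtype.ext (by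
    show ⁅m, (x : G) * y⁆ = ⁅m, (x : G)⁆ * ⁅m, (y : G)⁆
    rw [show ⁅m, (x : G) * y⁆ = ⁅m, (x : G)⁆ * ((x : G) * ⁅m, (y : G)⁆ * (x : G)⁻¹) by
      simp only [commutatorElement_def]; group, (F.O_comm x.2 (hmem y y.2)).eq, mul_inv_cancel_right])
  set u := ⁅m, F.b⁆
  set v := ⁅m, F.c⁆
  have hu : u ∈ F.O := F.fix_b_O (F.mem_P1.1 hm).2
  have hv : v ∈ F.O := F.fix_b_O (F.delta_c hm)
  set D := Subgroup.zpowers F.a ⊔ Subgroup.zpowers u ⊔ Subgroup.zpowers v with hD
  have hDO : D ≤ F.O := sup_le (sup_le F.za_le_O (Subgroup.zpowers_le.2 hu)) (Subgroup.zpowers_le.2 hv)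
  have norm : ∀ {S T : Subgroup G}, S ≤ F.O → T ≤ F.O → S ≤ Subgroup.normalizer (T : Set G) := fun hS hT s hs =>
    mem_normalizer_of_le fun t ht => by rw [(F.O_comm (hS hs) (hT ht)).eq, mul_inv_cancel_right]; exact ht
  have hDc : Nat.card D ≤ 27 := by
    have h1 := card_sup_le (norm F.za_le_O (Subgroup.zpowers_le.2 hu))
    have h2 := card_sup_le (norm (sup_le F.za_le_O (Subgroup.zpowers_le.2 hu)) (Subgroup.zpowers_le.2 hv))
    have c1 := card_zpowers_le (F.class_two.2 u hu)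
    have c2 := card_zpowers_le (F.class_two.2 v hv)
    rw [F.card_za] at h1
    calc Nat.card D ≤ _ := h2
      _ ≤ 9 * 3 := Nat.mul_le_mul (h1.trans (Nat.mul_le_mul_left 3 c1)) c2
  have hrange : ψ.range ≤ D.subgroupOf F.O := by
    have hall : F.O ≤ ((D.subgroupOf F.O).comap ψ).map F.O.subtype := by
      refine F.O_gen.trans (sup_le (sup_le (fun f hf => ?_) (Subgroup.zpowers_le.2 ?_)) (Subgroup.zpowers_le.2 ?_))
      · exact ⟨⟨f, F.fix_b_O hf⟩, Subgroup.mem_sup_left (Subgroup.mem_sup_left (F.comm_O_P1 hm hf)), rfl⟩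
      · exact ⟨⟨F.b, F.A_le_O F.b_A⟩, Subgroup.mem_sup_left (Subgroup.mem_sup_right (Subgroup.mem_zpowers u)), rfl⟩
      · exact ⟨⟨F.c, F.A_le_O F.c_A⟩, Subgroup.mem_sup_right (Subgroup.mem_zpowers v), rfl⟩
    rintro _ ⟨o, rfl⟩
    obtain ⟨o', ho', e⟩ := hall o.2
    obtain rfl : o' = o := Subtype.ext e
    exact ho'
  have hr : Nat.card ψ.range ≤ 27 := by
    refine (Subgroup.card_le_of_le hrange).trans ?_
    rw [Nat.card_congr (Subgroup.subgroupOfEquivOfLe hDO).toEquiv]; exact hDc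
  have hk : Nat.card ψ.ker ≤ F.cen m := by
    refine Nat.card_le_card_of_injective (fun o : ↥ψ.ker => (⟨((o : ↥F.O) : G), (o : ↥F.O).2,
      Subgroup.mem_centralizer_singleton_iff.2 (commutatorElement_eq_one_iff_mul_comm.1
        (congrArg Subtype.val (MonoidHom.mem_ker.1 o.2) :)).symm⟩ : ↥(F.O ⊓ Subgroup.centralizer ({m} : Set G))))
      fun x y e => Subtype.ext (Subtype.ext (congrArg Subtype.val e :))
  have h := ψ.ker.card_mul_index
  rw [Subgroup.index_ker, F.card_O] at h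
  have := Nat.mul_le_mul hk hr
  omega

theorem d_NO {d : G} (hd : K.Img d D0) : d ∈ F.NO := F.mem_NO_of_rep (o := (1, 0)) (p := (0, 0, 0)) (by
  rw [show P9.rep (1, 0) * P9.word (0, 0, 0) = D0 by decide +kernel]; exact hd)

/-- The cycle of the blocks centralizes little of the core. -/
theorem cen_d {d : G} (hd : K.Img d D0) : F.cen d ≤ 27 := by
  have hdN := F.d_NO hd
  have hdz : Commute d K.z := comm_z hd
  set R := F.O ⊓ Subgroup.centralizer ({d} : Set G) with hR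
  have hz : ∀ x ∈ R, K.z * x * K.z⁻¹ ∈ R := cent_z (fun _ => F.zO) hdz
  show Nat.card R ≤ 27
  rw [SmallCent.card_eq_fixed_mul_inverted R (F.O_odd.of_dvd_nat (Subgroup.card_dvd_of_le inf_le_left)) z_mul_z hz]
  have h1 : Nat.card ↥(R ⊓ Subgroup.centralizer ({K.z} : Set G)) ≤ 3 := by
    refine (Subgroup.card_le_of_le (K := Subgroup.zpowers (F.a * F.b * F.c))
      (H := R ⊓ Subgroup.centralizer ({K.z} : Set G)) fun x hx => ?_).trans
      (card_zpowers_le (F.A_cube (mul_mem (mul_mem F.a_A F.b_A) F.c_A)))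
    obtain ⟨p, rfl⟩ := F.exists_Aw (F.O_z.le ⟨hx.1.1, hx.2⟩)
    have hc : Commute (F.Aw p) d := Subgroup.mem_centralizer_singleton_iff.1 hx.1.2
    have hp := ((F.Aw_img p).mul hd).unique (hc.eq.symm ▸ hd.mul (F.Aw_img p))
    obtain ⟨e1, e2⟩ := (by decide +kernel : ∀ p, P9.word p * D0 = D0 * P9.word p → p.2.1 = p.1 ∧ p.2.2 = p.1) p hp
    rw [Aw, e1, e2, ← F.ab.mul_pow, ← (F.ac.mul_left F.bc).mul_pow]
    exact Subgroup.pow_mem _ (Subgroup.mem_zpowers _) _
  set S := SmallCent.inverted R K.z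
  have h2 : Nat.card S * Nat.card S ≤ 81 := by
    rw [← Nat.card_prod, ← F.card_inverted_O]
    have hgN : F.g ∈ F.NO := mem_normalizer_of_le fun x hx => F.O_conj (Or.inr F.g_ab) hx
    set d' := F.g * d * F.g⁻¹
    have hinv : ∀ j : S, K.z * (F.g * (j : G) * F.g⁻¹) * K.z⁻¹ = (F.g * (j : G) * F.g⁻¹)⁻¹ := fun j => by
      calc K.z * (F.g * (j : G) * F.g⁻¹) * K.z⁻¹ = (K.z * F.g) * j * (K.z * F.g)⁻¹ := by group
        _ = F.g * (K.z * j * K.z⁻¹) * F.g⁻¹ := by rw [← F.gz.eq]; group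
        _ = _ := by rw [j.2.2]; group
    refine Nat.card_le_card_of_injective (fun p : S × S => (⟨(p.1 : G) * (F.g * (p.2 : G) * F.g⁻¹),
      mul_mem p.1.2.1.1 (F.mem_NO_conj hgN p.2.2.1.1), ?_⟩ : SmallCent.inverted F.O K.z)) ?_
    · rw [show K.z * ((p.1 : G) * (F.g * p.2 * F.g⁻¹)) * K.z⁻¹ =
        (K.z * p.1 * K.z⁻¹) * (K.z * (F.g * p.2 * F.g⁻¹) * K.z⁻¹) by group, p.1.2.2, hinv p.2, ← mul_inv_rev,
        (F.O_comm p.1.2.1.1 (F.mem_NO_conj hgN p.2.2.1.1)).eq]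
    · rintro ⟨i, i'⟩ ⟨j, j'⟩ e
      have e' : (i : G) * (F.g * i' * F.g⁻¹) = j * (F.g * j' * F.g⁻¹) := congrArg Subtype.val e
      set k := (j : G)⁻¹ * i with hk
      have hk' : k = (F.g * j' * F.g⁻¹) * (F.g * i' * F.g⁻¹)⁻¹ := by
        calc k = (j : G)⁻¹ * (i * (F.g * i' * F.g⁻¹)) * (F.g * i' * F.g⁻¹)⁻¹ := by rw [hk]; group
          _ = _ := by rw [e']; group
      have hkd : Commute k d := ((show Commute (j : G) d from Subgroup.mem_centralizer_singleton_iff.1 j.2.1.2).inv_left).mul_left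
        (Subgroup.mem_centralizer_singleton_iff.1 i.2.1.2)
      have hkd' : Commute k d' := by
        rw [hk', show (F.g * (j' : G) * F.g⁻¹) * (F.g * i' * F.g⁻¹)⁻¹ = F.g * ((j' : G) * (i' : G)⁻¹) * F.g⁻¹ by group]
        exact (Commute.conj_iff F.g).2 ((show Commute (j' : G) d from
          Subgroup.mem_centralizer_singleton_iff.1 j'.2.1.2).mul_left
          (show Commute (i' : G) d from Subgroup.mem_centralizer_singleton_iff.1 i'.2.1.2).inv_left)
      have hkv := hkd.mul_right hkd'.inv_right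
      have hkz : Commute k K.z := by
        rw [← (hd.mul (F.ig.conj hd).inv).sq (show IsQuad (D0 * (G0 * D0 * G0⁻¹)⁻¹) from
          ⟨by decide +kernel, by decide +kernel⟩)]
        exact hkv.mul_right hkv
      have hkO : k ∈ F.O := mul_mem (inv_mem j.2.1.1) i.2.1.1
      have hki : K.z * k * K.z⁻¹ = k⁻¹ := by
        rw [hk, show K.z * ((j : G)⁻¹ * i) * K.z⁻¹ = (K.z * j * K.z⁻¹)⁻¹ * (K.z * i * K.z⁻¹) by group, j.2.2, i.2.2,
          mul_inv_rev, inv_inv]
        exact (F.O_comm j.2.1.1 (inv_mem i.2.1.1)).eq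
      rw [← hkz.eq, mul_inv_cancel_right] at hki
      have hk1 : k = 1 := eq_one_of_odd_sq F.O_odd hkO (by nth_rw 1 [hki]; exact inv_mul_cancel k)
      have e1 : (i : G) = j := (inv_mul_eq_one.1 hk1).symm
      rw [e1] at e'
      exact Prod.ext (Subtype.ext e1) (Subtype.ext (mul_left_cancel (mul_right_cancel (mul_left_cancel e'))))
  have h3 : Nat.card S ≤ 9 := by nlinarith
  exact (Nat.mul_le_mul h1 h3).trans (by norm_num)

end Cfg.Triple

end Cfsg.Agent.Invol.TwoAn
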