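import Mathlib
import Cfsg.Agent.Lib.Invol.TwoAn.NineY

/-!
# Degree nine is impossible
-/

set_option autoImplicit false
set_option linter.unusedSectionVars false
set_option maxRecDepth 100000

namespace Cfsg.Agent.Invol.TwoAn

open Equiv Equiv.Perm
open scoped commutatorElement

universe u

variable {G : Type u} [Group G] [Finite G]

theorem six_not_D0 : ∀ j (k : Fin 3), D0 * P9.six j * D0⁻¹ ≠ P9.six j ^ (k : ℕ) := by decide +kernel

namespace Cfg.Triple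

variable {K : Cfg G 9} {h9 : 9 ≤ 9} (F : Triple K h9)

/-- The image of the preimage. -/
def Y : Subgroup F.Quo := (F.P1.subgroupOf F.NO).map F.q

theorem mem_Y {y : F.Quo} : y ∈ F.Y ↔ ∃ w : ↥F.NO, (w : G) ∈ F.P1 ∧ F.q w = y := Iff.rfl

theorem Y_cube {y : F.Quo} (hy : y ∈ F.Y) : y ^ 3 = 1 := by
  obtain ⟨w, hw, rfl⟩ := F.mem_Y.1 hy
  rw [← map_pow]
  exact F.q_one.2 (F.za_le_O (F.P1_Om hw).2)

theorem Y_p : IsPGroup 3 F.Y := fun y => ⟨1, Subtype.ext (by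
  show (y : F.Quo) ^ 3 ^ 1 = 1
  rw [pow_one]; exact F.Y_cube y.2)⟩

theorem Y_inv {y : F.Quo} (hy : y ∈ F.Y) : F.zX * y * F.zX⁻¹ = y⁻¹ := by
  obtain ⟨w, hw, rfl⟩ := F.mem_Y.1 hy
  obtain ⟨d, hd, e⟩ := F.z_inverts (F.P1_Om hw).1
  rw [zX, ← map_inv, ← map_mul, ← map_mul, ← map_inv, F.q_eq]
  show (K.z * (w : G) * K.z⁻¹)⁻¹ * (w : G)⁻¹ ∈ F.O
  rw [e, mul_inv_rev, inv_inv, mul_inv_cancel_right]
  exact inv_mem (F.za_le_O hd)

theorem Y_comm {x y : F.Quo} (hx : x ∈ F.Y) (hy : y ∈ F.Y) : Commute x y := by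
  obtain ⟨v, hv, rfl⟩ := F.mem_Y.1 hx
  obtain ⟨w, hw, rfl⟩ := F.mem_Y.1 hy
  refine commutatorElement_eq_one_iff_mul_comm.1 ?_
  rw [← map_commutatorElement]
  exact F.q_one.2 (F.za_le_O (F.comm_Oa (F.P1_Om hv).1 (F.P1_Om hw).1))

theorem Y_ne_bot : F.Y ≠ ⊥ := by
  intro h
  have hle : F.P1 ≤ F.Fb := by
    intro m hm
    have h1 : F.q ⟨m, F.P1_le_NO hm⟩ ∈ F.Y := F.mem_Y.2 ⟨⟨m, F.P1_le_NO hm⟩, hm, rfl⟩
    rw [h, Subgroup.mem_bot] at h1
    have h2 : m ∈ F.O := F.q_one.1 h1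
    exact ⟨F.P1_Om hm, Subgroup.mem_centralizer_singleton_iff.2 (F.O_comm h2 (F.A_le_O F.b_A))⟩
  have h1 := Subgroup.card_le_of_le hle
  rw [show Nat.card ↥F.Fb = 243 from F.card_fix_b] at h1
  exact absurd F.P1_gt (not_lt.2 h1)

/-- The element of order eight. -/
theorem exists_eta : ∃ η : F.Quo, η ^ 4 = F.zX ∧ η ∈ F.CX ∧ ∀ y ∈ F.Y, η * y * η⁻¹ ∈ F.Y := by
  obtain ⟨h, hh, ha, hb, hc, h4⟩ := F.exists_h
  have hz : Commute h K.z := comm_z hh
  have hN : h ∈ F.NO := by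
    refine F.mem_NO_of_A hz ?_
    rintro x ⟨i, j, k, rfl⟩
    rw [show h * (F.a ^ i * F.b ^ j * F.c ^ k) * h⁻¹ = h * F.a ^ i * h⁻¹ * (h * F.b ^ j * h⁻¹) * (h * F.c ^ k * h⁻¹) by
      group, ← conj_pow, ← conj_pow, ← conj_pow, ha, hb, hc]
    exact mul_mem (mul_mem (pow_mem F.a_A _) (pow_mem F.c_A _)) (pow_mem (inv_mem F.b_A) _)
  refine ⟨F.q ⟨h, hN⟩, ?_, F.mem_CX_of (w := ⟨h, hN⟩) hz, ?_⟩
  · rw [← map_pow, zX]
    refine congrArg F.q (Subtype.ext ?_)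
    show h ^ 4 = K.z
    rw [← h4]; simp [pow_succ, mul_assoc]
  · intro y hy
    obtain ⟨w, hw, rfl⟩ := F.mem_Y.1 hy
    refine F.mem_Y.2 ⟨⟨h, hN⟩ * w * ⟨h, hN⟩⁻¹, ?_, by simp only [map_mul, map_inv]⟩
    have hha : Commute h F.a := mul_inv_eq_iff_eq_mul.1 ha
    show h * (w : G) * h⁻¹ ∈ F.P1
    refine F.mem_P1.2 ⟨F.Om_conj hha (F.P1_Om hw), ?_⟩
    set m := (w : G)
    have hu := F.delta_c hw
    have e : ⁅h * m * h⁻¹, F.b⁆ = h * ⁅m, F.c⁆⁻¹ * h⁻¹ := by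
      have hb' : F.b = h * F.c⁻¹ * h⁻¹ := by
        rw [show h * F.c⁻¹ * h⁻¹ = (h * F.c * h⁻¹)⁻¹ by group, hc, inv_inv]
      have h1 : Commute ⁅m, F.c⁆⁻¹ F.c :=
        (F.O_comm (F.fix_b_O hu) (F.A_le_O F.c_A)).inv_left
      have h2 : ⁅m, F.c⁻¹⁆ = ⁅m, F.c⁆⁻¹ := by
        rw [show ⁅m, F.c⁻¹⁆ = F.c⁻¹ * ⁅m, F.c⁆⁻¹ * F.c by simp only [commutatorElement_def]; group,
          mul_assoc, h1.eq, inv_mul_cancel_left]
      rw [hb', ← h2]; simp only [commutatorElement_def]; group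
    rw [e]
    have h3 : ⁅m, F.c⁆⁻¹ ∈ F.Fb := inv_mem hu
    have h4' : h * ⁅m, F.c⁆⁻¹ * h⁻¹ ∈ F.Om ⊓ Subgroup.centralizer ({F.c} : Set G) :=
      ⟨F.Om_conj hha h3.1, Subgroup.mem_centralizer_singleton_iff.2 (by
        have h5 := (Commute.conj_iff h).2 (show Commute ⁅m, F.c⁆⁻¹ F.b from
          Subgroup.mem_centralizer_singleton_iff.1 h3.2)
        rw [hb] at h5
        exact h5)⟩
    rwa [F.fix_c] at h4'

theorem card_Y : Nat.card F.Y = 9 := by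
  haveI := Fact.mk Nat.prime_three
  obtain ⟨k, hk⟩ := IsPGroup.iff_card.1 F.Y_p
  obtain ⟨η, h4, -, hn⟩ := F.exists_eta
  have h8 := card_mod_eight F.Y h4 F.zX_ne F.zX_sq hn (fun _ => F.Y_inv)
    (by rw [hk]; exact Odd.pow (by decide))
  have h1 : Nat.card F.Y ≠ 1 := fun h => F.Y_ne_bot (Subgroup.card_eq_one.1 h)
  have hd : 3 ^ k ∣ Nat.card F.Quo := hk ▸ Subgroup.card_subgroup_dvd_card _
  have hk4 : k < 4 := by
    by_contra h
    have h81 : 81 ∣ Nat.card F.Quo := (pow_dvd_pow 3 (show 4 ≤ k by omega)).trans hd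
    rcases F.card_Quo with e | e <;> omega
  rw [hk] at h8 h1 ⊢
  interval_cases k <;> omega

theorem cen_Y {w : ↥F.NO} (hw : F.q w ∈ F.Y) : 81 ≤ F.cen w := by
  obtain ⟨v, hv, e⟩ := F.mem_Y.1 hw
  rw [← F.cen_q e]
  exact F.cen_P1 hv

theorem three_conj {x : F.Quo} (hx : x ∈ F.CX) (h3 : x ^ 3 = 1) (h1 : x ≠ 1) {d : G} (hd : K.Img d D0)
    (hd3 : d ^ 3 = 1) : ∃ u ∈ F.CX, u * F.q ⟨d, F.d_NO hd⟩ * u⁻¹ = x ∨ u * F.q ⟨d, F.d_NO hd⟩ * u⁻¹ = x⁻¹ := by
  obtain ⟨e⟩ := F.exists_iso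
  set y : ↥F.CX := ⟨F.q ⟨d, F.d_NO hd⟩, F.mem_CX_of (w := ⟨d, F.d_NO hd⟩) (comm_z hd)⟩
  set x' : ↥F.CX := ⟨x, hx⟩
  have hy1 : y ≠ 1 := by
    intro h
    have hdO : d ∈ F.O := F.q_one.1 (show F.q ⟨d, F.d_NO hd⟩ = 1 from congrArg Subtype.val h)
    obtain ⟨p, hp⟩ := F.exists_Aw (F.O_z.le ⟨hdO, Subgroup.mem_centralizer_singleton_iff.2 (comm_z hd)⟩)
    exact (by decide +kernel : ∀ p, D0 ≠ P9.word p) p (hd.unique (hp ▸ F.Aw_img p))
  have c3 : ∀ {v : ↥F.CX}, v ^ 3 = 1 → e v * e v * e v = 1 := fun {v} h => by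
    rw [← map_mul, ← map_mul, ← map_one e, ← h, pow_succ, pow_two]
  have hy3 : y ^ 3 = 1 := Subtype.ext (by
    show (F.q ⟨d, F.d_NO hd⟩) ^ 3 = 1
    rw [← map_pow, show (⟨d, F.d_NO hd⟩ : ↥F.NO) ^ 3 = 1 from Subtype.ext hd3, map_one])
  obtain ⟨g, hg⟩ := gl_three (e y) (e x') (c3 hy3) (c3 (Subtype.ext h3))
    (fun h => hy1 (e.injective (h.trans (map_one e).symm)))
    (fun h => h1 (congrArg Subtype.val (e.injective (h.trans (map_one e).symm) : x' = 1)))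
  refine ⟨(e.symm g : ↥F.CX), (e.symm g).2, ?_⟩
  rcases hg with h | h
  · exact Or.inl (congrArg Subtype.val (e.injective (by simp [h]) : e.symm g * y * (e.symm g)⁻¹ = x'))
  · exact Or.inr (congrArg Subtype.val (e.injective (by simp [h]) : e.symm g * y * (e.symm g)⁻¹ = x'⁻¹))

/-- No element of the preimage of `Y` other than the identity is conjugate to the cycle of blocks. -/
theorem not_conj_d {y : F.Quo} (hy : y ∈ F.Y) {d : G} (hd : K.Img d D0) :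
    ¬ IsConj (F.q ⟨d, F.d_NO hd⟩) y := by
  intro h
  obtain ⟨w, rfl⟩ : ∃ w, F.q w = y := QuotientGroup.mk'_surjective _ y
  have h1 := F.cen_of_conj h
  have h2 := F.cen_Y hy
  have h3 := F.cen_d hd
  simp only at h1
  omega

theorem odd_cent {y : F.Quo} (hy : y ∈ F.Y) (hy1 : y ≠ 1) {u : F.Quo} (hu : orderOf u = 2) : ¬ Commute u y := by
  intro hc
  obtain ⟨g, hg⟩ := isConj_iff.1 (F.invol_conj hu)
  set x := g⁻¹ * y * g
  have hx : x ∈ F.CX := by
    refine Subgroup.mem_centralizer_singleton_iff.2 ?_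
    show x * F.zX = F.zX * x
    calc x * F.zX = g⁻¹ * (y * (g * F.zX * g⁻¹)) * g := by simp only [x]; group
      _ = g⁻¹ * ((g * F.zX * g⁻¹) * y) * g := by rw [hg, hc.eq]
      _ = F.zX * x := by simp only [x]; group
  obtain ⟨d, hd, hd3, -, -, -⟩ := F.exists_d
  obtain ⟨v, -, hv⟩ := F.three_conj hx (by
    have := F.Y_cube hy
    rw [show x = g⁻¹ * y * g⁻¹⁻¹ by simp [x], conj_pow, this, mul_one, mul_inv_cancel])
    (fun h => hy1 (by simpa [x, mul_eq_one_iff_eq_inv] using h)) hd hd3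
  rcases hv with h | h
  · exact F.not_conj_d hy hd (isConj_iff.2 ⟨g * v, by
      rw [show g * v * F.q ⟨d, F.d_NO hd⟩ * (g * v)⁻¹ = g * (v * F.q ⟨d, F.d_NO hd⟩ * v⁻¹) * g⁻¹ by group, h]
      simp only [x]; group⟩)
  · exact F.not_conj_d (inv_mem hy) hd (isConj_iff.2 ⟨g * v, by
      rw [show g * v * F.q ⟨d, F.d_NO hd⟩ * (g * v)⁻¹ = g * (v * F.q ⟨d, F.d_NO hd⟩ * v⁻¹) * g⁻¹ by group, h]
      simp only [x]; group⟩)

theorem fix_bc'_le : ∀ v, (v = F.b * F.c ∨ v = F.b * F.c⁻¹) →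
    Nat.card ↥(F.Om ⊓ Subgroup.centralizer ({v} : Set G)) ≤ 243 := by
  obtain ⟨d, hd, -, da, db, dc⟩ := F.exists_d
  have h1 := F.fix_bc_le (u := d) (comm_z hd) da db dc
  rintro v (rfl | rfl)
  · exact h1
  · obtain ⟨h, hh, ha, hb, hc, -⟩ := F.exists_h
    refine (le_of_eq (card_conj_eq h fun x => ?_).symm).trans h1
    rw [Subgroup.mem_inf, Subgroup.mem_inf, Subgroup.mem_centralizer_singleton_iff,
      Subgroup.mem_centralizer_singleton_iff, ← F.Om_conj_iff (mul_inv_eq_iff_eq_mul.1 ha)]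
    refine and_congr_right fun _ => ?_
    show Commute x (F.b * F.c) ↔ Commute (h * x * h⁻¹) (F.b * F.c⁻¹)
    rw [← Commute.conj_iff h, show h * (F.b * F.c) * h⁻¹ = h * F.b * h⁻¹ * (h * F.c * h⁻¹) by group, hb, hc,
      ← Commute.inv_right_iff (b := F.c * F.b⁻¹), mul_inv_rev, inv_inv]

/-- The elements of `A` centralizing the preimage are the powers of `a`. -/
theorem fix_P1 {o : G} (ho : o ∈ F.A) (hc : ∀ m ∈ F.P1, Commute m o) : o ∈ Subgroup.zpowers F.a := by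
  obtain ⟨⟨i, j, k⟩, rfl⟩ := F.exists_Aw ho
  by_cases hjk : j = 0 ∧ k = 0
  · obtain ⟨rfl, rfl⟩ := hjk
    simp [Aw]
  exfalso
  have hv : ∀ m ∈ F.P1, Commute m (F.b ^ (j : ℕ) * F.c ^ (k : ℕ)) := fun m hm => by
    have h1 : Commute m (F.a ^ (i : ℕ)) := (F.Oa_comm (F.P1_Om hm).1).pow_right _
    have := h1.inv_right.mul_right (hc m hm)
    rwa [Aw, mul_assoc, inv_mul_cancel_left] at this
  have bound : ∀ {v : G}, Nat.card ↥(F.Om ⊓ Subgroup.centralizer ({v} : Set G)) ≤ 243 →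
      (∀ m ∈ F.P1, Commute m v) → False := fun {v} hle hall => by
    have h1 := Subgroup.card_le_of_le (show F.P1 ≤ F.Om ⊓ Subgroup.centralizer ({v} : Set G) from
      fun m hm => ⟨F.P1_Om hm, Subgroup.mem_centralizer_singleton_iff.2 (hall m hm)⟩)
    exact absurd F.P1_gt (not_lt.2 (h1.trans hle))
  have Bb := bound (v := F.b) F.card_fix_b.le
  have Bc := bound (v := F.c) (by rw [F.fix_c]; exact F.card_fix_b.le)
  have B1 := bound (F.fix_bc'_le _ (Or.inl rfl))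
  have B2 := bound (F.fix_bc'_le _ (Or.inr rfl))
  have hb2 : F.b ^ 2 = F.b⁻¹ := eq_inv_of_mul_eq_one_left (by rw [← pow_succ, F.b3])
  have hc2 : F.c ^ 2 = F.c⁻¹ := eq_inv_of_mul_eq_one_left (by rw [← pow_succ, F.c3])
  fin_cases j <;> fin_cases k <;> simp only [Fin.isValue, pow_zero, pow_one, one_mul, mul_one, hb2, hc2] at hv
  · exact hjk ⟨rfl, rfl⟩
  · exact Bc hv
  · exact Bc fun m hm => Commute.inv_right_iff.1 (hv m hm)
  · exact Bb hv
  · exact B1 hv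
  · exact B2 hv
  · exact Bb fun m hm => Commute.inv_right_iff.1 (hv m hm)
  · exact B2 fun m hm => Commute.inv_right_iff.1 (by
      rw [mul_inv_rev, inv_inv, F.bc.symm.inv_right.eq]; exact hv m hm)
  · exact B1 fun m hm => Commute.inv_right_iff.1 (by
      rw [mul_inv_rev, F.bc.symm.inv_inv.eq]; exact hv m hm)

/-- No element of order three centralizing `z` normalizes `Y`. -/
theorem no_three {x : F.Quo} (hx : x ∈ F.CX) (h3 : x ^ 3 = 1) (h1 : x ≠ 1)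
    (hn : ∀ y ∈ F.Y, x * y * x⁻¹ ∈ F.Y) : False := by
  obtain ⟨d, hd, hd3, -, -, -⟩ := F.exists_d
  obtain ⟨v, hv, hvx⟩ := F.three_conj hx h3 h1 hd hd3
  obtain ⟨w, hwz, rfl⟩ := F.cent_lift (Subgroup.mem_centralizer_singleton_iff.1 hv)
  set dn : ↥F.NO := ⟨d, F.d_NO hd⟩
  set e : ↥F.NO := w * dn * w⁻¹ with he
  have hxN : x ∈ Subgroup.normalizer (F.Y : Set F.Quo) := mem_normalizer_of_le hn
  have heY : F.q e⁻¹ ∈ Subgroup.normalizer (F.Y : Set F.Quo) := by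
    rw [map_inv, he, map_mul, map_mul, map_inv, inv_mem_iff]
    rcases hvx with h | h
    · rw [h]; exact hxN
    · rw [h]; exact inv_mem hxN
  have hez : Commute (e : G) K.z := (hwz.mul_left (comm_z hd)).mul_left hwz.inv_left
  have key : ∀ o ∈ Subgroup.zpowers F.a, (e : G) * o * (e : G)⁻¹ ∈ Subgroup.zpowers F.a := by
    intro o ho
    have h1 : (e : G) * o * (e : G)⁻¹ ∈ F.O := F.mem_NO_conj e.2 (F.za_le_O ho)
    refine F.fix_P1 (F.O_z.le ⟨h1, Subgroup.mem_centralizer_singleton_iff.2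
      ((hez.mul_left (F.za_comm F.az.symm ho).symm).mul_left hez.inv_left)⟩) fun m hm => ?_
    set mn : ↥F.NO := ⟨m, F.P1_le_NO hm⟩
    obtain ⟨m', hm', hq⟩ := F.mem_Y.1 ((Subgroup.mem_normalizer_iff.1 heY (F.q mn)).1
      (F.mem_Y.2 ⟨mn, hm, rfl⟩))
    rw [← map_inv, ← map_mul, ← map_mul] at hq
    have hO := F.q_eq.1 hq
    have hcm : Commute (m' : G) o := F.za_comm (F.Oa_comm (F.P1_Om hm').1) ho
    have hco : Commute ((m' : G)⁻¹ * ((e⁻¹ * mn * e⁻¹⁻¹ : ↥F.NO) : G)) o := F.O_comm hO (F.za_le_O ho)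
    have := hcm.mul_left hco
    rw [mul_inv_cancel_left] at this
    have h5 := (Commute.conj_iff (e : G)).2 this
    simpa [mn, mul_assoc] using h5
  obtain ⟨o', p, hw⟩ := F.img_cases (w⁻¹).2 (by simpa using hwz.inv_left)
  obtain ⟨j, hj⟩ := P9.rep_six o' 0
  set t : G := ((w⁻¹ : ↥F.NO) : G) * F.a * ((w⁻¹ : ↥F.NO) : G)⁻¹ with ht
  have hti : K.Img t (P9.six j) := by
    have := hw.conj F.ia
    rwa [show P9.rep o' * P9.word p * A0 * (P9.rep o' * P9.word p)⁻¹ =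
      P9.rep o' * (P9.word p * P9.six 0 * (P9.word p)⁻¹) * (P9.rep o')⁻¹ by
      rw [show P9.six 0 = A0 from rfl]; group, P9.word_comm_six, mul_inv_cancel_right, hj] at this
  obtain ⟨k, hk⟩ := hf_pow F.a3 (key F.a (Subgroup.mem_zpowers _))
  have hd' : d * t * d⁻¹ = t ^ k := by
    rw [ht]
    simp only [he, Subgroup.coe_mul, InvMemClass.coe_inv, dn] at hk
    calc d * ((w : G)⁻¹ * F.a * ((w : G)⁻¹)⁻¹) * d⁻¹
        = (w : G)⁻¹ * (((w : G) * d * (w : G)⁻¹) * F.a * ((w : G) * d * (w : G)⁻¹)⁻¹) * ((w : G)⁻¹)⁻¹ := by group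
      _ = _ := by rw [hk, ← conj_pow, InvMemClass.coe_inv]
  have himg := (hd.conj hti).unique (hd' ▸ hti.pow k)
  refine six_not_D0 j ⟨k % 3, Nat.mod_lt _ (by norm_num)⟩ ?_
  rw [himg]
  show P9.six j ^ k = P9.six j ^ (k % 3)
  conv_lhs => rw [← Nat.mod_add_div k 3, pow_add, pow_mul,
    (by decide +kernel : ∀ j, P9.six j ^ 3 = 1) j, one_pow, mul_one]

include F in
theorem not_nine : False := by
  classical
  haveI := Fact.mk Nat.prime_three
  haveI := Fact.mk Nat.prime_two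
  obtain ⟨η, h4, hη, hηY⟩ := F.exists_eta
  obtain ⟨P, hP⟩ := F.Y_p.exists_le_sylow
  obtain ⟨j, hj⟩ := IsPGroup.iff_card.1 P.isPGroup'
  have hdvd : 3 ^ j ∣ Nat.card F.Quo := hj ▸ Subgroup.card_subgroup_dvd_card _
  have hnot : ¬ 3 ∣ (P : Subgroup F.Quo).index := P.not_dvd_index
  have hmul := (P : Subgroup F.Quo).card_mul_index
  have hge := Subgroup.card_le_of_le hP
  rw [F.card_Y, hj] at hge
  rw [hj] at hmul
  rcases F.card_Quo with hQ | hQ
  · -- order 5616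
    have hj3 : j = 3 := by
      have h4' : j < 4 := by
        by_contra h
        have h81 := (pow_dvd_pow 3 (show 4 ≤ j by omega)).trans hdvd
        omega
      interval_cases j <;> omega
    subst hj3
    set CY := Subgroup.centralizer (F.Y : Set F.Quo)
    have hyne : ∃ y ∈ F.Y, y ≠ 1 := by
      rcases Subgroup.ne_bot_iff_exists_ne_one.1 F.Y_ne_bot with ⟨⟨y, hy⟩, hy1⟩
      exact ⟨y, hy, fun h => hy1 (Subtype.ext h)⟩
    obtain ⟨y, hy, hy1⟩ := hyne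
    have hCodd : Odd (Nat.card CY) := by
      by_contra h
      rw [Nat.not_odd_iff_even, even_iff_two_dvd] at h
      obtain ⟨⟨u, hu⟩, hu2⟩ := exists_prime_orderOf_dvd_card' 2 h
      rw [Subgroup.orderOf_mk] at hu2
      exact F.odd_cent hy hy1 hu2 (Subgroup.mem_centralizer_iff.1 hu y hy).symm
    have normC : ∀ g : F.Quo, (∀ y ∈ F.Y, g * y * g⁻¹ ∈ F.Y) → ∀ k ∈ CY, g * k * g⁻¹ ∈ CY := by
      intro g hg k hk
      refine Subgroup.mem_centralizer_iff.2 fun y hy => ?_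
      have hy' : g⁻¹ * y * g⁻¹⁻¹ ∈ F.Y :=
        (Subgroup.mem_normalizer_iff.1 (inv_mem (mem_normalizer_of_le hg)) y).1 hy
      have h2 := Subgroup.mem_centralizer_iff.1 hk _ hy'
      calc y * (g * k * g⁻¹) = g * (g⁻¹ * y * g⁻¹⁻¹ * k) * g⁻¹ := by group
        _ = g * (k * (g⁻¹ * y * g⁻¹⁻¹)) * g⁻¹ := by rw [h2]
        _ = _ := by group
    have hzY : ∀ y ∈ F.Y, F.zX * y * F.zX⁻¹ ∈ F.Y := fun y hy => by rw [F.Y_inv hy]; exact inv_mem hy
    have no3' : ∀ x ∈ F.CX, (∀ y ∈ F.Y, x * y * x⁻¹ ∈ F.Y) → ¬ 3 ∣ orderOf x := by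
      intro x hx hxn h
      have ho : orderOf (x ^ (orderOf x / 3)) = 3 := orderOf_pow_orderOf_div (orderOf_pos x).ne' h
      have hp3 : (x ^ (orderOf x / 3)) ^ 3 = 1 := orderOf_dvd_iff_pow_eq_one.1 (dvd_of_eq ho)
      refine F.no_three (pow_mem hx (orderOf x / 3)) hp3
        (fun e => by rw [e, orderOf_one] at ho; omega) ?_
      have hN : x ∈ Subgroup.normalizer (F.Y : Set F.Quo) := mem_normalizer_of_le hxn
      exact fun y hy => (Subgroup.mem_normalizer_iff.1 (pow_mem hN (orderOf x / 3)) y).1 hy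
    have two : ∀ x ∈ F.CX, ¬ 3 ∣ orderOf x → ∃ t, x ^ 2 ^ t = 1 := by
      intro x hx h
      have hd : orderOf x ∣ 2 ^ 4 * 3 :=
        (Subgroup.orderOf_dvd_natCard _ hx).trans (by rw [F.card_CX]; norm_num)
      have hcop : (orderOf x).Coprime 3 := Nat.Coprime.symm ((Nat.Prime.coprime_iff_not_dvd Nat.prime_three).2 h)
      exact ⟨4, orderOf_dvd_iff_pow_eq_one.1 (hcop.dvd_of_dvd_mul_right hd)⟩
    have free : ∀ x ∈ CY, Commute x F.zX → x = 1 := by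
      intro x hx hxz
      have hxC : x ∈ F.CX := Subgroup.mem_centralizer_singleton_iff.2 hxz
      obtain ⟨t, ht⟩ := two x hxC (no3' x hxC fun y hy => by
        rw [(Subgroup.mem_centralizer_iff.1 hx y hy).symm, mul_inv_cancel_right]; exact hy)
      exact orderOf_eq_one_iff.1 (Nat.eq_one_of_dvd_coprimes
        (Nat.Coprime.pow_right t (Nat.coprime_two_right.2 hCodd))
        (Subgroup.orderOf_dvd_natCard _ hx) (orderOf_dvd_of_pow_eq_one ht))
    have hinv : ∀ k ∈ CY, F.zX * k * F.zX⁻¹ = k⁻¹ := by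
      let f : ↥CY → ↥CY := fun x => ⟨(x : F.Quo)⁻¹ * (F.zX * x * F.zX⁻¹), mul_mem (inv_mem x.2) (normC _ hzY _ x.2)⟩
      have hf : Function.Injective f := by
        intro x x' e
        have e' : (x : F.Quo)⁻¹ * (F.zX * x * F.zX⁻¹) = (x' : F.Quo)⁻¹ * (F.zX * x' * F.zX⁻¹) :=
          congrArg Subtype.val e
        refine Subtype.ext (mul_inv_eq_one.1 (free _ (mul_mem x.2 (inv_mem x'.2)) ?_))
        refine (mul_inv_eq_iff_eq_mul.1 (?_ : F.zX * ((x : F.Quo) * (x' : F.Quo)⁻¹) * F.zX⁻¹ = _)).symm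
        calc F.zX * ((x : F.Quo) * (x' : F.Quo)⁻¹) * F.zX⁻¹
            = x * ((x : F.Quo)⁻¹ * (F.zX * x * F.zX⁻¹)) * (F.zX * x' * F.zX⁻¹)⁻¹ := by group
          _ = x * ((x' : F.Quo)⁻¹ * (F.zX * x' * F.zX⁻¹)) * (F.zX * x' * F.zX⁻¹)⁻¹ := by rw [e']
          _ = _ := by group
      intro k hk
      obtain ⟨x, hx⟩ := (Finite.injective_iff_surjective.1 hf) ⟨k, hk⟩
      have hx' : (x : F.Quo)⁻¹ * (F.zX * x * F.zX⁻¹) = k := congrArg Subtype.val hx
      have e2 : F.zX * (F.zX * x * F.zX⁻¹) * F.zX⁻¹ = x := SmallCent.conj_conj F.zX_sq _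
      rw [← hx']
      calc F.zX * ((x : F.Quo)⁻¹ * (F.zX * x * F.zX⁻¹)) * F.zX⁻¹
          = (F.zX * x * F.zX⁻¹)⁻¹ * (F.zX * (F.zX * x * F.zX⁻¹) * F.zX⁻¹) := by group
        _ = _ := by rw [e2]; group
    -- the Sylow subgroup centralizes `Y`
    have hPC : (P : Subgroup F.Quo) ≤ CY := by
      haveI hn : (F.Y.subgroupOf (P : Subgroup F.Quo)).Normal := by
        refine Subgroup.normal_of_index_eq_minFac_card ?_
        have hm := (F.Y.subgroupOf (P : Subgroup F.Quo)).card_mul_index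
        rw [Nat.card_congr (Subgroup.subgroupOfEquivOfLe hP).toEquiv, F.card_Y, hj] at hm
        rw [hj]; norm_num at hm ⊢; omega
      intro g hg
      have hgY : ∀ y ∈ F.Y, g * y * g⁻¹ ∈ F.Y := fun y hy => hn.conj_mem ⟨y, hP hy⟩ hy ⟨g, hg⟩
      have hgN : g ∈ Subgroup.normalizer (F.Y : Set F.Quo) := mem_normalizer_of_le hgY
      set k := F.zX * g * F.zX⁻¹ * g⁻¹ with hk
      have hkC : k ∈ CY := Subgroup.mem_centralizer_iff.2 fun y hy => by
        have h1 : g⁻¹ * y * g⁻¹⁻¹ ∈ F.Y := (Subgroup.mem_normalizer_iff.1 (inv_mem hgN) y).1 hy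
        have key : k * y * k⁻¹ = y := by
          calc k * y * k⁻¹ = F.zX * (g * (F.zX⁻¹ * (g⁻¹ * y * g⁻¹⁻¹) * F.zX) * g⁻¹) * F.zX⁻¹ := by rw [hk]; group
            _ = F.zX * (g * (g⁻¹ * y * g⁻¹⁻¹)⁻¹ * g⁻¹) * F.zX⁻¹ := by
              have hzi : F.zX⁻¹ = F.zX := inv_eq_of_mul_eq_one_left F.zX_sq
              have h3 := F.Y_inv h1
              rw [hzi] at h3 ⊢
              rw [h3]
            _ = F.zX * y⁻¹ * F.zX⁻¹ := by group
            _ = _ := by rw [F.Y_inv (inv_mem hy), inv_inv]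
        exact (mul_inv_eq_iff_eq_mul.1 key).symm
      set r := SmallCent.sqr CY k with hr
      have hrC : r ∈ CY := SmallCent.sqr_mem hkC
      have hrr : r * r = k := SmallCent.sqr_mul_self hCodd hkC
      set c := r * g with hc
      have hzc : F.zX * c * F.zX⁻¹ = c := by
        calc F.zX * c * F.zX⁻¹ = F.zX * r * F.zX⁻¹ * (F.zX * g * F.zX⁻¹ * g⁻¹) * g := by rw [hc]; group
          _ = r⁻¹ * (r * r) * g := by rw [hinv r hrC, ← hk, hrr]
          _ = c := by rw [hc]; group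
      have hcC : c ∈ F.CX :=
        Subgroup.mem_centralizer_singleton_iff.2 (mul_inv_eq_iff_eq_mul.1 hzc).symm
      have hcY : ∀ y ∈ F.Y, c * y * c⁻¹ = g * y * g⁻¹ := fun y hy => by
        rw [hc, show r * g * y * (r * g)⁻¹ = r * (g * y * g⁻¹) * r⁻¹ by group,
          (Subgroup.mem_centralizer_iff.1 hrC _ (hgY y hy)).symm, mul_inv_cancel_right]
      obtain ⟨t, ht⟩ := two c hcC (no3' c hcC fun y hy => by rw [hcY y hy]; exact hgY y hy)
      have hpow : ∀ m : ℕ, ∀ y ∈ F.Y, g ^ m * y * (g ^ m)⁻¹ = c ^ m * y * (c ^ m)⁻¹ := by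
        intro m
        induction m with
        | zero => intro y _; simp
        | succ m ih =>
          intro y hy
          rw [pow_succ, pow_succ, show g ^ m * g * y * (g ^ m * g)⁻¹ = g ^ m * (g * y * g⁻¹) * (g ^ m)⁻¹ by group,
            show c ^ m * c * y * (c ^ m * c)⁻¹ = c ^ m * (c * y * c⁻¹) * (c ^ m)⁻¹ by group, hcY y hy,
            ih _ (hgY y hy)]
      have h2 : g ^ 2 ^ t ∈ CY := Subgroup.mem_centralizer_iff.2 fun y hy => by
        have := hpow (2 ^ t) y hy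
        rw [ht, one_mul, inv_one, mul_one, mul_inv_eq_iff_eq_mul] at this
        exact this.symm
      have h27 : g ^ 27 = 1 := by
        have h1 : orderOf g ∣ Nat.card ↥(P : Subgroup F.Quo) := Subgroup.orderOf_dvd_natCard _ hg
        rw [hj] at h1
        exact orderOf_dvd_iff_pow_eq_one.1 (by simpa using h1)
      have hcop : (2 ^ t).Coprime (orderOf g) :=
        Nat.Coprime.coprime_dvd_right (orderOf_dvd_of_pow_eq_one h27)
          (Nat.Coprime.pow_left t (by norm_num : Nat.Coprime 2 27))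
      obtain ⟨b, hb⟩ := exists_pow_eq_self_of_coprime hcop
      rw [← hb]; exact pow_mem h2 b
    have h27 : 27 ∣ Nat.card CY := by
      rw [show 27 = Nat.card ↥(P : Subgroup F.Quo) by rw [hj]; norm_num]
      exact Subgroup.card_dvd_of_le hPC
    have h8 := card_mod_eight CY h4 F.zX_ne F.zX_sq (normC η hηY) hinv hCodd
    have h351 : Nat.card CY ∣ 351 := by
      have hd := Subgroup.card_subgroup_dvd_card CY
      rw [hQ, show 5616 = 2 ^ 4 * 351 by norm_num] at hd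
      exact (Nat.Coprime.pow_right 4 (Nat.coprime_two_right.2 hCodd)).dvd_of_dvd_mul_left hd
    obtain ⟨q, hq⟩ := h27
    obtain ⟨m, hm⟩ := h351
    have hq13 : q ∣ 13 := ⟨m, by rw [hq] at hm; nlinarith⟩
    rcases (Nat.dvd_prime (by norm_num : Nat.Prime 13)).1 hq13 with e | e <;> subst e <;> omega
  · -- order 7920
    have hj2 : j = 2 := by
      have h3' : j < 3 := by
        by_contra h
        have h27 := (pow_dvd_pow 3 (show 3 ≤ j by omega)).trans hdvd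
        omega
      interval_cases j <;> omega
    subst hj2
    have hPY : F.Y = (P : Subgroup F.Quo) := Subgroup.eq_of_le_of_card_ge hP (by rw [F.card_Y, hj]; norm_num)
    obtain ⟨d, hd, hd3, -, -, -⟩ := F.exists_d
    set x := F.q ⟨d, F.d_NO hd⟩
    have hx3 : x ^ 3 = 1 := by
      rw [← map_pow, show (⟨d, F.d_NO hd⟩ : ↥F.NO) ^ 3 = 1 from Subtype.ext hd3, map_one]
    obtain ⟨Q, hQ'⟩ := (show IsPGroup 3 (Subgroup.zpowers x) from fun w => ⟨1, by
      obtain ⟨w, i, rfl⟩ := w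
      refine Subtype.ext ?_
      show (x ^ i) ^ 3 ^ 1 = 1
      rw [pow_one, ← zpow_natCast, ← zpow_mul, mul_comm, zpow_mul, zpow_natCast, hx3, one_zpow]⟩).exists_le_sylow
    obtain ⟨g, hg⟩ := MulAction.exists_smul_eq F.Quo Q P
    have hy : g * x * g⁻¹ ∈ F.Y := by
      rw [hPY, ← hg, Sylow.coe_subgroup_smul, Subgroup.mem_pointwise_smul_iff_inv_smul_mem]
      have e' : (MulAut.conj g)⁻¹ • (g * x * g⁻¹) = x := by
        show (MulAut.conj g)⁻¹ (g * x * g⁻¹) = x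
        rw [MulAut.conj_inv_apply]; group
      rw [e']
      exact hQ' (Subgroup.mem_zpowers x)
    exact F.not_conj_d hy hd (isConj_iff.2 ⟨g, rfl⟩)

end Cfg.Triple

theorem Cfg.not_nine [IsSimpleGroup G] (K : Cfg G 9) : False := by
  obtain ⟨F⟩ := Cfg.exists_triple (K := K) (le_refl 9)
  exact F.not_nine

end Cfsg.Agent.Invol.TwoAn
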