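import Mathlib
import Cfsg.Agent.Lib.Invol.TwoAn.Core
import Cfsg.Agent.Lib.Invol.TwoAn.IsolatedCore
import Cfsg.Agent.Lib.Invol.CentSix.Gl23
import Cfsg.Agent.Lib.Invol.GLTwoThreeTable

/-!
# Degree ten: the centralizer of `z` and `a b` maps onto `GL(2,3)`
-/

set_option autoImplicit false
set_option linter.unusedSectionVars false
set_option maxRecDepth 100000

namespace Cfsg.Agent.Invol.TwoAn

open Equiv Equiv.Perm
open scoped commutatorElement

universe u

variable {G : Type u} [Group G] [Finite G]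

/-- The last four points. -/
def tail4 : Fin 4 ↪ Fin 10 := ⟨fun i => ⟨i + 6, by omega⟩, fun i j h => Fin.ext (by simpa using congrArg Fin.val h)⟩

theorem mem_tail4 {i : Fin 10} : i ∈ Set.range tail4 ↔ 6 ≤ (i : ℕ) :=
  ⟨fun ⟨j, hj⟩ => by rw [← hj]; exact Nat.le_add_left 6 j,
    fun h => ⟨⟨i - 6, by omega⟩, Fin.ext (show (i : ℕ) - 6 + 6 = i by omega)⟩⟩

theorem fours4_comm : ∀ v : Perm (Fin 4), (∀ w : Perm (Fin 4), w * w = 1 ∧ sign w = 1 → v * w = w * v) →
    v * v = 1 ∧ sign v = 1 := by decide +kernel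

theorem fours4_quad : ∀ w : Perm (Fin 4), w * w = 1 → sign w = 1 → w ≠ 1 → w.support.card = 4 := by decide +kernel

theorem odd4_normal : ∀ v : Perm (Fin 4), v ^ 3 = 1 → v ≠ 1 →
    ∃ g, g * v * g⁻¹ * v⁻¹ ≠ 1 ∧ (g * v * g⁻¹ * v⁻¹) ^ 2 = 1 := by decide +kernel

theorem even4_comm : ∀ v : Perm (Fin 4), sign v = 1 → ∃ p q, v = p * q * p⁻¹ * q⁻¹ := by decide +kernel

theorem last3_C0 : ∀ i : Fin 3, (C0 ⟨i + 6, by omega⟩ : ℕ) =
    ((swap 0 1 * swap 1 2 : Perm (Fin 4)) ⟨i, by omega⟩ : ℕ) + 6 := by decide +kernel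

theorem last3_X0 : ∀ i : Fin 3, (X0 ⟨i + 6, by omega⟩ : ℕ) =
    ((swap 0 1 : Perm (Fin 4)) ⟨i, by omega⟩ : ℕ) + 6 := by decide +kernel

theorem card_fours4 : Nat.card {v : Perm (Fin 4) // v * v = 1 ∧ sign v = 1} = 4 := by
  rw [Nat.card_eq_fintype_card]; decide +kernel

namespace Cfg.Triple

variable {K : Cfg G 10} {h9 : 9 ≤ 10} (F : Triple K h9)

theorem fixed_ab (i : Fin 10) : emb h9 (A0 * B0) i = i ↔ 6 ≤ (i : ℕ) := by
  by_cases hi : (i : ℕ) < 9
  · obtain ⟨j, rfl⟩ : ∃ j : Fin 9, Fin.castLE h9 j = i := ⟨⟨i, hi⟩, Fin.ext rfl⟩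
    rw [emb_lt, (Fin.castLE_injective h9).eq_iff, Fin.val_castLE]
    exact (by decide +kernel : ∀ j : Fin 9, (A0 * B0) j = j ↔ 6 ≤ (j : ℕ)) j
  · exact ⟨fun _ => by omega, fun _ => emb_ge h9 _ (by omega)⟩

theorem wz_img (w : ↥F.Wz) : K.Img (w : G) (K.P ⟨w, (w.2).2⟩) := ⟨(w.2).2, rfl⟩

theorem wz_pres (w : ↥F.Wz) : K.P ⟨w, (w.2).2⟩ ∈ presRange tail4 := by
  have hab : K.Img (F.a * F.b) (emb h9 (A0 * B0)) := by rw [map_mul]; exact F.img_a.mul F.img_b
  have hc := ((F.wz_img w).mul hab).unique ((F.mem_Wz.1 w.2).1.eq.symm ▸ hab.mul (F.wz_img w))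
  intro i
  rw [mem_tail4, mem_tail4, ← fixed_ab (h9 := h9), ← fixed_ab (h9 := h9), ← Perm.mul_apply (emb h9 (A0 * B0)), ← hc,
    Perm.mul_apply]
  exact (K.P ⟨w, (w.2).2⟩).injective.eq_iff

/-- The action on the last four points. -/
noncomputable def res : ↥F.Wz →* Perm (Fin 4) :=
  (resHom tail4).comp ((K.P.comp (Subgroup.inclusion (inf_le_right : F.Wz ≤ _))).codRestrict _ F.wz_pres)

theorem res_eq {w : ↥F.Wz} {σ : Perm (Fin 10)} (hw : K.Img (w : G) σ) {v : Perm (Fin 4)}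
    (h : ∀ i, σ (tail4 i) = tail4 (v i)) : F.res w = v := by
  refine Equiv.ext fun i => tail4.injective ?_
  rw [← h, hw.unique (F.wz_img w)]
  exact resHom_apply tail4 _ i

theorem emb_low {σ : Perm (Fin 9)} (h : ∀ j : Fin 9, 6 ≤ (j : ℕ) → σ j = j) (i : Fin 4) :
    emb h9 σ (tail4 i) = tail4 i := by
  by_cases hi : (tail4 i : ℕ) < 9
  · rw [show tail4 i = Fin.castLE h9 ⟨tail4 i, hi⟩ from rfl, emb_lt, h _ (Nat.le_add_left 6 _)]
  · exact emb_ge h9 _ (by omega)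

theorem res_a : F.res ⟨F.a, F.a_mem⟩ = 1 :=
  F.res_eq F.img_a (fun i => emb_low (by decide +kernel) i)

theorem res_b : F.res ⟨F.b, F.b_mem⟩ = 1 :=
  F.res_eq F.img_b (fun i => emb_low (by decide +kernel) i)

theorem res_z : F.res ⟨K.z, F.z_mem⟩ = 1 := F.res_eq img_z fun _ => rfl

theorem res_c : F.res ⟨F.c, F.c_mem⟩ = swap 0 1 * swap 1 2 :=
  F.res_eq F.img_c (fun i => by
    by_cases hi : (i : ℕ) < 3
    · rw [show tail4 i = Fin.castLE h9 ⟨i + 6, by omega⟩ from rfl, emb_lt]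
      refine Fin.ext ?_
      exact last3_C0 ⟨i, hi⟩
    · obtain rfl : i = 3 := by omega
      rw [emb_ge h9 _ (by decide)]
      decide +kernel)

theorem res_T : F.res ⟨F.T, F.T_mem⟩ = swap 0 1 :=
  F.res_eq F.img (fun i => by
    by_cases hi : (i : ℕ) < 3
    · rw [show tail4 i = Fin.castLE h9 ⟨i + 6, by omega⟩ from rfl, emb_lt]
      refine Fin.ext ?_
      exact last3_X0 ⟨i, hi⟩
    · obtain rfl : i = 3 := by omega
      rw [emb_ge h9 _ (by decide)]
      decide +kernel)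

/-- A lift of an even permutation of the last four points. -/
theorem exists_up {v : Perm (Fin 4)} (hv : sign v = 1) :
    ∃ w : ↥F.Wz, K.Img (w : G) (Perm.viaEmbeddingHom tail4 v) ∧ F.res w = v ∧ Commute (w : G) F.a ∧
      Commute (w : G) F.b := by
  obtain ⟨u, hu⟩ := exists_img (K := K) (σ := Perm.viaEmbeddingHom tail4 v)
    (by rw [Perm.viaEmbeddingHom_apply, Lie.Carmichael.sign_viaEmbedding]; exact hv)
  have hcomm : ∀ σ : Perm (Fin 9), (∀ j : Fin 9, 6 ≤ (j : ℕ) → σ j = j) →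
      Commute (emb h9 σ) (Perm.viaEmbeddingHom tail4 v) := by
    intro σ hσ
    refine Equiv.ext fun j => ?_
    rw [Perm.mul_apply, Perm.mul_apply, Perm.viaEmbeddingHom_apply]
    by_cases hj : j ∈ Set.range tail4
    · obtain ⟨j, rfl⟩ := hj
      rw [Perm.viaEmbedding_apply, emb_low hσ, emb_low hσ, Perm.viaEmbedding_apply]
    · rw [Perm.viaEmbedding_apply_of_notMem _ _ _ hj, Perm.viaEmbedding_apply_of_notMem _ _ _ ?_]
      rintro ⟨i, hi⟩
      exact hj ⟨i, (emb h9 σ).injective ((emb_low hσ i).trans hi)⟩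
  have ha : Commute u F.a := (F.img_a.commute_odd hu (hcomm _ (by decide +kernel)) (by decide : Odd 3) F.a3).symm
  have hb : Commute u F.b := (F.img_b.commute_odd hu (hcomm _ (by decide +kernel)) (by decide : Odd 3) F.b3).symm
  refine ⟨⟨u, F.mem_Wz.2 ⟨ha.mul_right hb, comm_z hu⟩⟩, hu, F.res_eq hu fun i => ?_, ha, hb⟩
  rw [Perm.viaEmbeddingHom_apply, Perm.viaEmbedding_apply]

theorem res_surj : Function.Surjective F.res := by
  intro v
  rcases Int.units_eq_one_or (sign v) with h | h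
  · obtain ⟨w, -, hw, -, -⟩ := F.exists_up h
    exact ⟨w, hw⟩
  · obtain ⟨w, -, hw, -, -⟩ := F.exists_up (v := v * swap 0 1) (by rw [map_mul, h, sign_swap (by decide)]; rfl)
    exact ⟨w * ⟨F.T, F.T_mem⟩, by rw [map_mul, hw, F.res_T, mul_assoc, swap_mul_self, mul_one]⟩

/-- The subgroup generated by `a` and `b`. -/
def E : Subgroup G := Subgroup.zpowers F.a ⊔ Subgroup.zpowers F.b

theorem E_le_A : F.E ≤ F.A := sup_le (Subgroup.zpowers_le.2 F.a_A) (Subgroup.zpowers_le.2 F.b_A)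

theorem a_E : F.a ∈ F.E := Subgroup.mem_sup_left (Subgroup.mem_zpowers _)
theorem b_E : F.b ∈ F.E := Subgroup.mem_sup_right (Subgroup.mem_zpowers _)

theorem E_res {x : G} (hx : x ∈ F.E) : ∃ h : x ∈ F.Wz, F.res ⟨x, h⟩ = 1 := by
  have hle : F.E ≤ F.res.ker.map F.Wz.subtype := sup_le
    (Subgroup.zpowers_le.2 ⟨⟨F.a, F.a_mem⟩, F.res_a, rfl⟩) (Subgroup.zpowers_le.2 ⟨⟨F.b, F.b_mem⟩, F.res_b, rfl⟩)
  obtain ⟨w, hw, rfl⟩ := hle hx
  exact ⟨w.2, hw⟩

theorem card_E : Nat.card F.E = 9 := by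
  haveI := Fact.mk Nat.prime_three
  have hd : Nat.card F.E ∣ 3 ^ 3 := by
    rw [show (3 : ℕ) ^ 3 = 27 by norm_num, ← F.card_A]; exact Subgroup.card_dvd_of_le F.E_le_A
  obtain ⟨m, hm, hc⟩ := (Nat.dvd_prime_pow Nat.prime_three).1 hd
  have h3 : 3 ≤ Nat.card F.E := by
    refine le_trans (le_of_eq ?_) (Subgroup.card_le_of_le (show Subgroup.zpowers F.a ≤ F.E from le_sup_left))
    rw [Nat.card_zpowers]
    exact (orderOf_eq_prime F.a3 fun e => absurd (emb_injective h9 ((F.img_a.unique (e ▸ Img.one)).trans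
      (map_one _).symm)) (by decide +kernel)).symm
  have hne : Nat.card F.E ≠ 3 := by
    intro h
    have he : F.b ∈ Subgroup.zpowers F.a := by
      have := Subgroup.eq_of_le_of_card_ge (show Subgroup.zpowers F.a ≤ F.E from le_sup_left) (by
        rw [h, Nat.card_zpowers, orderOf_eq_prime F.a3 fun e => absurd (emb_injective h9
          ((F.img_a.unique (e ▸ Img.one)).trans (map_one _).symm)) (by decide +kernel)])
      rw [this]; exact F.b_E
    obtain ⟨k, hk⟩ := hf_pow F.a3 he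
    have h1 := F.img_b.unique (hk ▸ F.img_a.pow k)
    rw [← map_pow] at h1
    have h2 := emb_injective h9 h1
    have h3 : B0 0 = (A0 ^ k) 0 := by rw [h2]
    have h4 : A0 ^ k = A0 ^ (k % 3) := by
      conv_lhs => rw [← Nat.mod_add_div k 3, pow_add, pow_mul, three_facts.1, one_pow, mul_one]
    rw [h4] at h2
    exact (by decide +kernel : ∀ k : Fin 3, B0 ≠ A0 ^ (k : ℕ)) ⟨k % 3, Nat.mod_lt _ (by norm_num)⟩ h2
  have h27 : Nat.card F.E ≠ 27 := by
    intro h
    have := Subgroup.eq_of_le_of_card_ge F.E_le_A (by rw [h, F.card_A])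
    obtain ⟨hW, hr⟩ := F.E_res (this.symm ▸ F.c_A)
    rw [F.res_c] at hr
    exact absurd hr (by decide +kernel)
  rw [hc] at h3 hne h27 ⊢
  interval_cases m <;> omega

theorem card_Wz_eq : Nat.card ↥F.Wz = 432 := by
  have h1 := F.res.ker.card_mul_index
  rw [Subgroup.index_ker, MonoidHom.range_eq_top.2 F.res_surj, Subgroup.card_top, Nat.card_perm, Nat.card_fin,
    show Nat.factorial 4 = 24 from rfl] at h1
  have h2 : 2 ∣ Nat.card F.res.ker := by
    rw [← K.hz]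
    have := Subgroup.orderOf_dvd_natCard F.res.ker (x := (⟨K.z, F.z_mem⟩ : ↥F.Wz)) F.res_z
    rwa [← Subgroup.orderOf_coe] at this
  have h9' : 9 ∣ Nat.card F.res.ker := by
    rw [← F.card_E]
    have hle : F.E ≤ F.res.ker.map F.Wz.subtype := fun x hx => by
      obtain ⟨h, hr⟩ := F.E_res hx
      exact ⟨⟨x, h⟩, hr, rfl⟩
    have := Subgroup.card_dvd_of_le hle
    rwa [Subgroup.card_map_of_injective F.Wz.subtype_injective] at this
  have h18 : 18 ∣ Nat.card F.res.ker := Nat.Coprime.mul_dvd_of_dvd_of_dvd (by norm_num : Nat.Coprime 2 9) h2 h9'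
  have hd := F.card_Wz_dvd
  simp only [show (10 - 6 : ℕ) = 4 from rfl, show Nat.factorial 4 = 24 from rfl] at hd
  norm_num at hd
  have hle := Nat.le_of_dvd (by norm_num) hd
  obtain ⟨q, hq⟩ := h18
  have hpos : 0 < Nat.card F.res.ker := Nat.card_pos
  omega

theorem ker_cases {w : ↥F.Wz} (h : F.res w = 1) : ∃ e ∈ F.E, (w : G) = e ∨ (w : G) = e * K.z := by
  have h1 := F.res.ker.card_mul_index
  rw [Subgroup.index_ker, MonoidHom.range_eq_top.2 F.res_surj, Subgroup.card_top, Nat.card_perm, Nat.card_fin,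
    show Nat.factorial 4 = 24 from rfl, F.card_Wz_eq] at h1
  have hEz : ∀ e ∈ F.E, Commute e K.z := fun e he => (F.mem_Wz.1 (F.A_le_Wz (F.E_le_A he))).2
  let f : ↥F.E × Bool → ↥F.res.ker := fun p =>
    ⟨⟨(p.1 : G) * (if p.2 then K.z else 1), mul_mem (F.E_res p.1.2).1 (by cases p.2 <;> simp [F.z_mem, one_mem])⟩, by
      rw [MonoidHom.mem_ker]
      obtain ⟨hx, hr⟩ := F.E_res p.1.2
      cases hp : p.2
      · have e : (⟨(p.1 : G) * 1, mul_mem hx (one_mem _)⟩ : ↥F.Wz) = ⟨p.1, hx⟩ := Subtype.ext (mul_one _)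
        simpa [e] using hr
      · have e : (⟨(p.1 : G) * K.z, mul_mem hx F.z_mem⟩ : ↥F.Wz) = ⟨p.1, hx⟩ * ⟨K.z, F.z_mem⟩ := rfl
        simp only [↓reduceIte, e, map_mul, hr, F.res_z, one_mul]⟩
  have hf : Function.Injective f := by
    rintro ⟨e, s⟩ ⟨e', s'⟩ h
    have h' : (e : G) * (if s then K.z else 1) = e' * (if s' then K.z else 1) :=
      congrArg (fun x : ↥F.res.ker => ((x : ↥F.Wz) : G)) h
    have hodd : ∀ x : ↥F.E, (x : G) ≠ K.z := fun x hx => by
      have := odd_order_of_mem (R := F.A) (by rw [F.card_A]; decide) (F.E_le_A x.2)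
      rw [hx, K.hz] at this
      exact absurd this (by decide)
    cases s <;> cases s' <;> simp at h'
    · exact Prod.ext (by first | exact h' | exact Subtype.ext h') rfl
    · exact absurd (show (((e' : ↥F.E)⁻¹ * e : ↥F.E) : G) = K.z by simp [h']) (hodd _)
    · exact absurd (show (((e : ↥F.E)⁻¹ * e' : ↥F.E) : G) = K.z by simp [← h']) (hodd _)
    · exact Prod.ext (by first | exact h' | exact Subtype.ext h') rfl
  have hb := hf.bijective_of_nat_card_le (by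
    rw [Nat.card_prod, F.card_E]
    simp only [Nat.card_eq_fintype_card (α := Bool), Fintype.card_bool]
    omega)
  obtain ⟨⟨e, s⟩, hes⟩ := hb.2 ⟨w, h⟩
  have hw : (e : G) * (if s then K.z else 1) = (w : G) := congrArg (fun x : ↥F.res.ker => ((x : ↥F.Wz) : G)) hes
  refine ⟨e, e.2, ?_⟩
  cases s
  · exact Or.inl (by simpa using hw.symm)
  · exact Or.inr (by simpa using hw.symm)

theorem odd_ker {w : ↥F.Wz} (h : F.res w = 1) (ho : Odd (orderOf (w : G))) : (w : G) ∈ F.E := by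
  obtain ⟨e, he, h1 | h1⟩ := F.ker_cases h
  · rw [h1]; exact he
  · exfalso
    have hc : Commute e K.z := (F.mem_Wz.1 (F.A_le_Wz (F.E_le_A he))).2
    have h2 : (w : G) ^ orderOf (w : G) = 1 := pow_orderOf_eq_one _
    rw [h1] at ho h2
    rw [hc.mul_pow, pow_z ho] at h2
    have h3 := odd_order_of_mem (R := F.A) (by rw [F.card_A]; decide)
      (pow_mem (F.E_le_A he) (orderOf (e * K.z)))
    rw [eq_inv_of_mul_eq_one_left h2, orderOf_inv, K.hz] at h3
    exact absurd h3 (by decide)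

theorem E_le_Wz : F.E ≤ F.Wz := F.E_le_A.trans F.A_le_Wz

/-- The subgroup as one of the centralizer. -/
abbrev EW : Subgroup ↥F.Wz := F.E.subgroupOf F.Wz

instance EW_normal : F.EW.Normal := by
  refine ⟨fun x hx w => ?_⟩
  obtain ⟨hx', hr⟩ := F.E_res (x := (x : G)) hx
  show ((w * x * w⁻¹ : ↥F.Wz) : G) ∈ F.E
  refine F.odd_ker ?_ ?_
  · rw [map_mul, map_mul, map_inv, show x = ⟨(x : G), hx'⟩ from rfl, hr, mul_one, mul_inv_cancel]
  · rw [show ((w * x * w⁻¹ : ↥F.Wz) : G) = MulAut.conj (w : G) (x : G) from rfl, MulEquiv.orderOf_eq]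
    exact odd_order_of_mem (R := F.A) (by rw [F.card_A]; decide) (F.E_le_A hx)

/-- The quotient of order 48. -/
abbrev X : Type u := ↥F.Wz ⧸ F.EW

theorem card_X : Nat.card F.X = 48 := by
  have h := Subgroup.card_eq_card_quotient_mul_card_subgroup F.EW
  rw [F.card_Wz_eq, Nat.card_congr (Subgroup.subgroupOfEquivOfLe F.E_le_Wz).toEquiv, F.card_E] at h
  show Nat.card (↥F.Wz ⧸ F.EW) = 48
  omega

/-- The preimage of the four group in the quotient. -/
def L : Subgroup F.X where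
  carrier := {x | ∃ w : ↥F.Wz, (w : F.X) = x ∧ F.res w * F.res w = 1 ∧ sign (F.res w) = 1}
  one_mem' := ⟨1, rfl, by rw [map_one, one_mul], by rw [map_one, map_one]⟩
  mul_mem' := fun ⟨w, hw, h1, h2⟩ ⟨w', hw', h1', h2'⟩ => by
    refine ⟨w * w', by rw [QuotientGroup.mk_mul, hw, hw'], ?_⟩
    rw [map_mul]
    exact (by decide +kernel : ∀ p q : Perm (Fin 4), p * p = 1 → sign p = 1 → q * q = 1 → sign q = 1 →
      p * q * (p * q) = 1 ∧ sign (p * q) = 1) _ _ h1 h2 h1' h2'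
  inv_mem' := fun ⟨w, hw, h1, h2⟩ => ⟨w⁻¹, by rw [QuotientGroup.mk_inv, hw],
    by rw [map_inv, ← mul_inv_rev, h1, inv_one], by rw [map_inv, map_inv, h2, inv_one]⟩

theorem res_congr {w w' : ↥F.Wz} (h : (w : F.X) = (w' : F.X)) : F.res w = F.res w' := by
  have hm : w⁻¹ * w' ∈ F.EW := QuotientGroup.eq.1 h
  obtain ⟨h', hr⟩ := F.E_res (x := ((w⁻¹ * w' : ↥F.Wz) : G)) hm
  have : F.res (w⁻¹ * w') = 1 := hr
  rwa [map_mul, map_inv, inv_mul_eq_one] at this

theorem mem_L {w : ↥F.Wz} : (w : F.X) ∈ F.L ↔ F.res w * F.res w = 1 ∧ sign (F.res w) = 1 :=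
  ⟨fun ⟨w', hw', h⟩ => F.res_congr hw' ▸ h, fun h => ⟨w, rfl, h⟩⟩

theorem L_normal : F.L.Normal := by
  refine ⟨fun x hx y => ?_⟩
  obtain ⟨w, rfl⟩ := QuotientGroup.mk_surjective x
  obtain ⟨v, rfl⟩ := QuotientGroup.mk_surjective y
  rw [← QuotientGroup.mk_inv, ← QuotientGroup.mk_mul, ← QuotientGroup.mk_mul, F.mem_L, map_mul, map_mul, map_inv]
  obtain ⟨h1, h2⟩ := F.mem_L.1 hx
  exact (by decide +kernel : ∀ p q : Perm (Fin 4), p * p = 1 → sign p = 1 →
    q * p * q⁻¹ * (q * p * q⁻¹) = 1 ∧ sign (q * p * q⁻¹) = 1) _ _ h1 h2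

theorem card_L : Nat.card F.L = 8 := by
  let V : Subgroup (Perm (Fin 4)) :=
    { carrier := {v | v * v = 1 ∧ sign v = 1}
      one_mem' := ⟨one_mul 1, map_one _⟩
      mul_mem' := fun {p q} hp hq => (by decide +kernel : ∀ p q : Perm (Fin 4), p * p = 1 → sign p = 1 →
        q * q = 1 → sign q = 1 → p * q * (p * q) = 1 ∧ sign (p * q) = 1) p q hp.1 hp.2 hq.1 hq.2
      inv_mem' := fun {p} hp => ⟨by rw [← mul_inv_rev, hp.1, inv_one], by rw [map_inv, hp.2, inv_one]⟩ }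
  have hV : Nat.card V = 4 := by
    exact card_fours4
  have hL : F.L = (V.comap F.res).map (QuotientGroup.mk' F.EW) := by
    refine le_antisymm (fun x ⟨w, hw, h⟩ => ⟨w, h, hw⟩) ?_
    rintro _ ⟨w, hw, rfl⟩
    exact ⟨w, rfl, hw⟩
  have hle : F.EW ≤ V.comap F.res := fun w hw => by
    obtain ⟨h', hr⟩ := F.E_res (x := (w : G)) hw
    show F.res w ∈ V
    rw [show F.res w = 1 from hr]; exact one_mem _
  have hidx : (V.comap F.res).index = V.index := Subgroup.index_comap_of_surjective _ F.res_surj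
  have h1 := V.card_mul_index
  rw [hV, Nat.card_perm, Nat.card_fin, show Nat.factorial 4 = 24 from rfl] at h1
  have h2 := F.L.card_mul_index
  rw [hL, Subgroup.index_map_eq _ (QuotientGroup.mk'_surjective _) (by rw [QuotientGroup.ker_mk']; exact hle),
    hidx, F.card_X, ← hL] at h2
  rw [show V.index = 6 by omega] at h2
  omega

theorem quad_via {v : Perm (Fin 4)} (h2 : v * v = 1) (hs : sign v = 1) (h1 : v ≠ 1) :
    IsQuad (Perm.viaEmbeddingHom tail4 v) := by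
  refine ⟨by rw [← map_mul, h2, map_one], ?_⟩
  have : (Perm.viaEmbeddingHom tail4 v).support = v.support.map tail4 := by
    ext i
    rw [mem_support, Finset.mem_map, Perm.viaEmbeddingHom_apply]
    by_cases hi : i ∈ Set.range tail4
    · obtain ⟨j, rfl⟩ := hi
      rw [Perm.viaEmbedding_apply]
      refine ⟨fun h => ⟨j, mem_support.2 fun e => h (by rw [e]), rfl⟩, ?_⟩
      rintro ⟨k, hk, e⟩
      obtain rfl := tail4.injective e
      exact fun e' => mem_support.1 hk (tail4.injective e')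
    · rw [Perm.viaEmbedding_apply_of_notMem _ _ _ hi]
      simp only [ne_eq, not_true_eq_false, false_iff, not_exists, not_and]
      exact fun k _ e => hi ⟨k, e⟩
  rw [this, Finset.card_map, fours4_quad v h2 hs h1]

theorem E_z : K.z ∉ F.E := fun h => by
  have := odd_order_of_mem (R := F.A) (by rw [F.card_A]; decide) (F.E_le_A h)
  rw [K.hz] at this
  exact absurd this (by decide)

theorem L_sq {x : F.X} (hx : x ∈ F.L) (hxx : x * x = 1) :
    x = 1 ∨ x = ((⟨K.z, F.z_mem⟩ : ↥F.Wz) : F.X) := by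
  obtain ⟨w, rfl⟩ := QuotientGroup.mk_surjective x
  obtain ⟨h2, hs⟩ := F.mem_L.1 hx
  have qE : ∀ {v v' : ↥F.Wz}, (v : G)⁻¹ * (v' : G) ∈ F.E → (v : F.X) = (v' : F.X) := fun h =>
    QuotientGroup.eq.2 h
  by_cases h1 : F.res w = 1
  · obtain ⟨e, he, h | h⟩ := F.ker_cases h1
    · refine Or.inl ((QuotientGroup.eq_one_iff w).2 ?_)
      show (w : G) ∈ F.E
      rw [h]; exact he
    · refine Or.inr (qE ?_)
      show (w : G)⁻¹ * K.z ∈ F.E
      rw [h, show (e * K.z)⁻¹ * K.z = K.z⁻¹ * (e⁻¹ * K.z) by group,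
        ((F.mem_Wz.1 (F.E_le_Wz (inv_mem he))).2).eq, inv_mul_cancel_left]
      exact inv_mem he
  exfalso
  obtain ⟨u, hu, hru, hua, hub⟩ := F.exists_up hs
  obtain ⟨e, he, h⟩ := F.ker_cases (w := u⁻¹ * w) (by rw [map_mul, map_inv, hru, inv_mul_cancel])
  have hue : Commute (u : G) e := by
    have hle : F.E ≤ Subgroup.centralizer ({(u : G)} : Set G) :=
      sup_le (Subgroup.zpowers_le.2 (Subgroup.mem_centralizer_singleton_iff.2 hua.symm))
        (Subgroup.zpowers_le.2 (Subgroup.mem_centralizer_singleton_iff.2 hub.symm))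
    exact (show Commute e u from Subgroup.mem_centralizer_singleton_iff.1 (hle he)).symm
  have huu := hu.sq (quad_via h2 hs h1)
  have key : ∃ n, ((n = e) ∨ n = e * K.z) ∧ (w : G) = u * n := by
    rcases h with h | h <;> refine ⟨_, ?_, (inv_mul_eq_iff_eq_mul.1 h)⟩
    · exact Or.inl rfl
    · exact Or.inr rfl
  obtain ⟨n, hn, hwn⟩ := key
  have hez : Commute e K.z := (F.mem_Wz.1 (F.E_le_Wz he)).2
  have hun : Commute (u : G) n := by
    rcases hn with rfl | rfl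
    exacts [hue, hue.mul_right (F.mem_Wz.1 u.2).2]
  have hnn : n * n = e * e := by
    rcases hn with rfl | rfl
    · rfl
    · rw [show e * K.z * (e * K.z) = e * (K.z * e) * K.z by group, ← hez.eq, ← mul_assoc, mul_assoc (e * e),
        z_mul_z, mul_one]
  have hmem : (w : G) * w ∈ F.E := by
    rw [← QuotientGroup.mk_mul] at hxx
    exact (QuotientGroup.eq_one_iff (w * w)).1 hxx
  rw [hwn, show (u : G) * n * (u * n) = u * (n * u) * n by group, ← hun.eq,
    show (u : G) * (u * n) * n = u * u * (n * n) by group, huu, hnn] at hmem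
  refine F.E_z ?_
  have := mul_mem hmem (inv_mem (mul_mem he he))
  rwa [mul_inv_cancel_right] at this

theorem L_cent : Subgroup.centralizer (F.L : Set F.X) ≤ F.L := by
  intro x hx
  obtain ⟨w, rfl⟩ := QuotientGroup.mk_surjective x
  refine F.mem_L.2 (fours4_comm _ fun v hv => ?_)
  obtain ⟨u, -, hu, -, -⟩ := F.exists_up hv.2
  have h := Subgroup.mem_centralizer_iff.1 hx _ (show (u : F.X) ∈ F.L from F.mem_L.2 (by rw [hu]; exact hv))
  rw [← QuotientGroup.mk_mul, ← QuotientGroup.mk_mul] at h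
  have h' := F.res_congr h
  rw [map_mul, map_mul, hu] at h'
  exact h'.symm

theorem L_na : ¬ ∀ x y : ↥F.L, x * y = y * x := by
  intro h
  set v1 : Perm (Fin 4) := swap 0 1 * swap 2 3
  set v2 : Perm (Fin 4) := swap 0 2 * swap 1 3
  have e1 : v1 * v1 = 1 ∧ sign v1 = 1 ∧ v1 ≠ 1 := by decide +kernel
  have e2 : v2 * v2 = 1 ∧ sign v2 = 1 ∧ v2 ≠ 1 := by decide +kernel
  have e3 : (v1 * v2) * (v1 * v2) = 1 ∧ sign (v1 * v2) = 1 ∧ v1 * v2 ≠ 1 := by decide +kernel
  obtain ⟨u1, hu1, r1, -, -⟩ := F.exists_up e1.2.1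
  obtain ⟨u2, hu2, r2, -, -⟩ := F.exists_up e2.2.1
  have hq := quad_via e3.1 e3.2.1 e3.2.2
  rw [map_mul] at hq
  have ha := hu1.anticomm hu2 (quad_via e1.1 e1.2.1 e1.2.2) (quad_via e2.1 e2.2.1 e2.2.2) hq
  have h' := congrArg Subtype.val (h ⟨(u1 : F.X), F.mem_L.2 (by rw [r1]; exact ⟨e1.1, e1.2.1⟩)⟩
    ⟨(u2 : F.X), F.mem_L.2 (by rw [r2]; exact ⟨e2.1, e2.2.1⟩)⟩)
  simp only [Subgroup.coe_mul, ← QuotientGroup.mk_mul] at h'
  have hm : ((u2 * u1)⁻¹ * (u1 * u2) : ↥F.Wz) ∈ F.EW := QuotientGroup.eq.1 h'.symm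
  refine F.E_z ?_
  have e : (((u2 * u1)⁻¹ * (u1 * u2) : ↥F.Wz) : G) = K.z := by
    show ((u2 : G) * u1)⁻¹ * ((u1 : G) * u2) = K.z
    rw [ha, inv_mul_cancel_left]
  exact e ▸ hm

/-- The quotient is `GL(2,3)`. -/
theorem exists_isoX : Nonempty (F.X ≃* GL (Fin 2) (ZMod 3)) := by
  haveI := F.L_normal
  refine CentSix.iso_gl_two_three F.card_X F.L F.card_L ?_ F.L_na F.L_cent
    ((⟨F.T, F.T_mem⟩ : ↥F.Wz) : F.X) ?_ ?_
  · refine ⟨((⟨K.z, F.z_mem⟩ : ↥F.Wz) : F.X), F.mem_L.2 (by rw [F.res_z]; exact ⟨one_mul 1, map_one _⟩), ?_⟩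
    exact fun x hx h => F.L_sq hx h
  · rw [← QuotientGroup.mk_mul]
    exact (QuotientGroup.eq_one_iff _).2 (show F.T * F.T ∈ F.E by rw [F.sq]; exact one_mem _)
  · rw [F.mem_L, F.res_T]
    exact fun h => absurd h.2 (by decide +kernel)

end Cfg.Triple

end Cfsg.Agent.Invol.TwoAn
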