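import Mathlib
import Cfsg.Agent.Lib.Invol.TwoAn.TenQ
import Cfsg.Agent.Lib.Invol.SD16Core.Main
import Cfsg.Agent.Lib.Invol.PResidual

/-!
# Degree ten is impossible
-/

set_option autoImplicit false
set_option linter.unusedSectionVars false
set_option maxRecDepth 100000

namespace Cfsg.Agent.Invol.TwoAn

open Equiv Equiv.Perm
open scoped commutatorElement

universe u

variable {G : Type u} [Group G] [Finite G]

open GL23 in
theorem semi_central (a : ↥GL23.Semi) (h2 : a * a = 1) (h1 : a ≠ 1) (hc : ∀ b, a * b = b * a) :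
    a = ⟨GL23.neg, SD16Core.neg_mem_semi⟩ := by
  refine Subtype.ext (toV_injective ((semi_central_table _ (mem_units _) a.2 ?_ ?_ (decide_eq_true ?_)).trans
    toV_neg.symm))
  · rw [← toV_mul, ← toV_one]
    exact congrArg toV (congrArg Subtype.val h2)
  · rw [← toV_one]
    exact fun e => h1 (Subtype.ext (toV_injective e))
  · intro v hv hvS
    obtain ⟨b, rfl⟩ := toV_surj (Finset.mem_filter.1 hv).2
    rw [← toV_mul, ← toV_mul]
    exact congrArg toV (congrArg Subtype.val (hc ⟨b, hvS⟩))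

namespace Cfg.Triple

variable {K : Cfg G 10} {h9 : 9 ≤ 10} (F : Triple K h9)

/-- A normal subgroup of odd order lies in `E`. -/
theorem odd_normal_le_E {N : Subgroup G} (hN : N ≤ F.Wz) (hn : ∀ w ∈ F.Wz, ∀ x ∈ N, w * x * w⁻¹ ∈ N)
    (ho : Odd (Nat.card N)) : N ≤ F.E := by
  have hord : ∀ x : ↥F.Wz, (x : G) ∈ N → Odd (orderOf (F.res x)) := fun x hx => by
    refine (odd_order_of_mem ho hx).of_dvd_nat ?_
    rw [Subgroup.orderOf_coe]
    exact orderOf_map_dvd _ _
  intro x hx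
  set w : ↥F.Wz := ⟨x, hN hx⟩
  have h1 : F.res w = 1 := by
    by_contra hne
    have h3 : F.res w ^ 3 = 1 := by
      refine orderOf_dvd_iff_pow_eq_one.1 ?_
      have hd : orderOf (F.res w) ∣ 2 ^ 3 * 3 := (orderOf_dvd_natCard _).trans (by
        rw [Nat.card_perm, Nat.card_fin]; decide)
      exact (Nat.Coprime.pow_right 3 (Nat.coprime_two_right.2 (hord w hx))).dvd_of_dvd_mul_left hd
    obtain ⟨g, hg1, hg2⟩ := odd4_normal _ h3 hne
    obtain ⟨v, rfl⟩ := F.res_surj g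
    have hmem : ((v * w * v⁻¹ * w⁻¹ : ↥F.Wz) : G) ∈ N := mul_mem (hn v v.2 x hx) (inv_mem hx)
    have h5 := hord _ hmem
    rw [map_mul, map_mul, map_mul, map_inv, map_inv] at h5
    exact hg1 (orderOf_eq_one_iff.1 (Nat.eq_one_of_dvd_coprimes (Nat.coprime_two_right.2 h5) dvd_rfl
      (orderOf_dvd_of_pow_eq_one hg2)))
  exact F.odd_ker (w := w) h1 (odd_order_of_mem ho hx)

/-- `z` in the centralizer of `a b`. -/
def zW : ↥F.W := ⟨K.z, F.z_mem.1⟩

theorem zW_ord : orderOf F.zW = 2 := by rw [← Subgroup.orderOf_coe]; exact K.hz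

theorem cW_mem {g : ↥(Subgroup.centralizer ({F.zW} : Set ↥F.W))} : ((g : ↥F.W) : G) ∈ F.Wz :=
  ⟨(g : ↥F.W).2, Subgroup.mem_centralizer_singleton_iff.2
    (congrArg Subtype.val (Subgroup.mem_centralizer_singleton_iff.1 g.2))⟩

/-- The map to the preimage. -/
def toWz : ↥(Subgroup.centralizer ({F.zW} : Set ↥F.W)) →* ↥F.Wz where
  toFun g := ⟨((g : ↥F.W) : G), F.cW_mem⟩
  map_one' := rfl
  map_mul' _ _ := rfl

theorem exists_data : ∃ D : SD16Core.Data ↥F.W, D.u = F.zW ∧ ∀ e : ↥F.W, (e : G) ∈ F.E → e ∈ D.O := by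
  obtain ⟨m⟩ := F.exists_isoX
  set π := m.toMonoidHom.comp ((QuotientGroup.mk' F.EW).comp F.toWz) with hπ
  have surj : Function.Surjective π := by
    refine m.surjective.comp ((QuotientGroup.mk'_surjective _).comp ?_)
    intro w
    exact ⟨⟨⟨(w : G), w.2.1⟩, Subgroup.mem_centralizer_singleton_iff.2
      (Subtype.ext (Subgroup.mem_centralizer_singleton_iff.1 w.2.2))⟩, rfl⟩
  have hker : ∀ g, π g = 1 → ((g : ↥F.W) : G) ∈ F.E := fun g hg => by
    have h1 : QuotientGroup.mk' F.EW (F.toWz g) = 1 := m.injective (hg.trans (map_one m).symm)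
    exact (QuotientGroup.eq_one_iff (F.toWz g)).1 h1
  have odd : ¬ 2 ∣ Nat.card π.ker := by
    intro h2
    haveI := Fact.mk Nat.prime_two
    obtain ⟨⟨g, hg⟩, ho⟩ := exists_prime_orderOf_dvd_card' 2 h2
    rw [Subgroup.orderOf_mk, ← Subgroup.orderOf_coe, ← Subgroup.orderOf_coe] at ho
    have h3 := odd_order_of_mem (R := F.A) (by rw [F.card_A]; decide) (F.E_le_A (hker g hg))
    rw [ho] at h3
    exact absurd h3 (by decide)
  obtain ⟨D, hD⟩ := SD16Core.exists_data F.zW_ord π surj odd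
  refine ⟨D, hD, ?_⟩
  set N := D.O.map F.W.subtype with hN
  have hNW : N ≤ F.Wz := by
    rintro _ ⟨x, hx, rfl⟩
    have hx' := Subgroup.mem_centralizer_singleton_iff.1 (D.O_le hx)
    rw [hD] at hx'
    exact ⟨x.2, Subgroup.mem_centralizer_singleton_iff.2 (congrArg Subtype.val hx')⟩
  have hNn : ∀ w ∈ F.Wz, ∀ x ∈ N, w * x * w⁻¹ ∈ N := by
    rintro w hw _ ⟨x, hx, rfl⟩
    have hwc : (⟨w, hw.1⟩ : ↥F.W) ∈ Subgroup.centralizer ({D.u} : Set ↥F.W) := by
      rw [hD]; exact Subgroup.mem_centralizer_singleton_iff.2 (Subtype.ext (F.mem_Wz.1 hw).2.eq)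
    exact ⟨_, (Subgroup.mem_normalizer_iff.1 (D.le_normalizer hwc) x).1 hx, rfl⟩
  have hNo : Odd (Nat.card N) := by
    rw [hN, Subgroup.card_map_of_injective F.W.subtype_injective, D.card_O, ← Nat.not_even_iff_odd, even_iff_two_dvd]
    exact D.odd
  have hle := F.odd_normal_le_E hNW hNn hNo
  have hcard : 9 ≤ Nat.card N := by
    rw [hN, Subgroup.card_map_of_injective F.W.subtype_injective, D.card_O]
    have h1 := D.card_C
    have h2 : Nat.card ↥F.Wz = Nat.card (Subgroup.centralizer ({D.u} : Set ↥F.W)) := by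
      rw [hD]
      exact (Nat.card_congr ⟨fun g => F.toWz g, fun w => ⟨⟨(w : G), w.2.1⟩,
        Subgroup.mem_centralizer_singleton_iff.2 (Subtype.ext (F.mem_Wz.1 w.2).2.eq)⟩,
        fun _ => rfl, fun _ => rfl⟩).symm
    rw [← h2, F.card_Wz_eq] at h1
    omega
  have heq : N = F.E := Subgroup.eq_of_le_of_card_ge hle (by rw [F.card_E]; exact hcard)
  intro e he
  rw [← heq] at he
  obtain ⟨x, hx, hxe⟩ := he
  rwa [← show x = e from Subtype.ext hxe]

include F in
theorem not_ten : False := by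
  classical
  haveI := Fact.mk Nat.prime_two
  obtain ⟨D, hD, hE⟩ := F.exists_data
  obtain ⟨ρ, hρ, r1, -, r3⟩ := F.exists_rot (by norm_num)
  set ρW : ↥F.W := ⟨ρ, F.mem_W.2 hρ⟩
  set TW : ↥F.W := ⟨F.T, F.T_mem.1⟩
  have e1 : ρW * F.zW * ρW⁻¹ = TW := Subtype.ext r1
  -- a Sylow subgroup inside the centralizer of `z`
  obtain ⟨P, hP⟩ := (IsPGroup.of_card (p := 2) (n := 4) (G := D.p.range) (by rw [D.card_range]; norm_num)).exists_le_sylow
  have hPr : D.p.range = (P : Subgroup ↥F.W) := by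
    obtain ⟨j, hj⟩ := IsPGroup.iff_card.1 P.isPGroup'
    refine Subgroup.eq_of_le_of_card_ge hP ?_
    have hd : 2 ^ j ∣ Nat.card ↥F.W := hj ▸ Subgroup.card_subgroup_dvd_card _
    rw [D.card_range, hj]
    by_contra hlt
    have hj5 : 5 ≤ j := by
      by_contra h
      have := Nat.pow_le_pow_right (show 0 < 2 by norm_num) (show j ≤ 4 by omega)
      omega
    exact D.sylow_sixteen (by simpa using (pow_dvd_pow 2 hj5).trans hd)
  have hPC : ∀ x ∈ (P : Subgroup ↥F.W), (x : G) ∈ F.Wz := fun x hx => by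
    rw [← hPr] at hx
    obtain ⟨q, rfl⟩ := hx
    have h := D.comm (D.p_mem q)
    rw [hD] at h
    exact ⟨(D.p q).2, Subgroup.mem_centralizer_singleton_iff.2 (congrArg Subtype.val h)⟩
  -- anything normal containing `z`, `T` and the elements of order three contains the preimage
  have absorb : ∀ {A : Type u} [CommGroup A] (φ : ↥F.W →* A), (∀ x : ↥F.W, ∃ k, φ x ^ 2 ^ k = 1) →
      ∀ w : ↥F.W, (w : G) ∈ F.Wz → φ w = 1 := by
    intro A _ φ h2 w hw
    have three : ∀ x : ↥F.W, x ^ 3 = 1 → φ x = 1 := fun x hx => by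
      obtain ⟨k, hk⟩ := h2 x
      exact orderOf_eq_one_iff.1 (Nat.eq_one_of_dvd_coprimes (Nat.Coprime.pow_right k (by norm_num : Nat.Coprime 3 2))
        (orderOf_dvd_of_pow_eq_one (show φ x ^ 3 = 1 by rw [← map_pow, hx, map_one])) (orderOf_dvd_of_pow_eq_one hk))
    have hconj : ∀ g x, φ (g * x * g⁻¹) = φ x := fun g x => by
      rw [map_mul, map_mul, map_inv, mul_comm (φ g), mul_inv_cancel_right]
    have hz : φ F.zW = 1 := by
      have h1 : φ TW = φ F.zW := e1 ▸ hconj ρW F.zW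
      have h3 : φ (TW * F.zW) = φ F.zW := by
        rw [← hconj ρW (TW * F.zW)]
        exact congrArg φ (Subtype.ext r3)
      rw [map_mul, h1, mul_eq_left] at h3
      exact h3
    have hT : φ TW = 1 := (e1 ▸ hconj ρW F.zW : φ TW = φ F.zW).trans hz
    have hWzW : F.Wz ≤ F.W := fun x hx => hx.1
    let ψ : ↥F.Wz →* A := φ.comp (Subgroup.inclusion hWzW)
    have hk : ∀ v : ↥F.Wz, F.res v = 1 → ψ v = 1 := by
      intro v hv
      obtain ⟨e, he, h | h⟩ := F.ker_cases hv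
      · exact three _ (Subtype.ext (by show (v : G) ^ 3 = 1; rw [h]; exact F.A_cube (F.E_le_A he)))
      · have : Subgroup.inclusion hWzW v = ⟨e, (F.E_le_Wz he).1⟩ * F.zW := Subtype.ext h
        show φ (Subgroup.inclusion hWzW v) = 1
        rw [this, map_mul, hz, mul_one]
        exact three _ (Subtype.ext (F.A_cube (F.E_le_A he)))
    have hcong : ∀ v v' : ↥F.Wz, F.res v = F.res v' → ψ v = ψ v' := fun v v' h => by
      have := hk (v⁻¹ * v') (by rw [map_mul, map_inv, h, inv_mul_cancel])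
      rwa [map_mul, map_inv, inv_mul_eq_one] at this
    have heven : ∀ v : ↥F.Wz, sign (F.res v) = 1 → ψ v = 1 := by
      intro v hv
      obtain ⟨p, q, hpq⟩ := even4_comm _ hv
      obtain ⟨vp, rfl⟩ := F.res_surj p
      obtain ⟨vq, rfl⟩ := F.res_surj q
      rw [hcong v (vp * vq * vp⁻¹ * vq⁻¹) (by rw [hpq]; simp only [map_mul, map_inv]), map_mul, map_mul, map_mul,
        map_inv, map_inv, mul_comm (ψ vp), mul_inv_cancel_right, mul_inv_cancel]
    set w' : ↥F.Wz := ⟨w, hw⟩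
    show ψ w' = 1
    rcases Int.units_eq_one_or (sign (F.res w')) with h | h
    · exact heven w' h
    · have h1 := heven (w' * ⟨F.T, F.T_mem⟩) (by rw [map_mul, map_mul, h, F.res_T, sign_swap (by decide)]; rfl)
      rw [map_mul, show ψ ⟨F.T, F.T_mem⟩ = φ TW from rfl, hT, mul_one] at h1
      exact h1
  have hres : Cfsg.pResidual 2 ↥F.W = ⊤ := by
    set M := Cfsg.pResidual 2 ↥F.W with hM
    haveI : M.Normal := by
      haveI : (Cfsg.pResidual 2 ↥F.W).Characteristic := Invol.pResidual_characteristic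
      exact inferInstanceAs (Cfsg.pResidual 2 ↥F.W).Normal
    by_contra hne
    have hp : IsPGroup 2 (↥F.W ⧸ M) := Invol.isPGroup_quotient_pResidual
    haveI : Nontrivial (↥F.W ⧸ M) := by
      by_contra hn
      rw [not_nontrivial_iff_subsingleton] at hn
      exact hne (eq_top_iff.2 fun x _ => (QuotientGroup.eq_one_iff x).1 (Subsingleton.elim _ _))
    haveI := hp.isNilpotent
    have hlt := Group.IsSolvable.commutator_lt_top_of_nontrivial (↥F.W ⧸ M)
    set φ : ↥F.W →* Abelianization (↥F.W ⧸ M) := Abelianization.of.comp (QuotientGroup.mk' M)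
    have h2 : ∀ x : ↥F.W, ∃ k, φ x ^ 2 ^ k = 1 := fun x => by
      obtain ⟨k, hk⟩ := hp (QuotientGroup.mk' M x)
      refine ⟨k, ?_⟩
      show Abelianization.of (QuotientGroup.mk' M x) ^ 2 ^ k = 1
      rw [← map_pow, hk, map_one]
    have hker : φ.ker = ⊤ := by
      refine eq_top_iff.2 ((Invol.pResidual_sup_sylow P).ge.trans (sup_le ?_ fun x hx => absorb φ h2 x (hPC x hx)))
      intro x hx
      rw [MonoidHom.mem_ker]
      show Abelianization.of (QuotientGroup.mk' M x) = 1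
      rw [show QuotientGroup.mk' M x = 1 from (QuotientGroup.eq_one_iff x).2 hx, map_one]
    refine hlt.ne (eq_top_iff.2 fun y _ => ?_)
    obtain ⟨x, rfl⟩ := QuotientGroup.mk'_surjective M y
    have hx : φ x = 1 := MonoidHom.mem_ker.1 (hker.symm ▸ Subgroup.mem_top x)
    exact (QuotientGroup.eq_one_iff _).1 hx
  cases nonempty_fintype ↥F.W
  cases nonempty_fintype ↥(Subgroup.centralizer ({D.u} : Set ↥F.W))
  obtain ⟨M, hM⟩ := Cfsg.Agent.Char.exists_isPModular 2 Nat.prime_two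
  obtain ⟨χ, hne, hker⟩ := D.exists_kernel hM hres
  have hc := Cfsg.Agent.Block.irr_isChar χ
  set N := Cfsg.Agent.Char.charKer hc with hN
  haveI hNn : N.Normal := Cfsg.Agent.Char.charKer_normal hc
  have hEN : ∀ e : ↥F.W, (e : G) ∈ F.E → e ∈ N := fun e he =>
    (Cfsg.Agent.Char.mem_charKer hc).2 (hker e (hE e he))
  have hNtop : N ≠ ⊤ := by
    intro hb
    by_cases hne' : χ = Cfsg.Agent.Block.trivialIrr ↥F.W
    · exact hne hne'
    have h0 := Cfsg.Agent.Char.classInner_irr_ne χ.2 Cfsg.Agent.Char.isIrr_one fun e => hne' (Subtype.ext e)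
    rw [Cfsg.classInner, Finset.sum_congr rfl (g := fun _ => (χ : ↥F.W → ℂ) 1) (fun g _ => by
      rw [map_one, mul_one, (Cfsg.Agent.Char.mem_charKer hc).1 (show g ∈ N by rw [hb]; exact Subgroup.mem_top g)]), Finset.sum_const,
      nsmul_eq_mul, Finset.card_univ, ← Nat.card_eq_fintype_card, ← mul_assoc,
      inv_mul_cancel₀ (Nat.cast_ne_zero.2 Nat.card_pos.ne'), one_mul] at h0
    exact Cfsg.Agent.Block.irr_one_ne_zero χ h0
  have hconj : ∀ v ∈ F.W, v * v = 1 → v ≠ 1 → ∃ w ∈ F.W, w * v * w⁻¹ = K.z := by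
    intro v hv h2 h1
    have hc' := D.all_conj hres (z := ⟨v, hv⟩) (orderOf_eq_prime (by rw [pow_two]; exact Subtype.ext h2)
      fun e => h1 (congrArg Subtype.val e))
    obtain ⟨g, hg⟩ := isConj_iff.1 hc'.symm
    rw [hD] at hg
    exact ⟨g, g.2, congrArg Subtype.val hg⟩
  have hNodd : Odd (Nat.card N) := by
    by_contra hev
    obtain ⟨v, hv, hv2, hv1⟩ := exists_invol hev
    obtain ⟨w, hw, hwz⟩ := hconj (v : G) v.2 (congrArg Subtype.val hv2) fun e => hv1 (Subtype.ext e)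
    have hzN : F.zW ∈ N := by
      have := hNn.conj_mem v hv ⟨w, hw⟩
      rwa [show (⟨w, hw⟩ : ↥F.W) * v * ⟨w, hw⟩⁻¹ = F.zW from Subtype.ext hwz] at this
    have hTN : TW ∈ N := e1 ▸ hNn.conj_mem _ hzN ρW
    have hWzW : F.Wz ≤ F.W := fun x hx => hx.1
    let N' : Subgroup ↥F.Wz := N.comap (Subgroup.inclusion hWzW)
    have hall : ∀ x : ↥F.Wz, x ∈ N' := by
      have hk : ∀ v : ↥F.Wz, F.res v = 1 → v ∈ N' := by
        intro v hv'
        obtain ⟨e, he, h | h⟩ := F.ker_cases hv'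
        · exact hEN _ (by rw [← h] at he; exact he)
        · have e' : Subgroup.inclusion hWzW v = ⟨e, (F.E_le_Wz he).1⟩ * F.zW := Subtype.ext h
          show Subgroup.inclusion hWzW v ∈ N
          rw [e']; exact mul_mem (hEN _ he) hzN
      have hsur := F.res_surj
      haveI hn' : N'.Normal := Subgroup.normal_comap _
      haveI : (N'.map F.res).Normal := Subgroup.Normal.map hn' _ hsur
      have hsw : swap (0 : Fin 4) 1 ∈ N'.map F.res := ⟨⟨F.T, F.T_mem⟩, hTN, F.res_T⟩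
      have gen : ∀ i j : Fin 4, i ≠ j → swap i j ∈ N'.map F.res := by
        intro i j hij
        obtain ⟨g, hg⟩ := (by decide +kernel : ∀ i j : Fin 4, i ≠ j → ∃ g : Perm (Fin 4),
          g * swap 0 1 * g⁻¹ = swap i j) i j hij
        exact hg ▸ Subgroup.Normal.conj_mem inferInstance _ hsw g
      intro x
      have hx : F.res x ∈ N'.map F.res := Perm.swap_induction_on
        (motive := fun v => v ∈ N'.map F.res) (F.res x) (one_mem _)
        fun f i j hij hf => mul_mem (gen i j hij) hf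
      obtain ⟨y, hy, hyx⟩ := hx
      have := mul_mem hy (hk (y⁻¹ * x) (by rw [map_mul, map_inv, hyx, inv_mul_cancel]))
      rwa [mul_inv_cancel_left] at this
    have hPN : (P : Subgroup ↥F.W) ≤ N := fun x hx => hall ⟨(x : G), hPC x hx⟩
    refine hNtop (eq_top_iff.2 fun g _ => ?_)
    have hfr := Sylow.normalizer_sup_eq_top' P hPN
    rw [Subgroup.eq_top_iff'] at hfr
    have hle : Subgroup.normalizer ((P : Subgroup ↥F.W) : Set ↥F.W) ⊔ N ≤ N := by
      refine sup_le (fun n hn => ?_) le_rfl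
      have huP : D.u ∈ (P : Subgroup ↥F.W) := hPr ▸ ⟨_, D.p_neg⟩
      have hmem : n * D.u * n⁻¹ ∈ D.p.range := hPr.symm ▸ (Subgroup.mem_normalizer_iff.1 hn D.u).1 huP
      obtain ⟨a, ha⟩ := hmem
      have hcent : ∀ b, a * b = b * a := by
        intro b
        refine D.p_inj ?_
        obtain ⟨c, hc⟩ : n⁻¹ * D.p b * n⁻¹⁻¹ ∈ D.p.range :=
          hPr.symm ▸ (Subgroup.mem_normalizer_iff.1 (inv_mem hn) (D.p b)).1 (hPr ▸ ⟨b, rfl⟩)
        rw [map_mul, map_mul, ha, show D.p b = n * D.p c * n⁻¹ by rw [hc]; group,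
          show n * D.u * n⁻¹ * (n * D.p c * n⁻¹) = n * (D.u * D.p c) * n⁻¹ by group,
          show n * D.p c * n⁻¹ * (n * D.u * n⁻¹) = n * (D.p c * D.u) * n⁻¹ by group, D.comm (D.p_mem c)]
      have ha1 : a ≠ 1 := fun e => by
        rw [e, map_one] at ha
        exact D.u_ne_one (conj_eq_one_iff.1 ha.symm)
      have ha2 : a * a = 1 := D.p_inj (by
        rw [map_mul, ha, map_one, show n * D.u * n⁻¹ * (n * D.u * n⁻¹) = n * (D.u * D.u) * n⁻¹ by group, D.u_sq]
        group)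
      have ha' : a = ⟨GL23.neg, SD16Core.neg_mem_semi⟩ := semi_central a ha2 ha1 hcent
      rw [ha', D.p_neg, hD] at ha
      have hn' : (n : G) ∈ F.Wz := ⟨n.2, Subgroup.mem_centralizer_singleton_iff.2
        (congrArg Subtype.val (eq_mul_inv_iff_mul_eq.1 ha).symm)⟩
      exact hall ⟨(n : G), hn'⟩
    exact hle (hfr g)
  -- the three generators
  set NG := N.map F.W.subtype
  have hNO : NG ≤ F.O := F.le_O (Subgroup.map_subtype_le _) (by
    rintro w hw _ ⟨x, hx, rfl⟩
    exact ⟨_, hNn.conj_mem x hx ⟨w, hw⟩, rfl⟩) (by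
    rw [Subgroup.card_map_of_injective F.W.subtype_injective]; exact hNodd)
  have haO : F.a ∈ F.O := hNO ⟨⟨F.a, F.a_mem.1⟩, hEN _ F.a_E, rfl⟩
  have hOz : F.O ⊓ Subgroup.centralizer ({K.z} : Set G) ≤ F.E := by
    refine F.odd_normal_le_E (fun x hx => ⟨F.O_le hx.1, hx.2⟩) (fun w hw x hx => ?_)
      (F.O_odd.of_dvd_nat (Subgroup.card_dvd_of_le inf_le_left))
    exact ⟨F.O_conj (Or.inl (F.W_conj hw.1)) hx.1, Subgroup.mul_mem _ (Subgroup.mul_mem _ hw.2 hx.2)
      (Subgroup.inv_mem _ hw.2)⟩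
  have hc : F.c ∈ F.O := F.mem_O_of (Or.inl ⟨rfl, rfl⟩) haO (hOz.trans F.E_le_A) hρ r1 hconj
  obtain ⟨h', hr⟩ := F.E_res (hOz ⟨hc, Subgroup.mem_centralizer_singleton_iff.2 F.cz⟩)
  rw [F.res_c] at hr
  exact absurd hr (by decide +kernel)

end Cfg.Triple

theorem Cfg.not_ten [IsSimpleGroup G] (K : Cfg G 10) : False := by
  obtain ⟨F⟩ := Cfg.exists_triple (K := K) (show 9 ≤ 10 by norm_num)
  exact F.not_ten

end Cfsg.Agent.Invol.TwoAn
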